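import Groth.Agent.Lib.Excellent.NorLocusOpen
import Groth.Agent.Lib.Henselian.Normal
import Mathlib.RingTheory.LocalProperties.IntegrallyClosed
import Mathlib.RingTheory.Polynomial.IsIntegral
import Mathlib.RingTheory.MvPolynomial.Localization
import Mathlib.RingTheory.Localization.Free
import Mathlib.RingTheory.DedekindDomain.IntegralClosure
import Mathlib.FieldTheory.Separable

/-!
Generic normality of domains: ascent along generically separable extensions, descent along finite
extensions.
-/

set_option linter.style.haveILetI false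
set_option linter.unusedSectionVars false

universe u

namespace Groth.Agent.Lib.Excellent.GenericNormal

open Polynomial

/-- Some `B_f` with `f ≠ 0` is integrally closed. -/
def GenNor (B : Type u) [CommRing B] : Prop :=
  ∃ f : B, f ≠ 0 ∧ IsIntegrallyClosed (Localization.Away f)

variable {B : Type u} [CommRing B] [IsDomain B]

theorem isDomain_away {f : B} (hf : f ≠ 0) : IsDomain (Localization.Away f) :=
  IsLocalization.isDomain_localization (powers_le_nonZeroDivisors_of_noZeroDivisors hf)

theorem genNor_iff :
    GenNor B ↔ ∃ U : Set (PrimeSpectrum B), IsOpen U ∧ U.Nonempty ∧ U ⊆ EGA4.norLocus B := by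
  constructor
  · rintro ⟨f, hf, hf'⟩
    haveI := isDomain_away hf
    refine ⟨PrimeSpectrum.basicOpen f, (PrimeSpectrum.basicOpen f).isOpen,
      ⟨⟨⊥, Ideal.isPrime_bot⟩, fun hb => hf (by simpa using hb)⟩, fun q hq => ⟨inferInstance, ?_⟩⟩
    obtain ⟨q', rfl⟩ : q ∈ Set.range (PrimeSpectrum.comap (algebraMap B (Localization.Away f))) := by
      rw [PrimeSpectrum.localization_away_comap_range (Localization.Away f) f]
      exact hq
    haveI : IsLocalization.AtPrime (Localization.AtPrime q'.asIdeal)
        (q'.asIdeal.comap (algebraMap B (Localization.Away f))) :=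
      IsLocalization.isLocalization_isLocalization_atPrime_isLocalization (Submonoid.powers f)
        (Localization.AtPrime q'.asIdeal) q'.asIdeal
    haveI : IsIntegrallyClosed (Localization.AtPrime q'.asIdeal) :=
      isIntegrallyClosed_of_isLocalization _ q'.asIdeal.primeCompl
        q'.asIdeal.primeCompl_le_nonZeroDivisors
    exact IsIntegrallyClosed.of_equiv (IsLocalization.algEquiv
      (q'.asIdeal.comap (algebraMap B (Localization.Away f))).primeCompl
      (Localization.AtPrime q'.asIdeal)
      (Localization.AtPrime (q'.asIdeal.comap (algebraMap B (Localization.Away f))))).toRingEquiv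
  · rintro ⟨U, hU, ⟨P, hP⟩, hnor⟩
    obtain ⟨_, ⟨_, ⟨f, rfl⟩, rfl⟩, hPf, hfU⟩ :=
      PrimeSpectrum.isBasis_basic_opens.exists_subset_of_mem_open hP hU
    have hf : f ≠ 0 := fun h => hPf (by simp [h])
    haveI := isDomain_away hf
    refine ⟨f, hf, IsIntegrallyClosed.of_localization_maximal fun M _ hM => ?_⟩
    haveI := hM.isPrime
    have hfM : PrimeSpectrum.comap (algebraMap B (Localization.Away f)) ⟨M, hM.isPrime⟩ ∈
        PrimeSpectrum.basicOpen f := fun h => hM.ne_top
      (Ideal.eq_top_of_isUnit_mem _ h (IsLocalization.map_units _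
        (⟨f, Submonoid.mem_powers f⟩ : Submonoid.powers f)))
    haveI : IsIntegrallyClosed
        (Localization.AtPrime (M.comap (algebraMap B (Localization.Away f)))) := (hnor (hfU hfM)).2
    haveI : IsLocalization.AtPrime (Localization.AtPrime M)
        (M.comap (algebraMap B (Localization.Away f))) :=
      IsLocalization.isLocalization_isLocalization_atPrime_isLocalization (Submonoid.powers f)
        (Localization.AtPrime M) M
    exact IsIntegrallyClosed.of_equiv (IsLocalization.algEquiv
      (M.comap (algebraMap B (Localization.Away f))).primeCompl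
      (Localization.AtPrime (M.comap (algebraMap B (Localization.Away f))))
      (Localization.AtPrime M)).toRingEquiv

theorem genNor_of_isField (h : IsField B) : GenNor B :=
  letI := h.toField
  genNor_iff.2 ⟨Set.univ, isOpen_univ, Set.univ_nonempty, fun q _ => by
    have hq : q = ⟨⊥, Ideal.isPrime_bot⟩ :=
      PrimeSpectrum.ext ((Ideal.eq_bot_or_top q.asIdeal).resolve_right q.isPrime.ne_top)
    rw [hq]
    exact NorLocusOpen.bot_mem_norLocus⟩

/-- Enlarging the inverted element keeps normality. -/
theorem isIntegrallyClosed_away_mul {f : B} (hf : f ≠ 0)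
    (h : IsIntegrallyClosed (Localization.Away f)) {y : B} (hy : y ≠ 0) :
    IsIntegrallyClosed (Localization.Away (f * y)) := by
  haveI := isDomain_away hf
  let S := Localization.Away f
  let T := Localization.Away (algebraMap B S y)
  haveI : IsIntegrallyClosed T := isIntegrallyClosed_of_isLocalization _
    (Submonoid.powers (algebraMap B S y))
    (powers_le_nonZeroDivisors_of_noZeroDivisors ((map_ne_zero_iff _ (IsLocalization.injective S
      (powers_le_nonZeroDivisors_of_noZeroDivisors hf))).2 hy))
  haveI : IsLocalization.Away (f * y) T := IsLocalization.Away.mul' S T f y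
  exact IsIntegrallyClosed.of_equiv
    (IsLocalization.algEquiv (Submonoid.powers (f * y)) T (Localization.Away (f * y))).toRingEquiv

/-- Generic normality of a basic open piece. -/
theorem genNor_of_away {d : B} (hd : d ≠ 0) (Bd : Type u) [CommRing Bd] [Algebra B Bd]
    [IsLocalization.Away d Bd] (h : GenNor Bd) : GenNor B := by
  haveI : IsDomain Bd := IsLocalization.isDomain_of_le_nonZeroDivisors Bd
    (powers_le_nonZeroDivisors_of_noZeroDivisors hd)
  have hinj : Function.Injective (algebraMap B Bd) :=
    IsLocalization.injective Bd (powers_le_nonZeroDivisors_of_noZeroDivisors hd)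
  obtain ⟨g, hg, hgn⟩ := h
  obtain ⟨b, ⟨s, n, hn⟩, rfl⟩ := IsLocalization.exists_mk'_eq (Submonoid.powers d) g
  subst hn
  have hb : b ≠ 0 := fun hb => hg (by rw [hb, IsLocalization.mk'_zero])
  refine ⟨d * b, mul_ne_zero hd hb, ?_⟩
  have h2 := isIntegrallyClosed_away_mul hg hgn
    (y := algebraMap B Bd (d ^ n)) ((map_ne_zero_iff _ hinj).2 (pow_ne_zero n hd))
  rw [IsLocalization.mk'_spec] at h2
  haveI : IsLocalization.Away (d * b) (Localization.Away (algebraMap B Bd b)) :=
    IsLocalization.Away.mul' Bd _ d b
  exact IsIntegrallyClosed.of_equiv (IsLocalization.algEquiv (Submonoid.powers (d * b))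
    (Localization.Away (algebraMap B Bd b)) (Localization.Away (d * b))).toRingEquiv

theorem genNor_of_ringEquiv {C : Type u} [CommRing C] [IsDomain C] (e : B ≃+* C) (h : GenNor B) :
    GenNor C := by
  obtain ⟨f, hf, hfn⟩ := h
  refine ⟨e f, (map_ne_zero_iff _ e.injective).2 hf, ?_⟩
  exact IsIntegrallyClosed.of_equiv
    (IsLocalization.ringEquivOfRingEquiv (M := Submonoid.powers f) (T := Submonoid.powers (e f))
      (Localization.Away f) (Localization.Away (e f)) e (Submonoid.map_powers _ _))

theorem isIntegrallyClosed_mvPolynomial_fin {R : Type u} [CommRing R] [IsDomain R]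
    [IsIntegrallyClosed R] : ∀ n : ℕ, IsIntegrallyClosed (MvPolynomial (Fin n) R)
  | 0 => IsIntegrallyClosed.of_equiv (MvPolynomial.isEmptyRingEquiv R (Fin 0)).symm
  | n + 1 => by
    haveI := isIntegrallyClosed_mvPolynomial_fin (R := R) n
    exact IsIntegrallyClosed.of_equiv (MvPolynomial.finSuccEquiv R n).toRingEquiv.symm

theorem isIntegrallyClosed_mvPolynomial {R : Type u} [CommRing R] [IsDomain R]
    [IsIntegrallyClosed R] {ι : Type u} [Finite ι] : IsIntegrallyClosed (MvPolynomial ι R) := by
  obtain ⟨n, ⟨e⟩⟩ := Finite.exists_equiv_fin ι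
  haveI := isIntegrallyClosed_mvPolynomial_fin (R := R) n
  exact IsIntegrallyClosed.of_equiv (MvPolynomial.renameEquiv R e.symm).toRingEquiv

/-- Generic normality of polynomial rings. -/
theorem genNor_mvPolynomial {R : Type u} [CommRing R] [IsDomain R]
    {ι : Type u} [Finite ι] (hR : GenNor R) : GenNor (MvPolynomial ι R) := by
  obtain ⟨a, ha, han⟩ := hR
  haveI := isDomain_away ha
  refine ⟨MvPolynomial.C a, by simpa using ha, ?_⟩
  letI : Algebra (MvPolynomial ι R) (MvPolynomial ι (Localization.Away a)) :=
    MvPolynomial.algebraMvPolynomial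
  haveI : IsLocalization.Away (MvPolynomial.C (σ := ι) a) (MvPolynomial ι (Localization.Away a)) := by
    change IsLocalization _ _
    rw [← Submonoid.map_powers]
    exact MvPolynomial.isLocalization (Submonoid.powers a) (Localization.Away a)
  haveI := isIntegrallyClosed_mvPolynomial (R := Localization.Away a) (ι := ι)
  exact IsIntegrallyClosed.of_equiv
    (IsLocalization.algEquiv (Submonoid.powers (MvPolynomial.C (σ := ι) a))
      (MvPolynomial ι (Localization.Away a)) _).toRingEquiv

/-- Core: over a normal ring, a generically separable domain of finite type is generically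
normal. -/
theorem genNor_of_isSeparable_of_normal {P : Type u} [CommRing P] [IsDomain P] [IsNoetherianRing P]
    [IsIntegrallyClosed P] [Algebra P B] [Algebra.FiniteType P B]
    (K L : Type u) [Field K] [Field L] [Algebra P K] [IsFractionRing P K] [Algebra B L]
    [IsFractionRing B L] [Algebra K L] [Algebra P L] [IsScalarTower P K L] [IsScalarTower P B L]
    [Algebra.IsSeparable K L] : GenNor B := by
  classical
  haveI : Algebra.EssFiniteType B L := Algebra.EssFiniteType.of_isLocalization L (nonZeroDivisors B)
  haveI : Algebra.EssFiniteType P L := Algebra.EssFiniteType.comp P B L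
  haveI : Algebra.EssFiniteType K L := Algebra.EssFiniteType.of_comp P K L
  haveI : FiniteDimensional K L := Algebra.finite_of_essFiniteType_of_isAlgebraic
  let C := integralClosure P L
  haveI : Module.Finite P C := IsIntegralClosure.finite P K L C
  have hBinj : Function.Injective (algebraMap B L) := IsFractionRing.injective B L
  obtain ⟨GC, hGC⟩ := (inferInstance : Module.Finite P C).fg_top
  choose num den hden hnum using fun c : L =>
    IsFractionRing.div_surjective (A := B) c
  let e : B := ∏ c ∈ GC, den (c : L)
  have he : e ≠ 0 := Finset.prod_ne_zero_iff.2 fun c _ => nonZeroDivisors.ne_zero (hden _)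
  have hCB : ∀ c : C, ∃ b : B, algebraMap B L b = algebraMap B L e * (c : L) := by
    intro c
    have hc : c ∈ Submodule.span P (GC : Set C) := hGC ▸ Submodule.mem_top
    induction hc using Submodule.span_induction with
    | mem c hc =>
      obtain ⟨k, hk⟩ : den (c : L) ∣ e := Finset.dvd_prod_of_mem _ hc
      refine ⟨num (c : L) * k, ?_⟩
      conv_rhs => rw [← hnum (c : L)]
      rw [hk, map_mul, map_mul]
      have : algebraMap B L (den (c : L)) ≠ 0 :=
        (map_ne_zero_iff _ hBinj).2 (nonZeroDivisors.ne_zero (hden _))
      field_simp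
    | zero => exact ⟨0, by simp⟩
    | add x y _ _ hx hy =>
      obtain ⟨b, hb⟩ := hx
      obtain ⟨b', hb'⟩ := hy
      exact ⟨b + b', by rw [map_add, hb, hb', Subalgebra.coe_add, mul_add]⟩
    | smul r x _ hx =>
      obtain ⟨b, hb⟩ := hx
      refine ⟨r • b, ?_⟩
      rw [Algebra.smul_def, map_mul, hb, ← IsScalarTower.algebraMap_apply, Subalgebra.coe_smul,
        Algebra.smul_def]
      ring
  obtain ⟨G, hG⟩ := (inferInstance : Algebra.FiniteType P B).out
  haveI : Algebra.IsAlgebraic P L := ⟨fun x => (IsFractionRing.isAlgebraic_iff P K L).2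
    (Algebra.IsAlgebraic.isAlgebraic x)⟩
  obtain ⟨p, hp0, hp⟩ := Algebra.IsAlgebraic.exists_integral_multiples P (G.image (algebraMap B L))
  have hPinj : Function.Injective (algebraMap P L) := by
    rw [IsScalarTower.algebraMap_eq P K L]
    exact (algebraMap K L).injective.comp (IsFractionRing.injective P K)
  let π : B := algebraMap P B p
  have hπL : algebraMap B L π = algebraMap P L p := (IsScalarTower.algebraMap_apply P B L p).symm
  have hπ : π ≠ 0 := fun h => (map_ne_zero_iff _ hPinj).2 hp0 (by rw [← hπL, h, map_zero])
  have hBC : ∀ b : B, ∃ k : ℕ, IsIntegral P (algebraMap P L p ^ k * algebraMap B L b) := by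
    intro b
    have hb : b ∈ Algebra.adjoin P (G : Set B) := hG ▸ Algebra.mem_top
    induction hb using Algebra.adjoin_induction with
    | mem g hg =>
      refine ⟨1, ?_⟩
      have := hp _ (Finset.mem_image_of_mem (algebraMap B L) hg)
      rwa [Algebra.smul_def, ← pow_one (algebraMap P L p)] at this
    | algebraMap r =>
      exact ⟨0, by rw [pow_zero, one_mul, ← IsScalarTower.algebraMap_apply]; exact isIntegral_algebraMap⟩
    | add x y _ _ hx hy =>
      obtain ⟨k, hk⟩ := hx
      obtain ⟨l, hl⟩ := hy
      refine ⟨k + l, ?_⟩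
      rw [map_add, mul_add]
      refine IsIntegral.add ?_ ?_
      · rw [pow_add, mul_comm (algebraMap P L p ^ k), mul_assoc, ← map_pow]
        exact isIntegral_algebraMap.mul hk
      · rw [pow_add, mul_assoc, ← map_pow]
        exact isIntegral_algebraMap.mul hl
    | mul x y _ _ hx hy =>
      obtain ⟨k, hk⟩ := hx
      obtain ⟨l, hl⟩ := hy
      refine ⟨k + l, ?_⟩
      rw [map_mul, pow_add, mul_mul_mul_comm]
      exact hk.mul hl
  refine ⟨π * e, mul_ne_zero hπ he, ?_⟩
  let Bg := Localization.Away (π * e)
  have hle : Submonoid.powers (π * e) ≤ nonZeroDivisors B :=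
    powers_le_nonZeroDivisors_of_noZeroDivisors (mul_ne_zero hπ he)
  haveI : IsDomain Bg := IsLocalization.isDomain_localization hle
  have hge : algebraMap B L (π * e) ≠ 0 := (map_ne_zero_iff _ hBinj).2 (mul_ne_zero hπ he)
  letI : Algebra Bg L :=
    (IsLocalization.Away.lift (π * e) (g := algebraMap B L) (IsUnit.mk0 _ hge)).toAlgebra
  haveI : IsScalarTower B Bg L := IsScalarTower.of_algebraMap_eq fun b =>
    (IsLocalization.Away.lift_eq (π * e) _ b).symm
  haveI : IsFractionRing Bg L :=
    IsFractionRing.isFractionRing_of_isDomain_of_isLocalization (Submonoid.powers (π * e)) Bg L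
  rw [isIntegrallyClosed_iff L]
  intro x hx
  obtain ⟨⟨_, n, rfl⟩, hn⟩ :=
    IsIntegral.exists_multiple_integral_of_isLocalization (Submonoid.powers (π * e)) x hx
  obtain ⟨q, hqm, hqe⟩ := hn
  choose k hk using hBC
  let N := (q.support.sup fun i => k (q.coeff i))
  have hcoeff : ∀ i, IsIntegral P (algebraMap P L p ^ N * algebraMap B L (q.coeff i)) := by
    intro i
    by_cases hi : i ∈ q.support
    · obtain ⟨m, hm⟩ := Nat.exists_eq_add_of_le (Finset.le_sup (f := fun i => k (q.coeff i)) hi)
      rw [show N = m + k (q.coeff i) from hm.trans (add_comm _ _), pow_add, mul_assoc, ← map_pow]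
      exact isIntegral_algebraMap.mul (hk _)
    · rw [Polynomial.notMem_support_iff.1 hi, map_zero, mul_zero]
      exact isIntegral_zero
  let y : L := ((π * e) ^ n) • x
  let z : L := algebraMap P L p ^ N * y
  have hz : IsIntegral P z := by
    let Q := (q.map (algebraMap B L)).scaleRoots (algebraMap P L p ^ N)
    have hQm : Q.Monic := (Polynomial.monic_scaleRoots_iff _).2 (hqm.map _)
    have hdeg : Q.natDegree ≠ 0 := by
      rw [ne_eq, Polynomial.natDegree_scaleRoots, (hqm.map (algebraMap B L)).natDegree_eq_zero]
      intro h1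
      have : (q.map (algebraMap B L)).eval ((π * e) ^ n • x) = 0 := by
        rw [Polynomial.eval_map]; exact hqe
      rw [h1, Polynomial.eval_one] at this
      exact one_ne_zero this
    refine IsIntegral.of_aeval_monic_of_isIntegral_coeff (p := Q) hQm hdeg ?_ fun i => ?_
    · have h0 : Q.eval z = 0 := by
        have := Polynomial.scaleRoots_eval₂_eq_zero (p := q.map (algebraMap B L)) (RingHom.id L)
          (r := y) (s := algebraMap P L p ^ N) (by rw [Polynomial.eval₂_map, RingHom.id_comp]; exact hqe)
        rw [RingHom.id_apply] at this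
        exact this
      rw [h0]
      exact isIntegral_zero
    · rw [Polynomial.coeff_scaleRoots, Polynomial.coeff_map, Polynomial.natDegree_map_eq_of_injective hBinj]
      rcases lt_trichotomy i q.natDegree with hi | hi | hi
      · obtain ⟨m, hm⟩ := Nat.exists_eq_add_of_lt hi
        rw [show q.natDegree - i = m + 1 by omega, pow_succ', ← mul_assoc,
          mul_comm (algebraMap B L (q.coeff i))]
        refine (hcoeff i).mul ?_
        rw [← pow_mul, ← map_pow]
        exact isIntegral_algebraMap
      · subst hi
        rw [hqm.coeff_natDegree, map_one, Nat.sub_self, pow_zero, mul_one]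
        exact isIntegral_one
      · rw [Polynomial.coeff_eq_zero_of_natDegree_lt hi, map_zero, zero_mul]
        exact isIntegral_zero
  obtain ⟨b, hb⟩ := hCB ⟨z, hz⟩
  let sm : Submonoid.powers (π * e) := ⟨(π * e) ^ (N + 1 + n),
    (Submonoid.powers (π * e)).pow_mem (Submonoid.mem_powers _) _⟩
  have hsm : algebraMap B Bg ((π * e) ^ (N + 1 + n)) * IsLocalization.mk' Bg (b * π * e ^ N) sm =
      algebraMap B Bg (b * π * e ^ N) := IsLocalization.mk'_spec' Bg (b * π * e ^ N) sm
  refine ⟨IsLocalization.mk' Bg (b * π * e ^ N) sm, ?_⟩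
  refine mul_left_cancel₀ (pow_ne_zero (N + 1 + n) hge) ?_
  rw [← map_pow, IsScalarTower.algebraMap_apply B Bg L, ← map_mul, hsm,
    ← IsScalarTower.algebraMap_apply, ← IsScalarTower.algebraMap_apply, map_mul, map_mul, hb]
  simp only [z, y, map_pow, map_mul, hπL, Algebra.smul_def]
  ring

/-- Generic normality ascends along a generically separable algebraic extension. -/
theorem genNor_of_isSeparable {P : Type u} [CommRing P] [IsDomain P] [IsNoetherianRing P]
    [Algebra P B] [FaithfulSMul P B] [Algebra.FiniteType P B]
    (K L : Type u) [Field K] [Field L] [Algebra P K] [IsFractionRing P K] [Algebra B L]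
    [IsFractionRing B L] [Algebra K L] [Algebra P L] [IsScalarTower P K L] [IsScalarTower P B L]
    [Algebra.IsSeparable K L] (hP : GenNor P) : GenNor B := by
  obtain ⟨a, ha, han⟩ := hP
  haveI := isDomain_away ha
  let Pa := Localization.Away a
  haveI : IsNoetherianRing Pa := IsLocalization.isNoetherianRing (Submonoid.powers a) Pa inferInstance
  let α := algebraMap P B a
  have hα : α ≠ 0 := (map_ne_zero_iff _ (FaithfulSMul.algebraMap_injective P B)).2 ha
  haveI := isDomain_away hα
  let Ba := Localization.Away α
  have hαB : IsUnit (algebraMap B Ba α) := IsLocalization.Away.algebraMap_isUnit α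
  letI : Algebra Pa Ba := (IsLocalization.Away.lift a (g := algebraMap P Ba) (by
    rw [IsScalarTower.algebraMap_apply P B Ba]; exact hαB)).toAlgebra
  haveI : IsScalarTower P Pa Ba := IsScalarTower.of_algebraMap_eq fun x =>
    (IsLocalization.Away.lift_eq a _ x).symm
  haveI : Algebra.FiniteType B Ba := IsLocalization.finiteType_of_monoid_fg (Submonoid.powers α) Ba
  haveI : Algebra.FiniteType P Ba := Algebra.FiniteType.trans (S := B) inferInstance inferInstance
  haveI : Algebra.FiniteType Pa Ba := Algebra.FiniteType.of_restrictScalars_finiteType P Pa Ba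
  have haK : algebraMap P K a ≠ 0 := (map_ne_zero_iff _ (IsFractionRing.injective P K)).2 ha
  letI : Algebra Pa K :=
    (IsLocalization.Away.lift a (g := algebraMap P K) (IsUnit.mk0 _ haK)).toAlgebra
  haveI : IsScalarTower P Pa K := IsScalarTower.of_algebraMap_eq fun x =>
    (IsLocalization.Away.lift_eq a _ x).symm
  haveI : IsFractionRing Pa K :=
    IsFractionRing.isFractionRing_of_isDomain_of_isLocalization (Submonoid.powers a) Pa K
  have hαL : algebraMap B L α ≠ 0 := (map_ne_zero_iff _ (IsFractionRing.injective B L)).2 hα
  letI : Algebra Ba L :=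
    (IsLocalization.Away.lift α (g := algebraMap B L) (IsUnit.mk0 _ hαL)).toAlgebra
  haveI : IsScalarTower B Ba L := IsScalarTower.of_algebraMap_eq fun x =>
    (IsLocalization.Away.lift_eq α _ x).symm
  haveI : IsFractionRing Ba L :=
    IsFractionRing.isFractionRing_of_isDomain_of_isLocalization (Submonoid.powers α) Ba L
  letI : Algebra Pa L := ((algebraMap K L).comp (algebraMap Pa K)).toAlgebra
  haveI : IsScalarTower Pa K L := IsScalarTower.of_algebraMap_eq fun _ => rfl
  haveI : IsScalarTower Pa Ba L := IsScalarTower.of_algebraMap_eq' (by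
    refine IsLocalization.ringHom_ext (Submonoid.powers a) (RingHom.ext fun x => ?_)
    simp only [RingHom.comp_apply]
    rw [← IsScalarTower.algebraMap_apply P Pa Ba, IsScalarTower.algebraMap_apply P B Ba,
      ← IsScalarTower.algebraMap_apply B Ba L, ← IsScalarTower.algebraMap_apply P B L,
      IsScalarTower.algebraMap_apply Pa K L, ← IsScalarTower.algebraMap_apply P Pa K,
      ← IsScalarTower.algebraMap_apply P K L])
  exact genNor_of_away hα Ba (genNor_of_isSeparable_of_normal (P := Pa) (B := Ba) K L)

/-- Generic normality descends along finite injective extensions. -/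
theorem genNor_of_finite {R S : Type u} [CommRing R] [IsDomain R] [IsNoetherianRing R]
    [CommRing S] [IsDomain S] [Algebra R S] [FaithfulSMul R S] [Module.Finite R S]
    (hS : GenNor S) : GenNor R := by
  obtain ⟨f, hf, hfn⟩ := hS
  haveI : Module.FinitePresentation R S := Module.finitePresentation_of_finite R S
  have hinj := FaithfulSMul.algebraMap_injective R S
  obtain ⟨b, hb, hb0⟩ := Submodule.exists_mem_ne_zero_of_ne_bot
    (Ideal.comap_ne_bot_of_algebraic_mem hf (Ideal.mem_span_singleton_self f)
      (Algebra.IsIntegral.isIntegral (R := R) f).isAlgebraic :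
      (Ideal.span {f}).comap (algebraMap R S) ≠ ⊥)
  obtain ⟨y, hy⟩ := Ideal.mem_span_singleton'.1 hb
  obtain ⟨c, hc, hfree, -⟩ := Module.FinitePresentation.exists_free_localizedModule_powers
    (nonZeroDivisors R) (LocalizedModule.mkLinearMap (nonZeroDivisors R) S)
    (Localization (nonZeroDivisors R))
  have hc0 := nonZeroDivisors.ne_zero hc
  haveI := isDomain_away hc0
  let Rc := Localization.Away c
  let Sc := Localization (Algebra.algebraMapSubmonoid S (Submonoid.powers c))
  have hMS : Algebra.algebraMapSubmonoid S (Submonoid.powers c) ≤ nonZeroDivisors S :=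
    map_le_nonZeroDivisors_of_injective _ hinj (powers_le_nonZeroDivisors_of_noZeroDivisors hc0)
  haveI : IsDomain Sc := IsLocalization.isDomain_localization hMS
  haveI : IsLocalizedModule (Submonoid.powers c) (IsScalarTower.toAlgHom R S Sc).toLinearMap :=
    isLocalizedModule_iff_isLocalization.2 inferInstance
  haveI : Module.Free Rc Sc := Module.Free.of_equiv ((IsLocalizedModule.iso (Submonoid.powers c)
    (IsScalarTower.toAlgHom R S Sc).toLinearMap).extendScalarsOfIsLocalization
      (Submonoid.powers c) Rc)
  haveI : Nontrivial Sc := inferInstance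
  haveI : Module.Free Rc Sc := inferInstance
  obtain ⟨y0, hy0, hy0'⟩ : ∃ y0 : S, y0 ≠ 0 ∧ y0 * f = algebraMap R S b :=
    ⟨y, fun h => hb0 (hinj (by rw [← hy, h, zero_mul, map_zero])), hy⟩
  haveI hSb : IsIntegrallyClosed (Localization.Away (algebraMap R S b)) := by
    rw [← hy0', mul_comm]
    exact isIntegrallyClosed_away_mul hf hfn hy0
  refine genNor_of_away hc0 Rc ⟨algebraMap R Rc b,
    (map_ne_zero_iff _ (IsLocalization.injective Rc
      (powers_le_nonZeroDivisors_of_noZeroDivisors hc0))).2 hb0, ?_⟩
  let Rcb := Localization.Away (algebraMap R Rc b)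
  let Scb := Localization (Algebra.algebraMapSubmonoid Sc (Submonoid.powers (algebraMap R Rc b)))
  haveI : IsLocalization.Away (algebraMap R S c) Sc := by
    change IsLocalization (Submonoid.powers _) Sc
    rw [← Submonoid.map_powers]
    exact (inferInstance : IsLocalization (Algebra.algebraMapSubmonoid S (Submonoid.powers c)) Sc)
  haveI : IsLocalization.Away (algebraMap S Sc (algebraMap R S b)) Scb := by
    change IsLocalization (Submonoid.powers _) Scb
    rw [← IsScalarTower.algebraMap_apply R S Sc, IsScalarTower.algebraMap_apply R Rc Sc,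
      ← Submonoid.map_powers]
    exact (inferInstance : IsLocalization
      (Algebra.algebraMapSubmonoid Sc (Submonoid.powers (algebraMap R Rc b))) Scb)
  have hbS : algebraMap R S b ≠ 0 := (map_ne_zero_iff _ hinj).2 hb0
  have hcS : algebraMap R S c ≠ 0 := (map_ne_zero_iff _ hinj).2 hc0
  haveI : IsIntegrallyClosed Scb := by
    haveI := isIntegrallyClosed_away_mul hbS hSb hcS
    haveI : IsLocalization.Away (algebraMap R S b * algebraMap R S c) Scb :=
      IsLocalization.Away.mul Sc Scb (algebraMap R S c) (algebraMap R S b)
    exact IsIntegrallyClosed.of_equiv (IsLocalization.algEquiv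
      (Submonoid.powers (algebraMap R S b * algebraMap R S c)) (Localization.Away (algebraMap R S b * algebraMap R S c)) Scb).toRingEquiv
  haveI : IsDomain Scb := by
    haveI : IsLocalization.Away (algebraMap R S b * algebraMap R S c) Scb :=
      IsLocalization.Away.mul Sc Scb (algebraMap R S c) (algebraMap R S b)
    exact IsLocalization.isDomain_of_le_nonZeroDivisors Scb
      (powers_le_nonZeroDivisors_of_noZeroDivisors (mul_ne_zero hbS hcS))
  haveI : Module.FaithfullyFlat Rcb Scb := by
    haveI : IsLocalizedModule (Submonoid.powers (algebraMap R Rc b))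
        (IsScalarTower.toAlgHom Rc Sc Scb).toLinearMap :=
      isLocalizedModule_iff_isLocalization.2 inferInstance
    haveI : Module.Free Rcb Scb := Module.free_of_isLocalizedModule (Rₛ := Rcb)
      (Submonoid.powers (algebraMap R Rc b)) (IsScalarTower.toAlgHom Rc Sc Scb).toLinearMap
    infer_instance
  exact (Henselian.Normal.isDomain_and_isIntegrallyClosed_of_faithfullyFlat Rcb Scb).2

end Groth.Agent.Lib.Excellent.GenericNormal
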