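import Groth.Prelude.Def_Found
import Mathlib.RingTheory.Localization.Integral
import Mathlib.RingTheory.Localization.Ideal
import Mathlib.RingTheory.DedekindDomain.IntegralClosure
import Mathlib.RingTheory.Ideal.Quotient.Operations
import Mathlib.FieldTheory.Perfect

/-!
Basic stability properties of N-2 domains and Nagata rings.
-/

set_option linter.style.haveILetI false

universe u

open scoped nonZeroDivisors

namespace Groth.Agent.Lib.Excellent.Nagata

theorem finite_integralClosure_of_isN2 {R : Type u} [CommRing R] [IsDomain R] (h : CAlg.IsN2 R)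
    (K : Type u) [Field K] [Algebra R K] [IsFractionRing R K] (L : Type u) [Field L] [Algebra R L]
    [Algebra K L] [IsScalarTower R K L] [FiniteDimensional K L] :
    Module.Finite R (integralClosure R L) := by
  let e : FractionRing R ≃ₐ[R] K := FractionRing.algEquiv R K
  letI : Algebra (FractionRing R) L := ((algebraMap K L).comp e.toRingEquiv.toRingHom).toAlgebra
  haveI : IsScalarTower R (FractionRing R) L := .of_algebraMap_eq fun r => by
    rw [RingHom.algebraMap_toAlgebra, RingHom.comp_apply]
    exact (IsScalarTower.algebraMap_apply R K L r).trans (congrArg _ (e.commutes r).symm)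
  haveI : FiniteDimensional (FractionRing R) L := by
    refine Module.Finite.of_equiv_equiv e.symm.toRingEquiv (RingEquiv.refl L) ?_
    ext x
    simp [RingHom.algebraMap_toAlgebra]
  exact h L inferInstance

theorem isN2_of_ringEquiv {R S : Type u} [CommRing R] [CommRing S] [IsDomain R] [IsDomain S]
    (e : R ≃+* S) (h : CAlg.IsN2 R) : CAlg.IsN2 S := by
  intro L _ _ _ _ hfin
  letI : Algebra R S := e.toRingHom.toAlgebra
  letI : Algebra R L := ((algebraMap S L).comp (algebraMap R S)).toAlgebra
  haveI : IsScalarTower R S L := .of_algebraMap_eq' rfl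
  haveI : IsFractionRing R (FractionRing S) := by
    haveI : FaithfulSMul R (FractionRing S) := (faithfulSMul_iff_algebraMap_injective _ _).2 <| by
      rw [IsScalarTower.algebraMap_eq R S (FractionRing S)]
      exact (IsFractionRing.injective S (FractionRing S)).comp e.injective
    refine IsFractionRing.of_field R _ fun z => ?_
    obtain ⟨x, y, -, rfl⟩ := IsFractionRing.div_surjective S z
    refine ⟨e.symm x, e.symm y, ?_⟩
    have hs : ∀ s, algebraMap R S (e.symm s) = s := e.apply_symm_apply
    rw [IsScalarTower.algebraMap_apply R S (FractionRing S) (e.symm x),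
      IsScalarTower.algebraMap_apply R S (FractionRing S) (e.symm y), hs, hs]
  haveI : IsScalarTower R (FractionRing S) L := IsScalarTower.to₁₃₄ R S (FractionRing S) L
  have hR := finite_integralClosure_of_isN2 h (FractionRing S) L
  haveI : Algebra.IsIntegral R S :=
    ⟨fun s => by obtain ⟨r, rfl⟩ := e.surjective s; exact isIntegral_algebraMap⟩
  have heq : ∀ x : L, x ∈ integralClosure R L ↔ x ∈ integralClosure S L := fun x =>
    ⟨fun hx => IsIntegral.tower_top (R := R) (A := S) hx,
      fun hx => isIntegral_trans (R := R) x hx⟩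
  let f : integralClosure R L →ₗ[R] integralClosure S L :=
    { toFun := fun x => ⟨x.1, (heq _).1 x.2⟩
      map_add' := fun _ _ => rfl
      map_smul' := fun r x => rfl }
  haveI : Module.Finite R (integralClosure S L) :=
    Module.Finite.of_surjective f fun x => ⟨⟨x.1, (heq _).2 x.2⟩, rfl⟩
  exact Module.Finite.of_restrictScalars_finite R S (integralClosure S L)

theorem isN2_of_field (k : Type u) [Field k] : CAlg.IsN2 k := by
  intro L _ _ _ _ hfin
  haveI : FiniteDimensional k L := by
    haveI : Module.Finite k (FractionRing k) :=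
      Module.Finite.of_surjective (Algebra.linearMap k (FractionRing k)) fun z => by
        obtain ⟨x, y, -, rfl⟩ := IsFractionRing.div_surjective k z
        exact ⟨x / y, by simp⟩
    exact Module.Finite.trans (FractionRing k) L
  exact inferInstanceAs (Module.Finite k (Subalgebra.toSubmodule (integralClosure k L)))

theorem isN2_of_isField {R : Type u} [CommRing R] [IsDomain R] (h : IsField R) : CAlg.IsN2 R :=
  letI := h.toField
  isN2_of_field R

theorem isN2_of_charZero {R : Type u} [CommRing R] [IsDomain R] [IsIntegrallyClosed R]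
    [IsNoetherianRing R] [CharZero R] : CAlg.IsN2 R := by
  intro L _ _ _ _ hfin
  haveI : CharZero (FractionRing R) :=
    charZero_of_injective_algebraMap (IsFractionRing.injective R (FractionRing R))
  exact IsIntegralClosure.finite R (FractionRing R) L (integralClosure R L)

theorem isN2_of_isLocalization {R R' : Type u} [CommRing R] [CommRing R'] [IsDomain R] [IsDomain R']
    [Algebra R R'] (M : Submonoid R) [IsLocalization M R'] (h : CAlg.IsN2 R) : CAlg.IsN2 R' := by
  intro L _ _ _ _ hfin
  have hM : M ≤ R⁰ := fun m hm => mem_nonZeroDivisors_of_ne_zero fun h0 => by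
    have := IsLocalization.map_units R' (⟨m, hm⟩ : M)
    simp [h0] at this
  letI : Algebra R L := ((algebraMap R' L).comp (algebraMap R R')).toAlgebra
  haveI : IsScalarTower R R' L := .of_algebraMap_eq' rfl
  haveI : FaithfulSMul R (FractionRing R') := (faithfulSMul_iff_algebraMap_injective _ _).2 <| by
    rw [IsScalarTower.algebraMap_eq R R' (FractionRing R')]
    exact (IsFractionRing.injective R' (FractionRing R')).comp (IsLocalization.injective R' hM)
  haveI : IsFractionRing R (FractionRing R') := by
    refine IsFractionRing.of_field R _ fun z => ?_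
    obtain ⟨x, y, hy, rfl⟩ := IsFractionRing.div_surjective R' z
    obtain ⟨⟨a, m⟩, hx⟩ := IsLocalization.surj M x
    obtain ⟨⟨b, n⟩, hy'⟩ := IsLocalization.surj M y
    refine ⟨a * n, b * m, ?_⟩
    have hm : algebraMap R (FractionRing R') m ≠ 0 :=
      (map_ne_zero_iff _ (FaithfulSMul.algebraMap_injective _ _)).2 (nonZeroDivisors.ne_zero (hM m.2))
    have hn : algebraMap R (FractionRing R') n ≠ 0 :=
      (map_ne_zero_iff _ (FaithfulSMul.algebraMap_injective _ _)).2 (nonZeroDivisors.ne_zero (hM n.2))
    have hy0 : algebraMap R' (FractionRing R') y ≠ 0 :=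
      (map_ne_zero_iff _ (IsFractionRing.injective R' _)).2 (nonZeroDivisors.ne_zero hy)
    simp only at hx hy'
    rw [map_mul, map_mul, IsScalarTower.algebraMap_apply R R' _ a,
      IsScalarTower.algebraMap_apply R R' _ b, ← hx, ← hy', map_mul, map_mul,
      ← IsScalarTower.algebraMap_apply, ← IsScalarTower.algebraMap_apply]
    field_simp
  haveI : IsScalarTower R (FractionRing R') L := IsScalarTower.to₁₃₄ R R' (FractionRing R') L
  obtain ⟨s, hs⟩ := (finite_integralClosure_of_isN2 h (FractionRing R') L).1
  classical
  refine ⟨s.image (fun x => (⟨x.1, IsIntegral.tower_top x.2⟩ : integralClosure R' L)), ?_⟩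
  rw [eq_top_iff]
  rintro ⟨x, hx⟩ -
  obtain ⟨m, hm⟩ := IsIntegral.exists_multiple_integral_of_isLocalization M x hx
  let f : integralClosure R L →ₗ[R] integralClosure R' L :=
    { toFun := fun x => ⟨x.1, IsIntegral.tower_top x.2⟩
      map_add' := fun _ _ => rfl
      map_smul' := fun r x => rfl }
  have h1 : f ⟨m • x, hm⟩ ∈ Submodule.span R'
      ((s.image (fun x => (⟨x.1, IsIntegral.tower_top x.2⟩ : integralClosure R' L)) :
        Finset _) : Set (integralClosure R' L)) := by
    rw [Finset.coe_image]
    refine Submodule.span_le_restrictScalars R R' _ ?_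
    have : (⟨m • x, hm⟩ : integralClosure R L) ∈ Submodule.span R (s : Set (integralClosure R L)) := by
      rw [hs]; exact trivial
    have := Submodule.mem_map_of_mem (f := f) this
    rwa [Submodule.map_span] at this
  obtain ⟨u, hu⟩ := IsLocalization.map_units R' m
  have h2 := Submodule.smul_mem _ (↑u⁻¹ : R') h1
  convert h2 using 1
  apply Subtype.ext
  change x = (↑u⁻¹ : R') • ((m : R) • x)
  rw [← IsScalarTower.algebraMap_smul R' (m : R) x, ← hu, smul_smul, Units.inv_mul, one_smul]

theorem isNagata_of_isLocalization {A A' : Type u} [CommRing A] [CommRing A'] [Algebra A A']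
    (S : Submonoid A) [IsLocalization S A'] (hA : CAlg.IsNagata A) : CAlg.IsNagata A' := by
  haveI := hA.1
  refine ⟨IsLocalization.isNoetherianRing S A' inferInstance, fun P hP => ?_⟩
  have hmap : (P.comap (algebraMap A A')).map (algebraMap A A') = P :=
    IsLocalization.map_comap S A' P
  haveI : IsLocalization (Algebra.algebraMapSubmonoid (A ⧸ P.comap (algebraMap A A')) S)
      (A' ⧸ (P.comap (algebraMap A A')).map (algebraMap A A')) := inferInstance
  haveI : ((P.comap (algebraMap A A')).map (algebraMap A A')).IsPrime := by rw [hmap]; exact hP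
  have h1 := isN2_of_isLocalization
    (R' := A' ⧸ (P.comap (algebraMap A A')).map (algebraMap A A'))
    (Algebra.algebraMapSubmonoid (A ⧸ P.comap (algebraMap A A')) S)
    (hA.2 (P.comap (algebraMap A A')))
  exact isN2_of_ringEquiv (Ideal.quotEquivOfEq hmap) h1

theorem isNagata_quotient {A : Type u} [CommRing A] (hA : CAlg.IsNagata A) (I : Ideal A) :
    CAlg.IsNagata (A ⧸ I) := by
  haveI := hA.1
  refine ⟨inferInstance, fun P hP => ?_⟩
  have hle : I ≤ P.comap (Ideal.Quotient.mk I) := fun x hx => by
    simp [Ideal.Quotient.eq_zero_iff_mem.2 hx]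
  have hmap : (P.comap (Ideal.Quotient.mk I)).map (Ideal.Quotient.mk I) = P :=
    Ideal.map_comap_of_surjective _ Ideal.Quotient.mk_surjective _
  haveI : ((P.comap (Ideal.Quotient.mk I)).map (Ideal.Quotient.mk I)).IsPrime := by
    rw [hmap]; exact hP
  exact isN2_of_ringEquiv
    (((DoubleQuot.quotQuotEquivQuotOfLE hle).symm).trans (Ideal.quotEquivOfEq hmap))
    (hA.2 (P.comap (Ideal.Quotient.mk I)))

end Groth.Agent.Lib.Excellent.Nagata
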