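import Groth.Agent.Lib.Excellent.GenericRegular
import Mathlib.FieldTheory.SeparablyGenerated
import Mathlib.FieldTheory.IsAlgClosed.AlgebraicClosure
import Mathlib.FieldTheory.AlgebraicClosure
import Mathlib.FieldTheory.IntermediateField.Adjoin.Algebra
import Mathlib.RingTheory.IntegralClosure.IsIntegral.Basic

/-!
Nagata's J-2 criterion: generic regularity of finite domain extensions propagates to finite type
domain extensions.
-/

set_option linter.style.haveILetI false
set_option linter.unusedSectionVars false
set_option maxHeartbeats 1600000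

universe u

namespace Groth.Agent.Lib.Excellent.GenericRegularExt

open GenericRegular Polynomial

/-- Finite support of membership in the subfield generated by a set. -/
theorem exists_finite_of_mem_closure {W : Type u} [Field W] {S : Set W} {x : W}
    (h : x ∈ Subfield.closure S) :
    ∃ T : Set W, T.Finite ∧ T ⊆ S ∧ x ∈ Subfield.closure T := by
  induction h using Subfield.closure_induction with
  | mem x hx => exact ⟨{x}, Set.finite_singleton x, by simpa using hx,
      Subfield.subset_closure rfl⟩
  | one => exact ⟨∅, Set.finite_empty, Set.empty_subset _, one_mem _⟩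
  | add x y _ _ ihx ihy =>
    obtain ⟨T, hT, hTS, hxT⟩ := ihx
    obtain ⟨T', hT', hTS', hyT⟩ := ihy
    exact ⟨T ∪ T', hT.union hT', Set.union_subset hTS hTS',
      add_mem (Subfield.closure_mono Set.subset_union_left hxT)
        (Subfield.closure_mono Set.subset_union_right hyT)⟩
  | neg x _ ih =>
    obtain ⟨T, hT, hTS, hxT⟩ := ih
    exact ⟨T, hT, hTS, neg_mem hxT⟩
  | inv x _ ih =>
    obtain ⟨T, hT, hTS, hxT⟩ := ih
    exact ⟨T, hT, hTS, inv_mem hxT⟩
  | mul x y _ _ ihx ihy =>
    obtain ⟨T, hT, hTS, hxT⟩ := ihx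
    obtain ⟨T', hT', hTS', hyT⟩ := ihy
    exact ⟨T ∪ T', hT.union hT', Set.union_subset hTS hTS',
      mul_mem (Subfield.closure_mono Set.subset_union_left hxT)
        (Subfield.closure_mono Set.subset_union_right hyT)⟩

/-- A witness of separability with coefficients in the image of `F`. -/
theorem isSeparable_of_coeff_mem {F W : Type u} [Field F] [Field W] [Algebra F W] {x : W}
    {p : W[X]} (hp : p.Separable) (hx : p.eval x = 0)
    (hc : ∀ n, p.coeff n ∈ Set.range (algebraMap F W)) : IsSeparable F x := by
  obtain ⟨q, rfl⟩ := (Polynomial.mem_lifts p).1 ((Polynomial.lifts_iff_coeff_lifts p).2 hc)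
  rw [Polynomial.separable_map] at hp
  rw [Polynomial.eval_map, ← Polynomial.aeval_def] at hx
  exact Polynomial.Separable.of_dvd hp (minpoly.dvd F x hx)

/-- Generic regularity ascends to a domain with a separating transcendence family. -/
theorem genReg_of_separating {R B : Type u} [CommRing R] [IsDomain R] [IsNoetherianRing R]
    [CommRing B] [IsDomain B] [Algebra R B] [Algebra.FiniteType R B]
    (W : Type u) [Field W] [Algebra R W] [Algebra B W] [IsScalarTower R B W] [FaithfulSMul B W]
    {ι : Type u} [Finite ι] (v : ι → W) (hv : AlgebraicIndependent R v)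
    (hvB : ∀ i, v i ∈ Subfield.closure (Set.range (algebraMap B W)))
    (G : Set B) (hG : Algebra.adjoin R G = ⊤)
    (hsep : ∀ g ∈ G, ∃ p : W[X], p.Separable ∧ p.eval (algebraMap B W g) = 0 ∧
      ∀ n, p.coeff n ∈ Subfield.closure (Set.range (algebraMap R W) ∪ Set.range v))
    (hR : GenReg R) : GenReg B := by
  classical
  have hBinj : Function.Injective (algebraMap B W) := FaithfulSMul.algebraMap_injective B W
  -- common denominator
  have hfrac : ∀ i, ∃ n d : B, d ≠ 0 ∧ v i * algebraMap B W d = algebraMap B W n := by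
    intro i
    obtain ⟨y, hy, z, hz, hyz⟩ := Subfield.mem_closure_iff.1 (hvB i)
    rw [← RingHom.coe_range, Subring.closure_eq] at hy hz
    obtain ⟨n, rfl⟩ := hy
    obtain ⟨d, rfl⟩ := hz
    rcases eq_or_ne d 0 with rfl | hd
    · refine ⟨0, 1, one_ne_zero, ?_⟩
      rw [← hyz, map_zero, div_zero, zero_mul]
    · refine ⟨n, d, hd, ?_⟩
      rw [← hyz, div_mul_cancel₀ _ ((map_ne_zero_iff _ hBinj).2 hd)]
  choose num den hden hnum using hfrac
  cases nonempty_fintype ι
  let d : B := ∏ i, den i
  have hd : d ≠ 0 := Finset.prod_ne_zero_iff.2 fun i _ => hden i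
  have hle : Submonoid.powers d ≤ nonZeroDivisors B :=
    powers_le_nonZeroDivisors_of_noZeroDivisors hd
  let Bd := Localization.Away d
  haveI : IsDomain Bd := IsLocalization.isDomain_localization hle
  let ψ : Bd →+* W := IsLocalization.Away.lift d
    (g := algebraMap B W) (IsUnit.mk0 _ ((map_ne_zero_iff _ hBinj).2 hd))
  have hψ : ∀ b, ψ (algebraMap B Bd b) = algebraMap B W b :=
    fun b => IsLocalization.Away.lift_eq _ _ b
  have hψinj : Function.Injective ψ := by
    rw [injective_iff_map_eq_zero]
    intro x hx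
    obtain ⟨b, ⟨_, n, rfl⟩, rfl⟩ := IsLocalization.exists_mk'_eq (Submonoid.powers d) x
    have h1 : ψ (algebraMap B Bd b) = 0 := by
      rw [← IsLocalization.mk'_spec Bd b (⟨_, n, rfl⟩ : Submonoid.powers d), map_mul, hx, zero_mul]
    rw [hψ, map_eq_zero_iff _ hBinj] at h1
    rw [h1, IsLocalization.mk'_zero]
  letI : Algebra Bd W := ψ.toAlgebra
  have hw : ∀ i, ∃ w : Bd, ψ w = v i := by
    intro i
    obtain ⟨c, hc⟩ : den i ∣ d := Finset.dvd_prod_of_mem den (Finset.mem_univ i)
    refine ⟨IsLocalization.mk' Bd (num i * c) (⟨d, Submonoid.mem_powers d⟩ : Submonoid.powers d), ?_⟩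
    have h1 := congrArg ψ (IsLocalization.mk'_spec Bd (num i * c)
      (⟨d, Submonoid.mem_powers d⟩ : Submonoid.powers d))
    rw [map_mul, hψ, hψ, map_mul (algebraMap B W), ← hnum i, mul_assoc,
      ← map_mul (algebraMap B W), ← hc] at h1
    exact mul_right_cancel₀ ((map_ne_zero_iff _ hBinj).2 hd) h1
  choose w hw using hw
  haveI : IsScalarTower R Bd W := IsScalarTower.of_algebraMap_eq fun r => by
    rw [RingHom.algebraMap_toAlgebra, IsScalarTower.algebraMap_apply R B Bd, hψ,
      ← IsScalarTower.algebraMap_apply]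
  let φ : MvPolynomial ι R →ₐ[R] Bd := MvPolynomial.aeval w
  have hφ : (IsScalarTower.toAlgHom R Bd W).comp φ = MvPolynomial.aeval v :=
    MvPolynomial.algHom_ext fun i => by
      simp [φ, RingHom.algebraMap_toAlgebra, hw i]
  letI : Algebra (MvPolynomial ι R) Bd := φ.toRingHom.toAlgebra
  letI : Algebra (MvPolynomial ι R) W := (MvPolynomial.aeval v).toRingHom.toAlgebra
  haveI : IsScalarTower (MvPolynomial ι R) Bd W :=
    IsScalarTower.of_algebraMap_eq fun p => (AlgHom.congr_fun hφ p).symm
  haveI : IsScalarTower R (MvPolynomial ι R) Bd :=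
    IsScalarTower.of_algebraMap_eq fun r => (φ.commutes r).symm
  haveI : FaithfulSMul (MvPolynomial ι R) W := (faithfulSMul_iff_algebraMap_injective _ _).2 hv
  haveI : FaithfulSMul (MvPolynomial ι R) Bd := (faithfulSMul_iff_algebraMap_injective _ _).2
    fun a b hab => hv (by
      have := congrArg ψ hab
      rw [← AlgHom.congr_fun hφ a, ← AlgHom.congr_fun hφ b]
      exact this)
  haveI : Algebra.FiniteType B Bd := IsLocalization.finiteType_of_monoid_fg (Submonoid.powers d) Bd
  haveI : Algebra.FiniteType R Bd := Algebra.FiniteType.trans (S := B) inferInstance inferInstance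
  haveI : Algebra.FiniteType (MvPolynomial ι R) Bd :=
    Algebra.FiniteType.of_restrictScalars_finiteType R (MvPolynomial ι R) Bd
  let K := FractionRing (MvPolynomial ι R)
  let L := FractionRing Bd
  haveI : FaithfulSMul Bd W := (faithfulSMul_iff_algebraMap_injective _ _).2 hψinj
  letI : Algebra K W := FractionRing.liftAlgebra (MvPolynomial ι R) W
  letI : Algebra L W := FractionRing.liftAlgebra Bd W
  haveI : FaithfulSMul (MvPolynomial ι R) L := (faithfulSMul_iff_algebraMap_injective _ _).2 (by
    rw [IsScalarTower.algebraMap_eq (MvPolynomial ι R) Bd L]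
    exact (IsFractionRing.injective Bd L).comp (FaithfulSMul.algebraMap_injective _ _))
  letI : Algebra K L := FractionRing.liftAlgebra (MvPolynomial ι R) L
  haveI : IsScalarTower (MvPolynomial ι R) L W :=
    IsScalarTower.of_algebraMap_eq fun p => by
      rw [IsScalarTower.algebraMap_apply (MvPolynomial ι R) Bd L, ← IsScalarTower.algebraMap_apply Bd L W,
        ← IsScalarTower.algebraMap_apply]
  haveI : IsScalarTower K L W := IsScalarTower.of_algebraMap_eq' (by
    refine IsLocalization.ringHom_ext (nonZeroDivisors (MvPolynomial ι R)) (RingHom.ext fun p => ?_)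
    simp only [RingHom.comp_apply]
    rw [← IsScalarTower.algebraMap_apply, ← IsScalarTower.algebraMap_apply,
      ← IsScalarTower.algebraMap_apply])
  have hrange : Subfield.closure (Set.range (algebraMap R W) ∪ Set.range v) ≤
      (algebraMap K W).fieldRange := by
    refine Subfield.closure_le.2 (Set.union_subset ?_ ?_)
    · rintro _ ⟨r, rfl⟩
      exact ⟨algebraMap (MvPolynomial ι R) K (MvPolynomial.C r), by
        rw [← IsScalarTower.algebraMap_apply, RingHom.algebraMap_toAlgebra]
        exact MvPolynomial.aeval_C v r⟩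
    · rintro _ ⟨i, rfl⟩
      exact ⟨algebraMap (MvPolynomial ι R) K (MvPolynomial.X i), by
        rw [← IsScalarTower.algebraMap_apply, RingHom.algebraMap_toAlgebra]
        exact MvPolynomial.aeval_X v i⟩
  have hsc : ∀ b : B, algebraMap Bd L (algebraMap B Bd b) ∈ separableClosure K L := by
    intro b
    have hb : b ∈ Algebra.adjoin R G := hG ▸ Algebra.mem_top
    induction hb using Algebra.adjoin_induction with
    | mem g hg =>
      obtain ⟨p, hp, hpe, hpc⟩ := hsep g hg
      rw [mem_separableClosure_iff]
      refine IsSeparable.of_algHom (IsScalarTower.toAlgHom K L W) ?_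
      rw [IsScalarTower.toAlgHom_apply, ← IsScalarTower.algebraMap_apply Bd L W,
        RingHom.algebraMap_toAlgebra, hψ]
      exact isSeparable_of_coeff_mem hp hpe fun n => hrange (hpc n)
    | algebraMap r =>
      rw [← IsScalarTower.algebraMap_apply R B Bd,
        IsScalarTower.algebraMap_apply R (MvPolynomial ι R) Bd,
        ← IsScalarTower.algebraMap_apply (MvPolynomial ι R) Bd L,
        IsScalarTower.algebraMap_apply (MvPolynomial ι R) K L]
      exact (separableClosure K L).algebraMap_mem _
    | add x y _ _ hx hy => rw [map_add, map_add]; exact add_mem hx hy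
    | mul x y _ _ hx hy => rw [map_mul, map_mul]; exact mul_mem hx hy
  haveI : Algebra.IsSeparable K L := by
    rw [← separableClosure.eq_top_iff, eq_top_iff]
    rintro x -
    obtain ⟨y, z, _, rfl⟩ := IsFractionRing.div_surjective (A := Bd) x
    have hmem : ∀ t : Bd, algebraMap Bd L t ∈ separableClosure K L := by
      intro t
      obtain ⟨b, ⟨_, n, rfl⟩, rfl⟩ := IsLocalization.exists_mk'_eq (Submonoid.powers d) t
      have hne : algebraMap Bd L (algebraMap B Bd (d ^ n)) ≠ 0 :=
        (map_ne_zero_iff _ (IsFractionRing.injective Bd L)).2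
          ((map_ne_zero_iff _ (IsLocalization.injective Bd hle)).2 (pow_ne_zero n hd))
      rw [show algebraMap Bd L (IsLocalization.mk' Bd b (⟨d ^ n, n, rfl⟩ : Submonoid.powers d)) =
          algebraMap Bd L (algebraMap B Bd b) / algebraMap Bd L (algebraMap B Bd (d ^ n)) from
        (eq_div_iff hne).2 (by rw [← map_mul, IsLocalization.mk'_spec])]
      exact div_mem (hsc _) (hsc _)
    exact div_mem (hmem y) (hmem z)
  obtain ⟨f, hf, hreg⟩ := genReg_of_isSeparable (P := MvPolynomial ι R) (B := Bd) K L
    (genReg_mvPolynomial hR)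
  obtain ⟨b, ⟨_, n, rfl⟩, rfl⟩ := IsLocalization.exists_mk'_eq (Submonoid.powers d) f
  refine ⟨d * b, mul_ne_zero hd fun hb => hf (by rw [hb, IsLocalization.mk'_zero]), fun q hq => ?_⟩
  obtain ⟨q', rfl⟩ : q ∈ Set.range (PrimeSpectrum.comap (algebraMap B Bd)) := by
    rw [PrimeSpectrum.localization_away_comap_range Bd d]
    exact fun h => hq (Ideal.mul_mem_right _ _ h)
  refine (mem_regLocus_localization (Submonoid.powers d) q').1 (hreg q' fun h => hq ?_)
  refine Ideal.mul_mem_left _ _ ?_
  change algebraMap B Bd b ∈ q'.asIdeal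
  rw [← IsLocalization.mk'_spec Bd b (⟨d ^ n, n, rfl⟩ : Submonoid.powers d)]
  exact Ideal.mul_mem_right _ _ h

/-- Nagata: generic regularity of finite domain extensions gives generic regularity of all finite
type domain extensions. -/
theorem genReg_of_finiteType {A B : Type u} [CommRing A] [IsDomain A] [IsNoetherianRing A]
    [CommRing B] [IsDomain B] [Algebra A B] [FaithfulSMul A B] [Algebra.FiniteType A B]
    (hA : ∀ (A' : Type u) [CommRing A'] [IsDomain A'] [Algebra A A'], Module.Finite A A' →
      GenReg A') : GenReg B := by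
  classical
  haveI : IsNoetherianRing B := Algebra.FiniteType.isNoetherianRing A B
  let W := AlgebraicClosure (FractionRing B)
  haveI : FaithfulSMul B W := (faithfulSMul_iff_algebraMap_injective _ _).2 (by
    rw [IsScalarTower.algebraMap_eq B (FractionRing B) W]
    exact (algebraMap (FractionRing B) W).injective.comp (IsFractionRing.injective B _))
  haveI : FaithfulSMul A W := (faithfulSMul_iff_algebraMap_injective _ _).2 (by
    rw [IsScalarTower.algebraMap_eq A B W]
    exact (FaithfulSMul.algebraMap_injective B W).comp (FaithfulSMul.algebraMap_injective A B))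
  let K := FractionRing A
  letI : Algebra K W := FractionRing.liftAlgebra A W
  obtain ⟨G, hG⟩ := (inferInstance : Algebra.FiniteType A B).out
  let a : Set W := algebraMap B W '' (G : Set B)
  let E := algebraicClosure K W
  haveI : IsAlgClosed E := IsAlgClosure.isAlgClosed K
  let Lb := IntermediateField.adjoin E a
  haveI : Algebra.EssFiniteType E Lb := IntermediateField.essFiniteType_iff.2
    (IntermediateField.fg_adjoin_of_finite (G.finite_toSet.image _))
  obtain ⟨s, hs, hsep⟩ :=
    exists_isTranscendenceBasis_and_isSeparable_of_perfectField (k := E) (K := Lb)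
  let sW : Set W := Subtype.val '' (s : Set Lb)
  have hadj : ∀ S : Set W, ((IntermediateField.adjoin E S : IntermediateField E W) : Set W) =
      Subfield.closure (Set.range (algebraMap E W) ∪ S) := fun S => rfl
  -- finitely many algebraic elements carry all data
  have hdata : ∀ g ∈ G, ∃ T : Set W, T.Finite ∧ T ⊆ (E : Set W) ∧ ∃ p : W[X], p.Separable ∧
      p.eval (algebraMap B W g) = 0 ∧ ∀ n, p.coeff n ∈ Subfield.closure (T ∪ sW) := by
    intro g hg
    have hga : algebraMap B W g ∈ Lb :=
      IntermediateField.subset_adjoin E a ⟨g, hg, rfl⟩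
    let F := IntermediateField.adjoin E (s : Set Lb)
    have hsepg : IsSeparable F (⟨_, hga⟩ : Lb) := Algebra.IsSeparable.isSeparable _ _
    let m := minpoly F (⟨_, hga⟩ : Lb)
    let ρ : F →+* W := (Lb.val.toRingHom).comp (algebraMap F Lb)
    have hρ : ∀ n, (m.map ρ).coeff n ∈ Subfield.closure (Set.range (algebraMap E W) ∪ sW) := by
      intro n
      rw [Polynomial.coeff_map]
      have h1 : ((m.coeff n : F) : Lb) ∈ F := (m.coeff n).2
      have h2 : Lb.val ((m.coeff n : F) : Lb) ∈ F.map Lb.val := ⟨_, h1, rfl⟩
      rw [IntermediateField.adjoin_map] at h2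
      exact (hadj _).le h2
    choose T hTfin hTsub hTmem using fun n => exists_finite_of_mem_closure (hρ n)
    refine ⟨(⋃ n ∈ Finset.range ((m.map ρ).natDegree + 1), T n) ∩ E, ?_, Set.inter_subset_right,
      m.map ρ, Polynomial.Separable.map hsepg, ?_, fun n => ?_⟩
    · exact ((Finset.range _).finite_toSet.biUnion fun n _ => hTfin n).inter_of_left _
    · have h := congrArg Lb.val (minpoly.aeval F (⟨_, hga⟩ : Lb))
      rw [map_zero, Polynomial.aeval_def] at h
      rw [Polynomial.eval_map]
      exact (Polynomial.hom_eval₂ _ _ Lb.val.toRingHom _).symm.trans h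
    · by_cases hn : n ≤ (m.map ρ).natDegree
      · refine Subfield.closure_mono ?_ (hTmem n)
        intro x hx
        rcases hTsub n hx with ⟨e, rfl⟩ | hxs
        · exact Or.inl ⟨Set.mem_biUnion (Finset.mem_range.2 (by omega)) hx, e.2⟩
        · exact Or.inr hxs
      · rw [Polynomial.coeff_eq_zero_of_natDegree_lt (not_le.1 hn)]
        exact zero_mem _
  choose! T hTfin hTE p hp hpe hpc using hdata
  have hsdata : ∀ x ∈ sW, ∃ U : Set W, U.Finite ∧ U ⊆ (E : Set W) ∧
      x ∈ Subfield.closure (U ∪ a) := by
    rintro _ ⟨x, -, rfl⟩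
    have hx : (x : W) ∈ Subfield.closure (Set.range (algebraMap E W) ∪ a) := (hadj a).le x.2
    obtain ⟨U, hU, hUS, hxU⟩ := exists_finite_of_mem_closure hx
    refine ⟨U ∩ E, hU.inter_of_left _, Set.inter_subset_right,
      Subfield.closure_mono (fun y hy => ?_) hxU⟩
    rcases hUS hy with ⟨e, rfl⟩ | hya
    · exact Or.inl ⟨hy, e.2⟩
    · exact Or.inr hya
  choose! U hUfin hUE hUmem using hsdata
  have hsW : sW.Finite := s.finite_toSet.image _
  let c0 : Set W := (⋃ g ∈ G, T g) ∪ (⋃ x ∈ sW, U x)
  have hc0 : c0.Finite :=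
    (G.finite_toSet.biUnion fun g hg => hTfin g hg).union (hsW.biUnion fun x hx => hUfin x hx)
  have hc0E : c0 ⊆ (E : Set W) :=
    Set.union_subset (Set.iUnion₂_subset fun g hg => hTE g hg)
      (Set.iUnion₂_subset fun x hx => hUE x hx)
  have hint : ∀ x ∈ c0, ∃ r : A, r ≠ 0 ∧ IsIntegral A (r • x) := fun x hx =>
    IsAlgebraic.exists_integral_multiple
      ((IsFractionRing.isAlgebraic_iff A K W).2 ((mem_algebraicClosure_iff).1 (hc0E hx)))
  choose! r hr hrint using hint
  let c : Set W := (fun x => r x • x) '' c0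
  have hcfin : c.Finite := hc0.image _
  have hcint : ∀ x ∈ c, IsIntegral A x := by
    rintro _ ⟨x, hx, rfl⟩
    exact hrint x hx
  let A' := Algebra.adjoin A c
  haveI : Module.Finite A A' := Algebra.finite_adjoin_of_finite_of_isIntegral hcfin hcint
  have hA' : GenReg A' := hA A' inferInstance
  let B' := Algebra.adjoin B c
  haveI : Module.Finite B B' :=
    Algebra.finite_adjoin_of_finite_of_isIntegral hcfin fun x hx => (hcint x hx).tower_top
  haveI : FaithfulSMul B B' := (faithfulSMul_iff_algebraMap_injective _ _).2 fun x y h =>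
    FaithfulSMul.algebraMap_injective B W (congrArg Subtype.val h)
  haveI : Algebra.FiniteType A B' := Algebra.FiniteType.trans (S := B) inferInstance inferInstance
  have hle : A' ≤ B'.restrictScalars A := Algebra.adjoin_le fun x hx => Algebra.subset_adjoin hx
  letI : Algebra A' B' := (Subalgebra.inclusion hle).toRingHom.toAlgebra
  haveI : IsScalarTower A A' B' := IsScalarTower.of_algebraMap_eq fun x => rfl
  haveI : IsScalarTower A' B' W := IsScalarTower.of_algebraMap_eq fun x => rfl
  haveI : Algebra.FiniteType A' B' := Algebra.FiniteType.of_restrictScalars_finiteType A A' B'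
  haveI : FaithfulSMul B' W := (faithfulSMul_iff_algebraMap_injective _ _).2 Subtype.val_injective
  haveI : IsNoetherianRing A' := IsNoetherianRing.of_finite A A'
  have hrangeA : Set.range (algebraMap A W) ⊆ Set.range (algebraMap A' W) := by
    rintro _ ⟨x, rfl⟩
    exact ⟨algebraMap A A' x, rfl⟩
  have hc0mem : ∀ S : Subfield W, Set.range (algebraMap A' W) ⊆ S → c0 ⊆ S := by
    intro S hS x hx
    have h1 : r x • x ∈ S := hS ⟨⟨_, Algebra.subset_adjoin ⟨x, hx, rfl⟩⟩, rfl⟩
    have h2 : algebraMap A W (r x) ∈ S := hS (hrangeA ⟨_, rfl⟩)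
    have h3 : algebraMap A W (r x) ≠ 0 :=
      (map_ne_zero_iff _ (FaithfulSMul.algebraMap_injective A W)).2 (hr x hx)
    have : x = (r x • x) / algebraMap A W (r x) := by
      rw [Algebra.smul_def, mul_div_cancel_left₀ _ h3]
    rw [this]
    exact div_mem h1 h2
  have hA'E : ∀ x : A', (x : W) ∈ (E.toSubalgebra.restrictScalars A) := by
    intro x
    refine (Algebra.adjoin_le ?_ : A' ≤ E.toSubalgebra.restrictScalars A) x.2
    rintro _ ⟨y, hy, rfl⟩
    exact Subalgebra.smul_mem _ (show y ∈ E.toSubalgebra.restrictScalars A from hc0E hy) _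
  letI : Algebra A' E := ((Subalgebra.inclusion
    (fun x hx => hA'E ⟨x, hx⟩ : A' ≤ E.toSubalgebra.restrictScalars A)).toRingHom).toAlgebra
  haveI : IsScalarTower A' E W := IsScalarTower.of_algebraMap_eq fun x => rfl
  let v : s → W := fun x => ((x : Lb) : W)
  have hv : AlgebraicIndependent A' v := by
    have h1 : AlgebraicIndependent E v := hs.1.map' (f := Lb.val) Lb.val.injective
    exact AlgebraicIndependent.restrictScalars (K := E) (R := A')
      (fun x y h => Subtype.ext (congrArg (fun z : E => (z : W)) h)) h1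
  refine genReg_of_finite (S := B') (genReg_of_separating (R := A') (B := B') W v hv ?_
    (Set.univ.image (fun x : ↥(G : Set B) => algebraMap B B' x) ∪ {y | (y : W) ∈ c}) ?_ ?_ hA')
  · intro x
    have hx : v x ∈ sW := ⟨x, x.2, rfl⟩
    refine Subfield.closure_le.2 ?_ (hUmem _ hx)
    refine Set.union_subset ?_ ?_
    · refine Set.Subset.trans ?_ (hc0mem _ (Set.Subset.trans ?_ Subfield.subset_closure))
      · exact Set.subset_union_of_subset_right (Set.subset_biUnion_of_mem (u := U) hx) _
      · rintro _ ⟨y, rfl⟩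
        exact ⟨algebraMap A' B' y, rfl⟩
    · rintro _ ⟨g, hg, rfl⟩
      exact Subfield.subset_closure ⟨algebraMap B B' g, rfl⟩
  · rw [eq_top_iff]
    rintro ⟨y, hy⟩ -
    induction hy using Algebra.adjoin_induction with
    | mem y hy => exact Algebra.subset_adjoin (Or.inr hy)
    | algebraMap b =>
      have hb : b ∈ Algebra.adjoin A (G : Set B) := hG ▸ Algebra.mem_top
      induction hb using Algebra.adjoin_induction with
      | mem g hg => exact Algebra.subset_adjoin (Or.inl ⟨⟨g, hg⟩, trivial, rfl⟩)
      | algebraMap x =>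
        convert Subalgebra.algebraMap_mem _ (algebraMap A A' x) using 1
        exact Subtype.ext (IsScalarTower.algebraMap_apply A B W x).symm
      | add b b' _ _ h h' =>
        convert add_mem h h' using 1
        exact Subtype.ext (map_add _ _ _)
      | mul b b' _ _ h h' =>
        convert mul_mem h h' using 1
        exact Subtype.ext (map_mul _ _ _)
    | add b b' _ _ h h' => exact add_mem h h'
    | mul b b' _ _ h h' => exact mul_mem h h'
  · rintro y (⟨⟨g, hg⟩, -, rfl⟩ | hy)
    · refine ⟨p g, hp g hg, hpe g hg, fun n => ?_⟩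
      refine Subfield.closure_le.2 (Set.union_subset ?_ ?_) (hpc g hg n)
      · refine Set.Subset.trans ?_ (hc0mem _
          (Set.Subset.trans Set.subset_union_left Subfield.subset_closure))
        exact Set.subset_union_of_subset_left (Set.subset_biUnion_of_mem (u := T) hg) _
      · rintro _ ⟨x, hx, rfl⟩
        exact Subfield.subset_closure (Or.inr ⟨⟨x, hx⟩, rfl⟩)
    · refine ⟨X - C (algebraMap B' W y), separable_X_sub_C, by simp, fun n => ?_⟩
      have hyc : algebraMap B' W y ∈
          Subfield.closure (Set.range (algebraMap A' W) ∪ Set.range v) :=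
        Subfield.subset_closure (Or.inl ⟨⟨_, Algebra.subset_adjoin hy⟩, rfl⟩)
      rw [Polynomial.coeff_sub, Polynomial.coeff_X, Polynomial.coeff_C]
      refine sub_mem ?_ ?_ <;> split_ifs
      exacts [one_mem _, zero_mem _, hyc, zero_mem _]

/-- Nagata's criterion for J-2. -/
theorem isJ2_of_finite_domains (A : Type u) [CommRing A] [IsNoetherianRing A]
    (h : ∀ (A' : Type u) [CommRing A'] [IsDomain A'] [Algebra A A'], Module.Finite A A' →
      GenReg A') : EGA4.IsJ2 A := by
  intro S _ _ hS
  haveI : IsNoetherianRing S := Algebra.FiniteType.isNoetherianRing A S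
  refine RegLocus.isOpen_regLocus_of_quotients fun q _ => (genReg_iff _).1 ?_
  let p := q.asIdeal.comap (algebraMap A S)
  haveI : FaithfulSMul (A ⧸ p) (S ⧸ q.asIdeal) :=
    (faithfulSMul_iff_algebraMap_injective _ _).2 (Ideal.quotientMap_injective)
  haveI : Algebra.FiniteType (A ⧸ p) (S ⧸ q.asIdeal) :=
    Algebra.FiniteType.of_restrictScalars_finiteType A (A ⧸ p) (S ⧸ q.asIdeal)
  refine genReg_of_finiteType (A := A ⧸ p) fun A' _ _ _ hfin => ?_
  letI : Algebra A A' := ((algebraMap (A ⧸ p) A').comp (Ideal.Quotient.mk p)).toAlgebra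
  haveI : IsScalarTower A (A ⧸ p) A' := IsScalarTower.of_algebraMap_eq fun _ => rfl
  exact h A' (Module.Finite.trans (A ⧸ p) A')

end Groth.Agent.Lib.Excellent.GenericRegularExt
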