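import Groth.Agent.Lib.Excellent.CompletionFinite
import Mathlib.RingTheory.MvPowerSeries.Equiv
import Mathlib.RingTheory.Polynomial.Basic

/-!
The completion of a Noetherian ring is Noetherian.
-/

set_option linter.style.haveILetI false

universe u

open scoped TensorProduct

namespace Groth.Agent.Lib.Excellent.CompletionNoetherian

instance isNoetherianRing_adicCompletion {A : Type u} [CommRing A] [IsNoetherianRing A]
    (J : Ideal A) : IsNoetherianRing (AdicCompletion J A) := by
  classical
  obtain ⟨n, x, hx⟩ := Submodule.fg_iff_exists_fin_generating_family.1 (IsNoetherian.noetherian J)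
  let P := MvPolynomial (Fin n) A
  letI : Algebra P A := (MvPolynomial.aeval x : P →ₐ[A] A).toRingHom.toAlgebra
  have hsurj : Function.Surjective (algebraMap P A) := fun a =>
    ⟨MvPolynomial.C a, MvPolynomial.aeval_C x a⟩
  haveI : Module.Finite P A := Module.Finite.of_surjective (Algebra.linearMap P A) hsurj
  have hJ : (MvPolynomial.idealOfVars (Fin n) A).map (algebraMap P A) = J := by
    rw [MvPolynomial.idealOfVars, Ideal.map_span, ← Set.range_comp, ← hx]
    congr 2
    funext i
    exact MvPolynomial.aeval_X x i
  haveI : IsNoetherianRing (AdicCompletion (MvPolynomial.idealOfVars (Fin n) A) P) :=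
    isNoetherianRing_of_ringEquiv (MvPowerSeries (Fin n) A)
      (MvPowerSeries.toAdicCompletionAlgEquiv (Fin n) A).toRingEquiv
  let f : AdicCompletion (MvPolynomial.idealOfVars (Fin n) A) P →ₐ[P]
      A ⊗[P] AdicCompletion (MvPolynomial.idealOfVars (Fin n) A) P :=
    Algebra.TensorProduct.includeRight
  haveI : IsNoetherianRing (A ⊗[P] AdicCompletion (MvPolynomial.idealOfVars (Fin n) A) P) :=
    isNoetherianRing_of_surjective _ _ f.toRingHom (TensorProduct.mk_surjective _ _ _ hsurj)
  have e := CompletionFinite.completionEquiv (MvPolynomial.idealOfVars (Fin n) A) A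
  rw [hJ] at e
  exact isNoetherianRing_of_ringEquiv _ e.toRingEquiv

end Groth.Agent.Lib.Excellent.CompletionNoetherian
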