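import Groth.Agent.Lib.Excellent.FormalFibre
import Groth.Prelude.Def_CAlg
import Mathlib.RingTheory.Regular.RegularSequence
import Mathlib.RingTheory.RegularLocalRing.Defs
import Mathlib.RingTheory.KrullDimension.Module

/-!
Invariance of normality, regularity and the Cohen-Macaulay property under ring isomorphisms.
-/

set_option linter.style.haveILetI false

universe u

namespace Groth.Agent.Lib.Excellent.Transport

open FormalFibre

variable {R S : Type u} [CommRing R] [CommRing S]

theorem forall_atPrime_congr {P : ∀ (R : Type u) [CommRing R], Prop} (hP : IsoInvariant P)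
    (e : R ≃+* S) (h : ∀ (q : Ideal R) [q.IsPrime], P (Localization.AtPrime q))
    (Q : Ideal S) [Q.IsPrime] : P (Localization.AtPrime Q) := by
  letI : Algebra R S := e.toRingHom.toAlgebra
  haveI : IsLocalization (⊥ : Submonoid R) R := IsLocalization.self bot_le
  haveI : IsLocalization (⊥ : Submonoid R) S :=
    IsLocalization.isLocalization_of_algEquiv (⊥ : Submonoid R)
      (AlgEquiv.ofRingEquiv (f := e) fun _ => rfl)
  exact (forall_localization_iff (⊥ : Submonoid R) hP).2 (fun q _ _ => h q) Q

theorem isDomain_intClosed_of_ringEquiv (e : R ≃+* S) (h : IsDomain R ∧ IsIntegrallyClosed R) :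
    IsDomain S ∧ IsIntegrallyClosed S := by
  haveI := h.1
  haveI := h.2
  exact ⟨e.symm.toMulEquiv.isDomain R, IsIntegrallyClosed.of_equiv e⟩

theorem isoInvariant_isNormalRing : IsoInvariant.{u} (fun R [CommRing R] => EGA4.IsNormalRing R) :=
  fun _ _ _ _ e h Q _ => forall_atPrime_congr
    (P := fun R [CommRing R] => IsDomain R ∧ IsIntegrallyClosed R)
    (fun _ _ _ _ e h => isDomain_intClosed_of_ringEquiv e h) e h Q

theorem isoInvariant_isRegularRing : IsoInvariant.{u} (fun R [CommRing R] => IsRegularRing R) :=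
  fun _ _ _ _ e _ => IsRegularRing.of_ringEquiv e

theorem idealDepth_eq_of_ringEquiv (e : R ≃+* S) (I : Ideal R) :
    LocCoh.idealDepth I R = LocCoh.idealDepth (I.map e.toRingHom) S := by
  classical
  have h1 : (I • (⊤ : Submodule R R) = ⊤) ↔ (I.map e.toRingHom • (⊤ : Submodule S S) = ⊤) := by
    rw [Ideal.smul_eq_mul, Ideal.mul_top, Ideal.smul_eq_mul, Ideal.mul_top]
    constructor
    · rintro rfl
      exact Ideal.map_top _
    · intro h
      rw [← Ideal.comap_map_of_bijective e.toRingHom e.bijective (I := I), h, Ideal.comap_top]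
  haveI : RingHomInvPair e.toRingHom e.symm.toRingHom := RingHomInvPair.of_ringEquiv e
  haveI : RingHomInvPair e.symm.toRingHom e.toRingHom := RingHomInvPair.of_ringEquiv e.symm
  let f : R ≃ₛₗ[e.toRingHom] S :=
    { e.toAddEquiv with map_smul' := fun r x => map_mul e r x }
  have hreg : ∀ rs : List R, RingTheory.Sequence.IsWeaklyRegular R rs ↔
      RingTheory.Sequence.IsWeaklyRegular S (rs.map e.toRingHom) := fun rs =>
    f.isWeaklyRegular_congr' rs
  unfold LocCoh.idealDepth
  rw [if_congr h1 rfl rfl]
  split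
  · rfl
  · apply le_antisymm
    · refine iSup₂_le fun rs hrs => ?_
      refine le_iSup₂_of_le (rs.map e.toRingHom) ⟨(hreg rs).1 hrs.1, ?_⟩ (by simp)
      intro r hr
      obtain ⟨r, hr', rfl⟩ := List.mem_map.1 hr
      exact Ideal.mem_map_of_mem _ (hrs.2 r hr')
    · refine iSup₂_le fun rs hrs => ?_
      have hmap : (rs.map e.symm).map e.toRingHom = rs := by simp [List.map_map, Function.comp_def]
      refine le_iSup₂_of_le (rs.map e.symm) ⟨(hreg _).2 (hmap.symm ▸ hrs.1), ?_⟩ (by simp)
      intro r hr
      obtain ⟨r, hr', rfl⟩ := List.mem_map.1 hr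
      obtain ⟨a, ha, hae⟩ :=
        (Ideal.mem_map_iff_of_surjective e.toRingHom e.surjective).1 (hrs.2 r hr')
      rwa [show e.symm r = a by rw [← hae]; exact e.symm_apply_apply a]

theorem isCohenMacaulayLocalRing_of_ringEquiv (e : R ≃+* S)
    [LocCoh.IsCohenMacaulayLocalRing R] : LocCoh.IsCohenMacaulayLocalRing S := by
  haveI : IsNoetherianRing S := isNoetherianRing_of_ringEquiv R e
  haveI : IsLocalRing S := e.isLocalRing
  refine { supportDim_eq_depth := ?_ }
  have h := LocCoh.IsCohenMacaulayLocalRing.supportDim_eq_depth (R := R)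
  rw [Module.supportDim_self_eq_ringKrullDim] at h ⊢
  rw [← ringKrullDim_eq_of_ringEquiv e, h]
  simp only [LocCoh.depth]
  rw [idealDepth_eq_of_ringEquiv e]
  congr 3
  exact IsLocalRing.map_ringEquiv_maximalIdeal e

theorem isoInvariant_isCohenMacaulayRing :
    IsoInvariant.{u} (fun R [CommRing R] => LocCoh.IsCohenMacaulayRing R) :=
  fun R S _ _ e h =>
    { isNoetherianRing_of_ringEquiv R e with
      isCohenMacaulayLocalRing_localization := fun Q _ => forall_atPrime_congr
        (P := fun R [CommRing R] => LocCoh.IsCohenMacaulayLocalRing R)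
        (fun _ _ _ _ e _ => isCohenMacaulayLocalRing_of_ringEquiv e) e
        (fun q _ => h.isCohenMacaulayLocalRing_localization q) Q }

end Groth.Agent.Lib.Excellent.Transport
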