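import Mathlib.RingTheory.AdicCompletion.AsTensorProduct
import Mathlib.RingTheory.AdicCompletion.Algebra
import Mathlib.RingTheory.AdicCompletion.RingHom

/-!
The completion of a finite algebra is the base change of the completion.
-/

set_option linter.style.haveILetI false

universe u

open scoped TensorProduct

namespace Groth.Agent.Lib.Excellent.CompletionFinite

variable {A : Type u} [CommRing A] (J : Ideal A) (B : Type u) [CommRing B] [Algebra A B]

theorem pow_map_le (n : ℕ) :
    J ^ n ≤ ((J.map (algebraMap A B)) ^ n).comap (Algebra.ofId A B).toRingHom := by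
  rw [← Ideal.map_pow]
  exact Ideal.le_comap_map

/-- The truncated maps `Â → B / (J B)^n`. -/
noncomputable def truncMap (n : ℕ) :
    AdicCompletion J A →ₐ[A] B ⧸ (J.map (algebraMap A B)) ^ n :=
  (Ideal.quotientMapₐ _ (Algebra.ofId A B) (pow_map_le J B n)).comp (AdicCompletion.evalₐ J n)

theorem truncMap_compat {m n : ℕ} (hle : m ≤ n) :
    (Ideal.Quotient.factorₐ A (Ideal.pow_le_pow_right hle)).comp (truncMap J B n)
      = truncMap J B m := by
  ext x
  obtain ⟨a, ha⟩ := Ideal.Quotient.mk_surjective (AdicCompletion.evalₐ J n x)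
  have hm : AdicCompletion.evalₐ J m x = Ideal.Quotient.mk _ a := by
    obtain ⟨y, rfl⟩ := AdicCompletion.mk_surjective J A x
    rw [AdicCompletion.evalₐ_mk] at ha ⊢
    rw [Ideal.Quotient.mk_eq_mk_iff_sub_mem] at ha
    have h1 : y m - y n ∈ J ^ m := by
      have := y.property hle
      rw [SModEq.sub_mem] at this
      simpa using this
    change Ideal.Quotient.mk (J ^ m) (y m) = _
    rw [Ideal.Quotient.mk_eq_mk_iff_sub_mem]
    have h2 : a - y n ∈ J ^ m := Ideal.pow_le_pow_right hle ha
    simpa using Ideal.sub_mem _ h1 h2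
  simp [truncMap, ← ha, hm, Ideal.quotientMapₐ]

/-- Functoriality of the completion along an algebra map. -/
noncomputable def mapAlgHom :
    AdicCompletion J A →ₐ[A] AdicCompletion (J.map (algebraMap A B)) B :=
  AdicCompletion.liftAlgHom _ (truncMap J B) (truncMap_compat J B)

theorem evalₐ_mapAlgHom (n : ℕ) (x : AdicCompletion J A) {a : A}
    (ha : AdicCompletion.evalₐ J n x = Ideal.Quotient.mk _ a) :
    AdicCompletion.evalₐ (J.map (algebraMap A B)) n (mapAlgHom J B x)
      = Ideal.Quotient.mk _ (algebraMap A B a) := by
  rw [mapAlgHom, AdicCompletion.evalₐ_liftAlgHom _ _ (truncMap_compat J B)]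
  simp [truncMap, ha, Ideal.quotientMapₐ]

/-- The comparison map from the base change of the completion. -/
noncomputable def comparison :
    B ⊗[A] AdicCompletion J A →ₐ[B] AdicCompletion (J.map (algebraMap A B)) B :=
  Algebra.TensorProduct.lift (Algebra.ofId B _) (mapAlgHom J B) fun _ _ => Commute.all _ _

theorem smul_top_eq (n : ℕ) : (J ^ n • ⊤ : Submodule A B)
    = ((J.map (algebraMap A B)) ^ n • ⊤ : Submodule B B).restrictScalars A := by
  rw [Ideal.smul_top_eq_map, Ideal.map_pow, Ideal.smul_eq_mul, Ideal.mul_top]

/-- The two truncations of `B`. -/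
noncomputable def truncEquiv (n : ℕ) : (B ⧸ (J ^ n • ⊤ : Submodule A B)) ≃ₗ[A]
    (B ⧸ ((J.map (algebraMap A B)) ^ n • ⊤ : Submodule B B)) :=
  (Submodule.quotEquivOfEq _ _ (smul_top_eq J B n)).trans
    (Submodule.Quotient.restrictScalarsEquiv A _)

theorem truncEquiv_mk (n : ℕ) (b : B) :
    truncEquiv J B n (Submodule.Quotient.mk b) = Submodule.Quotient.mk b := rfl

theorem truncEquiv_transition {m n : ℕ} (h : m ≤ n) (x : B ⧸ (J ^ n • ⊤ : Submodule A B)) :
    AdicCompletion.transitionMap (J.map (algebraMap A B)) B h (truncEquiv J B n x)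
      = truncEquiv J B m (AdicCompletion.transitionMap J B h x) := by
  obtain ⟨b, rfl⟩ := Submodule.Quotient.mk_surjective _ x
  rfl

theorem comparison_val [IsNoetherianRing A] [Module.Finite A B]
    (x : B ⊗[A] AdicCompletion J A) (n : ℕ) :
    (comparison J B x).val n = truncEquiv J B n
      ((AdicCompletion.ofTensorProduct J B (TensorProduct.comm A _ _ x)).val n) := by
  induction x using TensorProduct.induction_on with
  | zero => simp
  | add a b ha hb =>
    simp only [map_add, AdicCompletion.val_add_apply, ha, hb]
  | tmul b c =>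
    obtain ⟨a, ha⟩ := Ideal.Quotient.mk_surjective (AdicCompletion.evalₐ J n c)
    have hle : J ^ n ≤ J ^ n • ⊤ := by simp
    have hle' : (J.map (algebraMap A B)) ^ n ≤ (J.map (algebraMap A B)) ^ n • ⊤ := by simp
    have hc : c.val n = Submodule.Quotient.mk a := by
      have := AdicCompletion.factor_evalₐ_eq_eval J c hle
      rw [← ha] at this
      exact this.symm
    have hl : (comparison J B (b ⊗ₜ c)).val n = Submodule.Quotient.mk (b * algebraMap A B a) := by
      have := AdicCompletion.factor_evalₐ_eq_eval _ (comparison J B (b ⊗ₜ c)) hle'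
      rw [comparison, Algebra.TensorProduct.lift_tmul, map_mul,
        evalₐ_mapAlgHom J B n c ha.symm] at this
      rw [comparison, Algebra.TensorProduct.lift_tmul]
      refine this.symm.trans ?_
      rw [Algebra.ofId_apply, AlgHom.commutes, Ideal.Quotient.algebraMap_eq, ← map_mul]
      rfl
    rw [hl, TensorProduct.comm_tmul, AdicCompletion.ofTensorProduct_tmul,
      AdicCompletion.smul_eval, hc, AdicCompletion.of_apply]
    simp only [Submodule.mkQ_apply]
    rw [show (Submodule.Quotient.mk a : A ⧸ (J ^ n • ⊤ : Ideal A)) •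
      (Submodule.Quotient.mk b : B ⧸ (J ^ n • ⊤ : Submodule A B))
      = Submodule.Quotient.mk (a • b) from rfl, truncEquiv_mk]
    refine congrArg _ ?_
    rw [Algebra.smul_def, mul_comm]

theorem comparison_bijective [IsNoetherianRing A] [Module.Finite A B] :
    Function.Bijective (comparison J B) := by
  have hb := AdicCompletion.ofTensorProduct_bijective_of_finite_of_isNoetherian (I := J) (M := B)
  constructor
  · rw [injective_iff_map_eq_zero]
    intro x hx
    apply (TensorProduct.comm A B (AdicCompletion J A)).injective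
    apply hb.1
    rw [map_zero, map_zero]
    ext n
    have := comparison_val J B x n
    rw [hx, AdicCompletion.val_zero_apply] at this
    apply (truncEquiv J B n).injective
    rw [AdicCompletion.val_zero_apply, map_zero]
    exact this.symm
  · intro y
    let z : AdicCompletion J B := ⟨fun n => (truncEquiv J B n).symm (y.val n), fun {m n} h => by
      apply (truncEquiv J B m).injective
      rw [← truncEquiv_transition J B h, LinearEquiv.apply_symm_apply, LinearEquiv.apply_symm_apply]
      exact y.property h⟩
    obtain ⟨w, hw⟩ := hb.2 z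
    refine ⟨(TensorProduct.comm A _ _).symm w, ?_⟩
    ext n
    rw [comparison_val, LinearEquiv.apply_symm_apply, hw]
    exact LinearEquiv.apply_symm_apply _ _

/-- `B ⊗ Â ≅ B̂` for a finite algebra over a Noetherian ring. -/
noncomputable def completionEquiv [IsNoetherianRing A] [Module.Finite A B] :
    (B ⊗[A] AdicCompletion J A) ≃ₐ[B] AdicCompletion (J.map (algebraMap A B)) B :=
  AlgEquiv.ofBijective (comparison J B) (comparison_bijective J B)

end Groth.Agent.Lib.Excellent.CompletionFinite
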