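import Groth.Agent.Lib.Excellent.FormalFibre
import Groth.Agent.Lib.Excellent.CompletionFinite
import Mathlib.RingTheory.AdicCompletion.LocalRing
import Mathlib.RingTheory.Finiteness.Quotient

/-!
Formal fibres of a quotient of a local ring.
-/

set_option linter.style.haveILetI false

universe u

open scoped TensorProduct

namespace Groth.Agent.Lib.Excellent.QuotientFibre

open FormalFibre

variable (A : Type u) [CommRing A] [IsLocalRing A] (I : Ideal A) [Nontrivial (A ⧸ I)]

theorem map_maximalIdeal :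
    (IsLocalRing.maximalIdeal A).map (algebraMap A (A ⧸ I)) = IsLocalRing.maximalIdeal (A ⧸ I) := by
  haveI : IsLocalHom (Ideal.Quotient.mk I) := IsLocalHom.of_surjective _ Ideal.Quotient.mk_surjective
  rw [Ideal.Quotient.algebraMap_eq, ← IsLocalRing.maximalIdeal_comap (Ideal.Quotient.mk I),
    Ideal.map_comap_of_surjective _ Ideal.Quotient.mk_surjective]

theorem exists_cplEquiv [IsNoetherianRing A] :
    Nonempty ((A ⧸ I) ⊗[A] EGA4.Cpl A ≃ₐ[A ⧸ I] EGA4.Cpl (A ⧸ I)) := by
  have e := CompletionFinite.completionEquiv (IsLocalRing.maximalIdeal A) (A ⧸ I)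
  rw [map_maximalIdeal A I] at e
  exact ⟨e⟩

theorem isFinPoint_quotient {K : Type u} [Field K] [Algebra A K] [Algebra (A ⧸ I) K]
    [IsScalarTower A (A ⧸ I) K] (h : IsFinPoint (A ⧸ I) K) : IsFinPoint A K := by
  obtain ⟨B, hB, hfr⟩ := h
  haveI : Module.Finite A B := Module.Finite.trans (A ⧸ I) B
  exact ⟨B.restrictScalars A, ‹_›, hfr⟩

theorem tensor_cpl_transfer [IsNoetherianRing A] {P : ∀ (R : Type u) [CommRing R], Prop}
    (hP : IsoInvariant P) (K : Type u) [Field K] [Algebra A K] [Algebra (A ⧸ I) K]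
    [IsScalarTower A (A ⧸ I) K] (h : P (K ⊗[A] EGA4.Cpl A)) :
    P (K ⊗[A ⧸ I] EGA4.Cpl (A ⧸ I)) := by
  obtain ⟨e⟩ := exists_cplEquiv A I
  exact hP _ _ ((Algebra.TensorProduct.congr (AlgEquiv.refl : K ≃ₐ[A ⧸ I] K) e.symm).toRingEquiv.trans
    (Algebra.TensorProduct.cancelBaseChange A (A ⧸ I) K K (EGA4.Cpl A)).toRingEquiv).symm h

/-- Passing a property of the formal fibres after finite extensions to a quotient. -/
theorem forall_fibre_quotient [IsNoetherianRing A] {P : ∀ (R : Type u) [CommRing R], Prop}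
    (hP : IsoInvariant P)
    (h : ∀ (K : Type u) [Field K] [Algebra A K], IsFinPoint A K → P (K ⊗[A] EGA4.Cpl A))
    (K : Type u) [Field K] [Algebra (A ⧸ I) K] (hK : IsFinPoint (A ⧸ I) K) :
    P (K ⊗[A ⧸ I] EGA4.Cpl (A ⧸ I)) := by
  letI : Algebra A K := ((algebraMap (A ⧸ I) K).comp (algebraMap A (A ⧸ I))).toAlgebra
  haveI : IsScalarTower A (A ⧸ I) K := .of_algebraMap_eq' rfl
  exact tensor_cpl_transfer A I hP K (h K (isFinPoint_quotient A I hK))

/-- Passing a property of the formal fibres (no extensions) to a quotient. -/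
theorem formalFibre_quotient [IsNoetherianRing A] {P : ∀ (R : Type u) [CommRing R], Prop}
    (hP : IsoInvariant P)
    (h : ∀ (p : Ideal A) [p.IsPrime], P (p.Fiber (EGA4.Cpl A)))
    (q : Ideal (A ⧸ I)) [q.IsPrime] : P (q.Fiber (EGA4.Cpl (A ⧸ I))) := by
  refine tensor_cpl_transfer A I hP q.ResidueField ?_
  let p := q.comap (Ideal.Quotient.mk I)
  have hker : p ≤ RingHom.ker (algebraMap A q.ResidueField) := fun x hx => by
    rw [RingHom.mem_ker]
    exact Ideal.algebraMap_residueField_eq_zero.2 hx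
  let f : p.ResidueField →ₐ[A] q.ResidueField :=
    Ideal.ResidueField.liftₐ p (Algebra.ofId A q.ResidueField) hker
      (fun x hx => Ne.isUnit fun h0 => hx ((Ideal.algebraMap_residueField_eq_zero (I := q)).1 h0))
  have hf : Function.Surjective f := by
    intro z
    obtain ⟨a, s, rfl⟩ := IsLocalization.exists_mk'_eq (nonZeroDivisors ((A ⧸ I) ⧸ q)) z
    obtain ⟨a, rfl⟩ := Ideal.Quotient.mk_surjective a
    obtain ⟨t, ht⟩ := Ideal.Quotient.mk_surjective (s : (A ⧸ I) ⧸ q)
    obtain ⟨a, rfl⟩ := Ideal.Quotient.mk_surjective a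
    obtain ⟨t, rfl⟩ := Ideal.Quotient.mk_surjective t
    refine ⟨algebraMap A p.ResidueField a / algebraMap A p.ResidueField t, ?_⟩
    rw [map_div₀, AlgHom.commutes, AlgHom.commutes, IsFractionRing.mk'_eq_div, ← ht]
    rfl
  exact hP _ _ (Algebra.TensorProduct.congr (AlgEquiv.ofBijective f ⟨f.injective, hf⟩)
    (AlgEquiv.refl : EGA4.Cpl A ≃ₐ[A] EGA4.Cpl A)).toRingEquiv (h p)

end Groth.Agent.Lib.Excellent.QuotientFibre
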