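import Groth.Agent.Lib.Excellent.FormalFibre
import Mathlib.RingTheory.Ideal.MinimalPrime.Noetherian
import Mathlib.RingTheory.LocalProperties.Reduced
import Mathlib.LinearAlgebra.TensorProduct.Pi
import Mathlib.RingTheory.Finiteness.Quotient

/-!
Reducedness of base changes with reduced fibres.
-/

set_option linter.style.haveILetI false

universe u

open scoped TensorProduct

namespace Groth.Agent.Lib.Excellent.Reduced

open FormalFibre

variable {A : Type u} [CommRing A]

theorem isReduced_iff_forall_localization (R : Type u) [CommRing R] :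
    IsReduced R ↔ ∀ (Q : Ideal R) [Q.IsPrime], IsReduced (Localization.AtPrime Q) := by
  refine ⟨fun _ Q _ => inferInstance, fun h => ?_⟩
  exact isReduced_ofLocalizationMaximal R fun J hJ => h J

theorem isReduced_finite_tensor [IsNoetherianRing A] (C : Type u) [CommRing C] [Algebra A C]
    [Module.Flat A C]
    (h : ∀ (K : Type u) [Field K] [Algebra A K], IsFinPoint A K → IsReduced (K ⊗[A] C))
    (B : Type u) [CommRing B] [Algebra A B] [Module.Finite A B] [IsReduced B] :
    IsReduced (B ⊗[A] C) := by
  classical
  haveI : IsNoetherianRing B := isNoetherian_of_tower A (inferInstance : IsNoetherian A B)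
  let ι := {P : Ideal B // P ∈ minimalPrimes B}
  haveI : Finite ι := (minimalPrimes.finite_of_isNoetherianRing B).to_subtype
  haveI : Fintype ι := Fintype.ofFinite ι
  haveI hprime : ∀ i : ι, i.1.IsPrime := fun i => i.2.1.1
  let g : B →ₐ[A] (∀ i : ι, i.1.ResidueField) :=
    AlgHom.pi fun i => IsScalarTower.toAlgHom A B i.1.ResidueField
  have hg : Function.Injective g := by
    rw [injective_iff_map_eq_zero]
    intro x hx
    have : x ∈ nilradical B := by
      rw [nilradical, ← Ideal.sInf_minimalPrimes, Submodule.mem_sInf]
      intro P hP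
      haveI := hprime ⟨P, hP⟩
      have := congrFun hx ⟨P, hP⟩
      simpa [g, Ideal.algebraMap_residueField_eq_zero] using this
    rw [nilradical_eq_zero] at this
    exact this
  haveI hK : ∀ i : ι, IsReduced (i.1.ResidueField ⊗[A] C) := fun i =>
    h _ (isFinPoint_of_domain (B ⧸ i.1) i.1.ResidueField)
  let π : ∀ i : ι, B ⊗[A] C →ₐ[A] i.1.ResidueField ⊗[A] C := fun i =>
    Algebra.TensorProduct.map (IsScalarTower.toAlgHom A B i.1.ResidueField) (AlgHom.id A C)
  constructor
  intro x hx
  have hπ : ∀ i, π i x = 0 := fun i => (hx.map (π i)).eq_zero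
  have hgi : Function.Injective (g.toLinearMap.rTensor C) :=
    Module.Flat.rTensor_preserves_injective_linearMap _ hg
  apply hgi
  apply (TensorProduct.piLeft A C (fun i : ι => i.1.ResidueField)).injective
  rw [map_zero, map_zero]
  funext i
  rw [Pi.zero_apply, ← hπ i]
  clear hπ hx
  induction x using TensorProduct.induction_on with
  | zero => simp
  | tmul b c => simp [π, g]
  | add a b ha hb => simp only [map_add, Pi.add_apply, ha, hb]

end Groth.Agent.Lib.Excellent.Reduced
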