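import Groth.Agent.Lib.Excellent.GRingStability
import Groth.Prelude.Def_EGA4b
import Mathlib.RingTheory.FiniteType
import Mathlib.RingTheory.Spectrum.Prime.Topology

/-!
J-2, universally catenary and excellent rings are stable under localization and quotient.
-/

set_option linter.style.haveILetI false

universe u

namespace Groth.Agent.Lib.Excellent.Localization

/-- A finite type algebra over a localization is a localization of a finite type algebra. -/
theorem exists_model {A A' : Type u} [CommRing A] [CommRing A'] [Algebra A A'] (S : Submonoid A)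
    [IsLocalization S A'] (B : Type u) [CommRing B] [Algebra A' B] [Algebra A B]
    [IsScalarTower A A' B] [Algebra.FiniteType A' B] :
    ∃ T : Subalgebra A B, Algebra.FiniteType A T ∧
      ∃ M : Submonoid T, IsLocalization M B := by
  classical
  obtain ⟨s, hs⟩ := (‹Algebra.FiniteType A' B›).out
  let T := Algebra.adjoin A (s : Set B)
  refine ⟨T, (Subalgebra.fg_iff_finiteType T).1 ⟨s, rfl⟩, Algebra.algebraMapSubmonoid T S, ?_⟩
  have hu : ∀ m : S, IsUnit (algebraMap A B m) := fun m => by
    rw [IsScalarTower.algebraMap_apply A A' B]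
    exact (IsLocalization.map_units A' m).map _
  have hsurj : ∀ z : B, ∃ m : S, algebraMap A B m * z ∈ T := by
    intro z
    have hz : z ∈ Algebra.adjoin A' (s : Set B) := by rw [hs]; exact trivial
    induction hz using Algebra.adjoin_induction with
    | mem x hx => exact ⟨1, by simpa using Algebra.subset_adjoin hx⟩
    | algebraMap r =>
      obtain ⟨⟨a, m⟩, h⟩ := IsLocalization.surj S r
      refine ⟨m, ?_⟩
      rw [IsScalarTower.algebraMap_apply A A' B, ← map_mul, mul_comm, h,
        ← IsScalarTower.algebraMap_apply]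
      exact T.algebraMap_mem a
    | add x y _ _ hx hy =>
      obtain ⟨m, hm⟩ := hx; obtain ⟨n, hn⟩ := hy
      refine ⟨m * n, ?_⟩
      have : algebraMap A B ↑(m * n) * (x + y) = algebraMap A B n * (algebraMap A B m * x)
          + algebraMap A B m * (algebraMap A B n * y) := by
        rw [Submonoid.coe_mul, map_mul]; ring
      rw [this]
      exact T.add_mem (T.mul_mem (T.algebraMap_mem _) hm) (T.mul_mem (T.algebraMap_mem _) hn)
    | mul x y _ _ hx hy =>
      obtain ⟨m, hm⟩ := hx; obtain ⟨n, hn⟩ := hy
      refine ⟨m * n, ?_⟩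
      have : algebraMap A B ↑(m * n) * (x * y) = (algebraMap A B m * x) *
          (algebraMap A B n * y) := by rw [Submonoid.coe_mul, map_mul]; ring
      rw [this]
      exact T.mul_mem hm hn
  constructor
  constructor
  · rintro ⟨_, a, ha, rfl⟩
    exact hu ⟨a, ha⟩
  · intro z
    obtain ⟨m, hm⟩ := hsurj z
    exact ⟨(⟨_, hm⟩, ⟨algebraMap A T m, m, m.2, rfl⟩), mul_comm _ _⟩
  · intro x y h
    exact ⟨1, by rw [Subtype.ext h]⟩

theorem isOpen_regLocus_of_isLocalization {T B : Type u} [CommRing T] [CommRing B] [Algebra T B]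
    (M : Submonoid T) [IsLocalization M B] (h : IsOpen (EGA4.regLocus T)) :
    IsOpen (EGA4.regLocus B) := by
  have : EGA4.regLocus B = PrimeSpectrum.comap (algebraMap T B) ⁻¹' EGA4.regLocus T := by
    ext Q
    haveI := IsLocalization.isLocalization_isLocalization_atPrime_isLocalization M
      (_root_.Localization.AtPrime Q.asIdeal) Q.asIdeal
    let e := (IsLocalization.algEquiv (Q.asIdeal.comap (algebraMap T B)).primeCompl
      (_root_.Localization.AtPrime (Q.asIdeal.comap (algebraMap T B)))
      (_root_.Localization.AtPrime Q.asIdeal)).toRingEquiv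
    exact ⟨fun (_ : IsRegularLocalRing _) => IsRegularLocalRing.of_ringEquiv e.symm,
      fun (_ : IsRegularLocalRing (_root_.Localization.AtPrime
        (Q.asIdeal.comap (algebraMap T B)))) => IsRegularLocalRing.of_ringEquiv e⟩
  rw [this]
  exact h.preimage (PrimeSpectrum.continuous_comap _)

theorem isCatenary_of_isLocalization {T B : Type u} [CommRing T] [CommRing B] [Algebra T B]
    (M : Submonoid T) [IsLocalization M B] (h : CAlg.IsCatenary T) : CAlg.IsCatenary B := by
  let f : PrimeSpectrum B → PrimeSpectrum T := PrimeSpectrum.comap (algebraMap T B)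
  have hinj : Function.Injective f := PrimeSpectrum.localization_comap_injective B M
  have hmono : StrictMono f := by
    intro a b hab
    exact lt_of_le_of_ne (Ideal.comap_mono hab.le) fun he => hab.ne (hinj he)
  have hcov : ∀ a b, a ⋖ b → f a ⋖ f b := by
    intro a b hab
    refine ⟨hmono hab.lt, fun c hac hcb => ?_⟩
    have hd : Disjoint (M : Set T) c.asIdeal :=
      ((IsLocalization.isPrime_iff_isPrime_disjoint M B b.asIdeal).1 b.2).2.mono_right hcb.le
    obtain ⟨c', rfl⟩ : c ∈ Set.range f := by
      rw [PrimeSpectrum.localization_comap_range B M]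
      exact hd
    refine hab.2 (c := c') ?_ ?_
    · refine lt_of_le_of_ne ?_ (fun he => hac.ne (by rw [he]))
      change a.asIdeal ≤ c'.asIdeal
      rw [← IsLocalization.map_under M B a.asIdeal, ← IsLocalization.map_under M B c'.asIdeal]
      exact Ideal.map_mono hac.le
    · refine lt_of_le_of_ne ?_ (fun he => hcb.ne (by rw [he]))
      change c'.asIdeal ≤ b.asIdeal
      rw [← IsLocalization.map_under M B b.asIdeal, ← IsLocalization.map_under M B c'.asIdeal]
      exact Ideal.map_mono hcb.le
  refine ⟨fun p q hpq => ?_, fun s t hh hl hs ht => ?_⟩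
  · obtain ⟨n, hn⟩ := h.1 (f p) (f q) (hmono.monotone hpq)
    exact ⟨n, fun s h1 h2 => hn (s.map f hmono) (by simpa using congrArg f h1)
      (by simpa using congrArg f h2)⟩
  · exact h.2 (s.map f hmono) (t.map f hmono) (by simpa using congrArg f hh)
      (by simpa using congrArg f hl) (fun i => hcov _ _ (hs i)) (fun i => hcov _ _ (ht i))

theorem isJ2_of_isLocalization {A A' : Type u} [CommRing A] [CommRing A'] [Algebra A A']
    (S : Submonoid A) [IsLocalization S A'] (hA : EGA4.IsJ2 A) : EGA4.IsJ2 A' := by
  intro B _ _ _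
  letI : Algebra A B := ((algebraMap A' B).comp (algebraMap A A')).toAlgebra
  haveI : IsScalarTower A A' B := .of_algebraMap_eq' rfl
  obtain ⟨T, hT, M, hM⟩ := exists_model (A' := A') S B
  exact isOpen_regLocus_of_isLocalization M (hA T hT)

theorem isUniversallyCatenary_of_isLocalization {A A' : Type u} [CommRing A] [CommRing A']
    [Algebra A A'] (S : Submonoid A) [IsLocalization S A'] (hA : CAlg.IsUniversallyCatenary A) :
    CAlg.IsUniversallyCatenary A' := by
  haveI := hA.1
  refine ⟨IsLocalization.isNoetherianRing S A' inferInstance, fun B _ _ _ => ?_⟩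
  letI : Algebra A B := ((algebraMap A' B).comp (algebraMap A A')).toAlgebra
  haveI : IsScalarTower A A' B := .of_algebraMap_eq' rfl
  obtain ⟨T, hT, M, hM⟩ := exists_model (A' := A') S B
  exact isCatenary_of_isLocalization M (hA.2 T hT)

theorem isExcellent_of_isLocalization {A A' : Type u} [CommRing A] [CommRing A'] [Algebra A A']
    (S : Submonoid A) [IsLocalization S A'] (hA : EGA4.IsExcellent A) : EGA4.IsExcellent A' := by
  haveI := hA.1
  exact ⟨IsLocalization.isNoetherianRing S A' inferInstance,
    isUniversallyCatenary_of_isLocalization S hA.2.1,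
    GRingStability.isGRing_of_isLocalization S hA.2.2.1, isJ2_of_isLocalization S hA.2.2.2⟩

theorem isJ2_of_finiteType {A B : Type u} [CommRing A] [CommRing B] [Algebra A B]
    [Algebra.FiniteType A B] (hA : EGA4.IsJ2 A) : EGA4.IsJ2 B := by
  intro C _ _ hC
  letI : Algebra A C := ((algebraMap B C).comp (algebraMap A B)).toAlgebra
  haveI : IsScalarTower A B C := .of_algebraMap_eq' rfl
  exact hA C (Algebra.FiniteType.trans (R := A) (S := B) (A := C) ‹_› hC)

theorem isUniversallyCatenary_of_finiteType {A B : Type u} [CommRing A] [CommRing B] [Algebra A B]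
    [Algebra.FiniteType A B] (hA : CAlg.IsUniversallyCatenary A) :
    CAlg.IsUniversallyCatenary B := by
  haveI := hA.1
  refine ⟨Algebra.FiniteType.isNoetherianRing A B, fun C _ _ hC => ?_⟩
  letI : Algebra A C := ((algebraMap B C).comp (algebraMap A B)).toAlgebra
  haveI : IsScalarTower A B C := .of_algebraMap_eq' rfl
  exact hA.2 C (Algebra.FiniteType.trans (R := A) (S := B) (A := C) ‹_› hC)

theorem isExcellent_quotient {A : Type u} [CommRing A] (hA : EGA4.IsExcellent A) (I : Ideal A) :
    EGA4.IsExcellent (A ⧸ I) := by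
  haveI := hA.1
  exact ⟨inferInstance, isUniversallyCatenary_of_finiteType hA.2.1,
    GRingStability.isGRing_quotient hA.2.2.1 I, isJ2_of_finiteType hA.2.2.2⟩

end Groth.Agent.Lib.Excellent.Localization
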