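import Groth.Prelude.Def_Found
import Mathlib.RingTheory.KrullDimension.NonZeroDivisors
import Mathlib.RingTheory.Ideal.KrullsHeightTheorem
import Mathlib.RingTheory.Ideal.MinimalPrime.Basic
import Mathlib.Order.KrullDimension

/-!
Dimensions of quotients of catenary Noetherian local rings.
-/

set_option linter.style.haveILetI false

universe u

open IsLocalRing

namespace Groth.Agent.Lib.Excellent.CatenaryDim

variable {A : Type u} [CommRing A]

theorem ringKrullDim_quotient_eq_coheight (p : PrimeSpectrum A) :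
    ringKrullDim (A ⧸ p.asIdeal) = ((Order.coheight p : ℕ∞) : WithBot ℕ∞) := by
  rw [ringKrullDim_quotient, Order.coheight_eq_krullDim_Ici]
  exact Order.krullDim_eq_of_orderIso (OrderIso.setCongr _ _ (Set.ext fun q => by
    simp only [PrimeSpectrum.mem_zeroLocus, Set.mem_Ici]
    exact Iff.rfl))

theorem covBy_of_length_eq_coheight {α : Type*} [Preorder α] (l : LTSeries α)
    (h : (l.length : ℕ∞) = Order.coheight l.head) (i : Fin l.length) :
    l (Fin.castSucc i) ⋖ l (Fin.succ i) := by
  refine ⟨l.step i, fun z hz1 hz2 => ?_⟩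
  let l' := l.insertNth i z hz1 hz2
  have hle : ∀ k, l.head ≤ l' k := by
    intro k
    change l.head ≤ Fin.insertNth (α := fun _ => α) (Fin.castSucc i.succ) z l.toFun k
    rcases Fin.eq_self_or_eq_succAbove (Fin.castSucc i.succ) k with rfl | ⟨j, rfl⟩
    · rw [Fin.insertNth_apply_same]
      exact le_trans (LTSeries.monotone l (Fin.zero_le _)) hz1.le
    · rw [Fin.insertNth_apply_succAbove]
      exact LTSeries.monotone l (Fin.zero_le _)
  have := Order.length_le_coheight (p := l') (x := l.head) (hle _)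
  rw [← h] at this
  have : l.length + 1 ≤ l.length := by exact_mod_cast this
  omega

variable [IsNoetherianRing A] [IsLocalRing A]

theorem coheight_ne_top (p : PrimeSpectrum A) : Order.coheight p ≠ ⊤ := fun h => by
  have := Order.coheight_le_krullDim p
  rw [h, WithBot.coe_top, top_le_iff] at this
  exact ringKrullDim_ne_top (R := A) this

theorem last_eq_closedPoint (l : LTSeries (PrimeSpectrum A))
    (h : (l.length : ℕ∞) = Order.coheight l.head) : l.last = IsLocalRing.closedPoint A := by
  by_contra hne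
  have hlt : l.last < IsLocalRing.closedPoint A :=
    lt_of_le_of_ne (IsLocalRing.le_maximalIdeal l.last.isPrime.ne_top) hne
  have := Order.length_le_coheight_head (p := l.snoc _ hlt)
  rw [RelSeries.head_snoc, ← h] at this
  have h' : l.length + 0 + 1 ≤ l.length := by exact_mod_cast (this : ((l.length + 0 + 1 : ℕ) : ℕ∞) ≤ (l.length : ℕ∞))
  omega

/-- In a catenary local ring the dimension drops by one along immediate specializations. -/
theorem coheight_covBy (hcat : CAlg.IsCatenary A) {p q : PrimeSpectrum A} (hpq : p ⋖ q) :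
    Order.coheight p = Order.coheight q + 1 := by
  obtain ⟨n, hn⟩ := ENat.ne_top_iff_exists.1 (coheight_ne_top q)
  obtain ⟨N, hN⟩ := ENat.ne_top_iff_exists.1 (coheight_ne_top p)
  obtain ⟨l, hlh, hll⟩ := Order.exists_series_of_coheight_eq_coe q hn.symm
  obtain ⟨L, hLh, hLl⟩ := Order.exists_series_of_coheight_eq_coe p hN.symm
  have hl : (l.length : ℕ∞) = Order.coheight l.head := by rw [hlh, ← hn, hll]
  have hL : (L.length : ℕ∞) = Order.coheight L.head := by rw [hLh, ← hN, hLl]
  let s : LTSeries (PrimeSpectrum A) := l.cons p (hlh ▸ hpq.lt : p < l.head)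
  have hs : ∀ i : Fin s.length, s (Fin.castSucc i) ⋖ s (Fin.succ i) := by
    intro i
    have hlen : s.length = l.length + 1 := by change 0 + l.length + 1 = _; omega
    rcases Nat.eq_zero_or_pos (i : ℕ) with hi | hi
    · have h0 : s (Fin.castSucc i) = p := by
        have : Fin.castSucc i = 0 := Fin.ext hi
        rw [this]
        exact RelSeries.head_cons _ _ _
      have h1 : s (Fin.succ i) = q := by
        rw [← hlh]
        have := RelSeries.cons_cast_succ l p (hlh ▸ hpq.lt : p < l.head) 0
        convert this using 2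
        · exact Fin.ext (by simp [hi])
        · rfl
      rw [h0, h1]
      exact hpq
    · have hi' : (i : ℕ) - 1 < l.length := by have := i.2; omega
      have h0 : s (Fin.castSucc i) = l (Fin.castSucc ⟨i - 1, hi'⟩) := by
        have := RelSeries.cons_cast_succ l p (hlh ▸ hpq.lt : p < l.head) (Fin.castSucc ⟨i - 1, hi'⟩)
        convert this using 2
        exact Fin.ext (by simp; omega)
      have h1 : s (Fin.succ i) = l (Fin.succ ⟨i - 1, hi'⟩) := by
        have := RelSeries.cons_cast_succ l p (hlh ▸ hpq.lt : p < l.head) (Fin.succ ⟨i - 1, hi'⟩)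
        convert this using 2
        exact Fin.ext (by simp; omega)
      rw [h0, h1]
      exact covBy_of_length_eq_coheight l hl _
  have hlen : s.length = L.length := by
    refine hcat.2 s L (by rw [RelSeries.head_cons, hLh]) ?_ hs
      (covBy_of_length_eq_coheight L hL)
    rw [RelSeries.last_cons, last_eq_closedPoint l hl, last_eq_closedPoint L hL]
  rw [← hN, ← hn]
  have : s.length = l.length + 1 := by change 0 + l.length + 1 = _; omega
  rw [hlen, hLl, hll] at this
  exact_mod_cast this

theorem ringKrullDim_quotient_covBy (hcat : CAlg.IsCatenary A) {p q : PrimeSpectrum A}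
    (hpq : p ⋖ q) : ringKrullDim (A ⧸ p.asIdeal) = ringKrullDim (A ⧸ q.asIdeal) + 1 := by
  rw [ringKrullDim_quotient_eq_coheight, ringKrullDim_quotient_eq_coheight,
    coheight_covBy hcat hpq, WithBot.coe_add, WithBot.coe_one]

omit [IsLocalRing A] in
/-- A prime minimal over `p + (t)` covers `p`. -/
theorem covBy_of_mem_minimalPrimes {p : PrimeSpectrum A} {t : A} (ht : t ∉ p.asIdeal)
    {Q : PrimeSpectrum A} (hQ : Q.asIdeal ∈ (p.asIdeal ⊔ Ideal.span {t}).minimalPrimes) :
    p ⋖ Q := by
  have htQ : t ∈ Q.asIdeal := hQ.1.2 (Ideal.mem_sup_right (Ideal.mem_span_singleton_self t))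
  have hpQ : p.asIdeal ≤ Q.asIdeal := le_sup_left.trans hQ.1.2
  refine ⟨lt_of_le_of_ne hpQ fun h => ht (by rw [h]; exact htQ), fun R h1 h2 => ?_⟩
  -- the height of `Q/p` is at most one
  let π := Ideal.Quotient.mk p.asIdeal
  have hle : ∀ S : PrimeSpectrum A, p ≤ S → RingHom.ker π ≤ S.asIdeal := fun S hS => by
    rw [Ideal.mk_ker]; exact hS
  haveI : (Q.asIdeal.map π).IsPrime :=
    Ideal.map_isPrime_of_surjective Ideal.Quotient.mk_surjective (hle Q hpQ)
  haveI : (R.asIdeal.map π).IsPrime :=
    Ideal.map_isPrime_of_surjective Ideal.Quotient.mk_surjective (hle R h1.le)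
  have hmapmin : Q.asIdeal.map π ∈ (Ideal.span {π t}).minimalPrimes := by
    refine ⟨⟨inferInstance, ?_⟩, fun S hS hSQ => ?_⟩
    · rw [Ideal.span_singleton_le_iff_mem]; exact Ideal.mem_map_of_mem _ htQ
    · haveI := hS.1
      refine (Ideal.map_mono (hQ.2 ⟨inferInstance, sup_le (fun x hx => ?_) ?_⟩
        (fun x hx => ?_))).trans Ideal.map_comap_le
      · change π x ∈ S
        rw [Ideal.Quotient.eq_zero_iff_mem.2 hx]; exact S.zero_mem
      · rw [Ideal.span_singleton_le_iff_mem]
        exact hS.2 (Ideal.mem_span_singleton_self _)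
      · have := hSQ hx
        rwa [← Ideal.mem_comap, Ideal.comap_map_of_surjective' π Ideal.Quotient.mk_surjective,
          sup_eq_left.2 (hle Q hpQ)] at this
  have hh := Ideal.height_le_one_of_isPrincipal_of_mem_minimalPrimes _ _ hmapmin
  have hbot : (⊥ : Ideal (A ⧸ p.asIdeal)) < R.asIdeal.map π := by
    rw [bot_lt_iff_ne_bot, Ne, Ideal.map_eq_bot_iff_le_ker, Ideal.mk_ker]
    exact h1.not_ge
  have hlt : R.asIdeal.map π < Q.asIdeal.map π := by
    refine lt_of_le_not_ge (Ideal.map_mono h2.le) fun hge => h2.not_ge ?_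
    rwa [Ideal.map_le_iff_le_comap, Ideal.comap_map_of_surjective' π Ideal.Quotient.mk_surjective,
      sup_eq_left.2 (hle R h1.le)] at hge
  haveI : (⊥ : Ideal (A ⧸ p.asIdeal)).IsPrime := Ideal.isPrime_bot
  have e1 := Ideal.height_add_one_le_of_lt_of_isPrime hbot
  have e2 := Ideal.height_add_one_le_of_lt_of_isPrime hlt
  have e3 : (2 : ℕ∞) ≤ 1 := by
    refine le_trans ?_ hh
    calc (2 : ℕ∞) = 0 + 1 + 1 := rfl
      _ ≤ _ := by
        refine le_trans ?_ e2
        gcongr
        exact le_trans (by gcongr; exact zero_le) e1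
  exact absurd e3 (by norm_num)

/-- Every prime lies above a minimal prime along a saturated chain. -/
theorem exists_isMin_coheight_eq (hcat : CAlg.IsCatenary A) :
    ∀ (n : ℕ) (p : PrimeSpectrum A), Order.height p = n →
      ∃ P₀ ≤ p, IsMin P₀ ∧ Order.coheight P₀ = n + Order.coheight p
  | 0, p, h => ⟨p, le_rfl, Order.height_eq_zero.1 (by simpa using h), by simp⟩
  | n + 1, p, h => by
    have h' : Order.height p = (n : ℕ∞) + 1 := by simpa using h
    obtain ⟨-, ⟨q, hqp, hq⟩, hle⟩ := Order.height_eq_coe_add_one_iff.1 h'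
    have hcov : q ⋖ p := ⟨hqp, fun z hz1 hz2 => by
      have h1 := (Order.height_add_one_le hz1).trans (hle z hz2)
      rw [hq] at h1
      have : n + 1 ≤ n := by exact_mod_cast h1
      omega⟩
    obtain ⟨P₀, hP₀, hmin, heq⟩ := exists_isMin_coheight_eq hcat n q hq
    refine ⟨P₀, hP₀.trans hqp.le, hmin, ?_⟩
    rw [heq, coheight_covBy hcat hcov, Nat.cast_succ]
    ring

/-- In an equidimensional catenary local ring `ht p + dim A/p = dim A`. -/
theorem height_add_coheight_eq (hcat : CAlg.IsCatenary A)
    (heq : ∀ P ∈ minimalPrimes A, ringKrullDim (A ⧸ P) = ringKrullDim A) (p : PrimeSpectrum A) :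
    ((p.asIdeal.height + Order.coheight p : ℕ∞) : WithBot ℕ∞) = ringKrullDim A := by
  rw [PrimeSpectrum.height_eq_orderHeight]
  have hne : Order.height p ≠ ⊤ := by
    rw [← PrimeSpectrum.height_eq_orderHeight]
    exact Ideal.height_ne_top p.2.ne_top
  obtain ⟨n, hn⟩ := ENat.ne_top_iff_exists.1 hne
  obtain ⟨P₀, -, hmin, h⟩ := exists_isMin_coheight_eq hcat n p hn.symm
  rw [← hn, ← h, ← ringKrullDim_quotient_eq_coheight]
  exact heq _ ⟨⟨P₀.2, bot_le⟩, fun J hJ hle => hmin (show (⟨J, hJ.1⟩ : PrimeSpectrum A) ≤ P₀ from hle)⟩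

/-- In an equidimensional catenary local ring heights rise by one along immediate specializations. -/
theorem height_covBy (hcat : CAlg.IsCatenary A)
    (heq : ∀ P ∈ minimalPrimes A, ringKrullDim (A ⧸ P) = ringKrullDim A) {p q : PrimeSpectrum A}
    (hpq : p ⋖ q) : q.asIdeal.height = p.asIdeal.height + 1 := by
  have h1 := height_add_coheight_eq hcat heq p
  rw [← height_add_coheight_eq hcat heq q, WithBot.coe_inj, coheight_covBy hcat hpq] at h1
  have hc : Order.coheight q ≠ ⊤ := coheight_ne_top q
  rw [← (ENat.addLECancellable_of_ne_top hc).inj]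
  rw [add_comm, ← h1]
  ring

end Groth.Agent.Lib.Excellent.CatenaryDim
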