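import Groth.Prelude.Def_EGA4b
import Mathlib.RingTheory.Localization.Integral
import Mathlib.RingTheory.Localization.BaseChange
import Mathlib.RingTheory.Localization.LocalizationLocalization
import Mathlib.RingTheory.LocalRing.ResidueField.Ideal
import Mathlib.RingTheory.LocalRing.ResidueField.Fiber
import Mathlib.RingTheory.Nilpotent.GeometricallyReduced

/-!
Fibres of an algebra, expressed through the finite field points of the base.
-/

set_option linter.style.haveILetI false

universe u

open scoped TensorProduct nonZeroDivisors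

namespace Groth.Agent.Lib.Excellent.FormalFibre

/-- `K` is the fraction field of a finite subalgebra. -/
def IsFinPoint (A : Type u) [CommRing A] (K : Type u) [Field K] [Algebra A K] : Prop :=
  ∃ B : Subalgebra A K, Module.Finite A B ∧ IsFractionRing B K

variable {A : Type u} [CommRing A]

theorem isFinPoint_of_finite (p : Ideal A) [p.IsPrime] (K : Type u) [Field K]
    [Algebra p.ResidueField K] [Algebra A K] [IsScalarTower A p.ResidueField K]
    [Module.Finite p.ResidueField K] : IsFinPoint A K := by
  classical
  let b := Module.finBasis p.ResidueField K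
  letI : Algebra (A ⧸ p) K :=
    ((algebraMap p.ResidueField K).comp (algebraMap (A ⧸ p) p.ResidueField)).toAlgebra
  haveI : IsScalarTower (A ⧸ p) p.ResidueField K := .of_algebraMap_eq' rfl
  haveI : IsScalarTower A (A ⧸ p) K := .of_algebraMap_eq fun a => by
    rw [IsScalarTower.algebraMap_apply A p.ResidueField K,
      IsScalarTower.algebraMap_apply A (A ⧸ p) p.ResidueField]
    rfl
  have h : ∀ i, ∃ m : (A ⧸ p)⁰, IsIntegral (A ⧸ p) (m • b i) := fun i =>
    IsIntegral.exists_multiple_integral_of_isLocalization (Rₘ := p.ResidueField) (A ⧸ p)⁰ (b i)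
      (Algebra.IsIntegral.isIntegral _)
  choose m hm using h
  let c := fun i => m i • b i
  have hc : ∀ i, IsIntegral A (c i) := fun i => isIntegral_trans (R := A) (A := A ⧸ p) _ (hm i)
  let B := Algebra.adjoin A (Set.range c)
  refine ⟨B, Module.Finite.iff_fg.2 (fg_adjoin_of_finite (Set.finite_range c)
    (by rintro _ ⟨i, rfl⟩; exact hc i)), ?_⟩
  let F := Subfield.closure (B : Set K)
  have hres : ∀ r : p.ResidueField, algebraMap _ K r ∈ F := by
    intro r
    obtain ⟨a, s, rfl⟩ := IsLocalization.exists_mk'_eq (A ⧸ p)⁰ r
    rw [IsFractionRing.mk'_eq_div, map_div₀, ← IsScalarTower.algebraMap_apply,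
      ← IsScalarTower.algebraMap_apply]
    obtain ⟨a, rfl⟩ := Ideal.Quotient.mk_surjective a
    obtain ⟨t, ht⟩ := Ideal.Quotient.mk_surjective (s : A ⧸ p)
    rw [← ht, ← Ideal.Quotient.algebraMap_eq, ← IsScalarTower.algebraMap_apply,
      ← IsScalarTower.algebraMap_apply]
    exact div_mem (Subfield.subset_closure (B.algebraMap_mem a))
      (Subfield.subset_closure (B.algebraMap_mem t))
  have key : ∀ z : K, z ∈ F := by
    intro z
    rw [← b.sum_repr z]
    refine sum_mem fun i _ => ?_
    rw [Algebra.smul_def]
    refine mul_mem (hres _) ?_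
    have h1 : c i ∈ F := Subfield.subset_closure (Algebra.subset_adjoin ⟨i, rfl⟩)
    have h0 : algebraMap (A ⧸ p) K (m i) ≠ 0 := by
      rw [IsScalarTower.algebraMap_apply (A ⧸ p) p.ResidueField K]
      exact (map_ne_zero _).2 (IsFractionRing.to_map_ne_zero_of_mem_nonZeroDivisors (m i).2)
    have h2 : b i = c i / algebraMap p.ResidueField K (algebraMap (A ⧸ p) _ (m i)) := by
      rw [← IsScalarTower.algebraMap_apply, eq_div_iff h0]
      change _ = (m i : A ⧸ p) • b i
      rw [Algebra.smul_def, mul_comm]
    rw [h2]
    exact div_mem h1 (hres _)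
  refine IsFractionRing.of_field _ _ fun z => ?_
  obtain ⟨y, hy, w, hw, rfl⟩ := Subfield.mem_closure_iff.1 (key z)
  have hB : Subring.closure (B : Set K) = B.toSubring := Subring.closure_eq B.toSubring
  rw [hB] at hy hw
  exact ⟨⟨y, hy⟩, ⟨w, hw⟩, rfl⟩

theorem finite_of_isFinPoint {K : Type u} [Field K] [Algebra A K] (h : IsFinPoint A K)
    (p : Ideal A) [p.IsPrime] [Algebra p.ResidueField K] [IsScalarTower A p.ResidueField K] :
    Module.Finite p.ResidueField K := by
  obtain ⟨B, hB, hfr⟩ := h
  obtain ⟨s, hs⟩ := (Module.Finite.iff_fg (N := B.toSubmodule)).1 hB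
  have hint : ∀ x ∈ (s : Set K), IsIntegral p.ResidueField x := by
    intro x hx
    have hxB : x ∈ B.toSubmodule := hs ▸ Submodule.subset_span hx
    have : IsIntegral A (⟨x, hxB⟩ : B) := Algebra.IsIntegral.isIntegral _
    exact (IsIntegral.map B.val this).tower_top
  let B' := Algebra.adjoin p.ResidueField (s : Set K)
  have hfin : B'.toSubmodule.FG := fg_adjoin_of_finite s.finite_toSet hint
  haveI : Module.Finite p.ResidueField B' := Module.Finite.iff_fg.2 hfin
  have hle : ∀ x ∈ B, x ∈ B' := by
    intro x hx
    have hx' : x ∈ B.toSubmodule := hx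
    rw [← hs] at hx'
    exact (Submodule.span_le (p := (B'.restrictScalars A).toSubmodule)).2
      Algebra.subset_adjoin hx'
  have hall : ∀ z : K, z ∈ B' := by
    intro z
    obtain ⟨y, w, hw, rfl⟩ := IsFractionRing.div_surjective B z
    rw [div_eq_mul_inv]
    refine B'.mul_mem (hle _ y.2) ?_
    exact Subalgebra.inv_mem_of_algebraic B' (x := ⟨_, hle _ w.2⟩)
      ((isAlgebraic_iff_isIntegral.2 (IsIntegral.map B'.val (Algebra.IsIntegral.isIntegral (⟨_, hle _ w.2⟩ : B')))))
  exact Module.Finite.of_surjective B'.val.toLinearMap fun z => ⟨⟨z, hall z⟩, rfl⟩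

/-- A predicate on rings invariant under isomorphism. -/
def IsoInvariant (P : ∀ (R : Type u) [CommRing R], Prop) : Prop :=
  ∀ (R S : Type u) [CommRing R] [CommRing S], (R ≃+* S) → P R → P S

/-- Fibres after finite extensions versus finite points of the base. -/
theorem forall_fibre_iff {P : ∀ (R : Type u) [CommRing R], Prop} (hP : IsoInvariant P)
    (C : Type u) [CommRing C] [Algebra A C] :
    (∀ (p : Ideal A) [p.IsPrime] (k' : Type u) [Field k'] [Algebra p.ResidueField k'],
      Module.Finite p.ResidueField k' → P (k' ⊗[p.ResidueField] p.Fiber C)) ↔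
    ∀ (K : Type u) [Field K] [Algebra A K], IsFinPoint A K → P (K ⊗[A] C) := by
  constructor
  · intro h K _ _ hK
    let p := RingHom.ker (algebraMap A K)
    haveI : p.IsPrime := RingHom.ker_isPrime _
    letI : Algebra p.ResidueField K := (Ideal.ResidueField.lift p (algebraMap A K) le_rfl
      (fun x hx => (Ne.isUnit (fun h0 => hx h0)))).toAlgebra
    haveI : IsScalarTower A p.ResidueField K := .of_algebraMap_eq fun a => by
      exact (Ideal.ResidueField.lift_algebraMap (I := p) (algebraMap A K) le_rfl _ a).symm
    exact hP _ _ (Algebra.TensorProduct.cancelBaseChange A p.ResidueField K K C).toRingEquiv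
      (h p K (finite_of_isFinPoint hK p))
  · intro h p _ k' _ _ _
    letI : Algebra A k' := ((algebraMap p.ResidueField k').comp (algebraMap A _)).toAlgebra
    haveI : IsScalarTower A p.ResidueField k' := .of_algebraMap_eq' rfl
    exact hP _ _ (Algebra.TensorProduct.cancelBaseChange A p.ResidueField k' k' C).symm.toRingEquiv
      (h k' (isFinPoint_of_finite p k'))

theorem isFinPoint_residueField (p : Ideal A) [p.IsPrime] : IsFinPoint A p.ResidueField :=
  isFinPoint_of_finite p p.ResidueField

/-- The fraction field of a finite domain is a finite point. -/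
theorem isFinPoint_of_domain (B : Type u) [CommRing B] [Algebra A B] [Module.Finite A B]
    (K : Type u) [Field K] [Algebra A K] [Algebra B K] [IsScalarTower A B K] [IsFractionRing B K] :
    IsFinPoint A K := by
  let e := AlgEquiv.ofInjective (IsScalarTower.toAlgHom A B K) (IsFractionRing.injective B K)
  refine ⟨(IsScalarTower.toAlgHom A B K).range, Module.Finite.equiv e.toLinearEquiv, ?_⟩
  refine IsFractionRing.of_field _ _ fun z => ?_
  obtain ⟨y, w, hw, rfl⟩ := IsFractionRing.div_surjective B z
  exact ⟨e y, e w, rfl⟩

section reduced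

theorem isGeometricallyReduced_iff_finite (k : Type u) [Field k] (X : Type u) [CommRing X]
    [Algebra k X] : Algebra.IsGeometricallyReduced k X ↔
      ∀ (k' : Type u) [Field k'] [Algebra k k'], Module.Finite k k' → IsReduced (k' ⊗[k] X) := by
  constructor
  · intro h k' _ _ _
    infer_instance
  · intro h
    rw [Algebra.isGeometricallyReduced_field_iff]
    haveI : IsReduced (X ⊗[k] AlgebraicClosure k) := by
      refine IsReduced.tensorProduct_of_flat_of_forall_fg fun B hB => ?_
      haveI : Algebra.IsIntegral k B :=
        ⟨fun x => (isIntegral_algHom_iff B.val Subtype.val_injective).1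
          (Algebra.IsIntegral.isIntegral _)⟩
      haveI : Algebra.FiniteType k B := (Subalgebra.fg_iff_finiteType B).1 hB
      haveI : Module.Finite k B := Algebra.IsIntegral.finite
      letI : Field B := (isField_of_isIntegral_of_isField' (R := k) (S := B) (Field.toIsField k)).toField
      haveI : IsReduced ((B : Type u) ⊗[k] X) := h B inferInstance
      exact isReduced_of_injective (Algebra.TensorProduct.comm k X B).toRingEquiv
        (Algebra.TensorProduct.comm k X B).injective
    exact isReduced_of_injective (Algebra.TensorProduct.comm k (AlgebraicClosure k) X).toRingEquiv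
      (Algebra.TensorProduct.comm k (AlgebraicClosure k) X).injective

theorem isoInvariant_isReduced : IsoInvariant.{u} (fun R [CommRing R] => IsReduced R) :=
  fun _ _ _ _ e _ => isReduced_of_injective e.symm e.symm.injective

theorem geomReduced_fibres_iff (C : Type u) [CommRing C] [Algebra A C] :
    (∀ (p : Ideal A) [p.IsPrime], Algebra.IsGeometricallyReduced p.ResidueField (p.Fiber C)) ↔
      ∀ (K : Type u) [Field K] [Algebra A K], IsFinPoint A K → IsReduced (K ⊗[A] C) := by
  simp only [isGeometricallyReduced_iff_finite]
  exact forall_fibre_iff isoInvariant_isReduced C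

end reduced

theorem isGeomNormal_iff' (k : Type u) [Field k] (X : Type u) [CommRing X] [Algebra k X] :
    EGA4.IsGeomNormal k X ↔ ∀ (k' : Type u) [Field k'] [Algebra k k'],
      Module.Finite k k' → EGA4.IsNormalRing (k' ⊗[k] X) := Iff.rfl

section localization

variable {S S' : Type u} [CommRing S] [CommRing S'] [Algebra S S'] (M : Submonoid S)
  [IsLocalization M S']

/-- The prime localizations of a localization are those at primes disjoint from the submonoid. -/
theorem forall_localization_iff {P : ∀ (R : Type u) [CommRing R], Prop} (hP : IsoInvariant P) :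
    (∀ (Q : Ideal S') [Q.IsPrime], P (Localization.AtPrime Q)) ↔
      ∀ (q : Ideal S) [q.IsPrime], Disjoint (M : Set S) q → P (Localization.AtPrime q) := by
  have key : ∀ (Q : Ideal S') [Q.IsPrime] (q : Ideal S) [q.IsPrime],
      q = Q.comap (algebraMap S S') → Nonempty (Localization.AtPrime Q ≃+* Localization.AtPrime q) := by
    intro Q _ q _ hq
    subst hq
    haveI := IsLocalization.isLocalization_isLocalization_atPrime_isLocalization M
      (Localization.AtPrime Q) Q
    exact ⟨(IsLocalization.algEquiv (Q.comap (algebraMap S S')).primeCompl _ _).toRingEquiv⟩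
  constructor
  · intro h q hq hd
    haveI : (q.map (algebraMap S S')).IsPrime :=
      IsLocalization.isPrime_of_isPrime_disjoint M S' q hq hd
    obtain ⟨e⟩ := key (q.map (algebraMap S S')) q
      (IsLocalization.comap_map_of_isPrime_disjoint M S' hq hd).symm
    exact hP _ _ e (h _)
  · intro h Q hQ
    obtain ⟨e⟩ := key Q (Q.comap (algebraMap S S')) rfl
    exact hP _ _ e.symm (h _ ((IsLocalization.isPrime_iff_isPrime_disjoint M S' Q).1 hQ).2)

end localization

/-- Local rings of generic fibres of finite domains versus those of the finite points. -/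
theorem forall_domain_iff {P : ∀ (R : Type u) [CommRing R], Prop} (hP : IsoInvariant P)
    (C : Type u) [CommRing C] [Algebra A C] :
    (∀ (B : Type u) [CommRing B] [IsDomain B] [Algebra A B] [Module.Finite A B]
        (q : Ideal (B ⊗[A] C)) [q.IsPrime],
        q.comap (algebraMap B (B ⊗[A] C)) = ⊥ → P (Localization.AtPrime q)) ↔
    ∀ (K : Type u) [Field K] [Algebra A K], IsFinPoint A K →
      ∀ (Q : Ideal (K ⊗[A] C)) [Q.IsPrime], P (Localization.AtPrime Q) := by
  have key : ∀ (B : Type u) [CommRing B] [IsDomain B] [Algebra A B] (K : Type u) [Field K]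
      [Algebra A K] [Algebra B K] [IsScalarTower A B K] [IsFractionRing B K],
      (∀ (Q : Ideal (K ⊗[A] C)) [Q.IsPrime], P (Localization.AtPrime Q)) ↔
      ∀ (q : Ideal (B ⊗[A] C)) [q.IsPrime], q.comap (algebraMap B (B ⊗[A] C)) = ⊥ →
        P (Localization.AtPrime q) := by
    intro B _ _ _ K _ _ _ _ _
    letI : Algebra (B ⊗[A] C) (K ⊗[A] C) :=
      (Algebra.TensorProduct.map (IsScalarTower.toAlgHom A B K) (AlgHom.id A C)).toRingHom.toAlgebra
    haveI : IsScalarTower B (B ⊗[A] C) (K ⊗[A] C) := .of_algebraMap_eq fun x => by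
      simp [RingHom.algebraMap_toAlgebra]
    haveI := IsLocalization.tensorProduct_tensorProduct A C B⁰ K
      (by ext; simp [RingHom.algebraMap_toAlgebra])
    rw [forall_localization_iff (Algebra.algebraMapSubmonoid (B ⊗[A] C) B⁰) hP]
    refine forall_congr' fun q => forall_congr' fun hq => imp_congr_left ?_
    rw [Set.disjoint_left]
    constructor
    · intro hd
      rw [eq_bot_iff]
      intro x hx
      by_contra h0
      exact hd ⟨x, mem_nonZeroDivisors_of_ne_zero h0, rfl⟩ hx
    · rintro h _ ⟨x, hx, rfl⟩ hxq
      have : x ∈ q.comap (algebraMap B (B ⊗[A] C)) := hxq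
      rw [h] at this
      exact nonZeroDivisors.ne_zero hx this
  constructor
  · intro h K _ _ hK
    obtain ⟨B, hB, hfr⟩ := hK
    exact (key B K).2 fun q _ hq => h B q hq
  · intro h B _ _ _ _
    exact (key B (FractionRing B)).1 (h _ (isFinPoint_of_domain B _))

end Groth.Agent.Lib.Excellent.FormalFibre
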