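import Groth.Agent.Lib.Depth.Vanish
import Groth.Agent.Lib.Depth.Local
import Groth.Agent.Lib.Depth.CM
import Mathlib.RingTheory.KrullDimension.Module

/-!
Depth and dimension of localizations of a finite module over a Noetherian local ring.
-/

set_option linter.style.haveILetI false

universe u

open IsLocalRing LocCoh Groth.Agent.Lib.Depth

namespace Groth.Agent.Lib.Excellent.DepthLocalization

variable {A : Type u} [CommRing A] [IsNoetherianRing A] [IsLocalRing A]
variable (M : Type u) [AddCommGroup M] [Module A M] [Module.Finite A M]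

/-- `depth M ≤ depth M_p + dim A/p`. -/
theorem depth_le_depth_localization_add (p : Ideal A) [p.IsPrime] :
    ((depth A M : ℕ∞) : WithBot ℕ∞) ≤
      ((depth (Localization.AtPrime p) (LocalizedModule p.primeCompl M) : ℕ∞) : WithBot ℕ∞) +
        ringKrullDim (A ⧸ p) := by
  haveI : Nontrivial (A ⧸ p) := Ideal.Quotient.nontrivial_iff.mpr Ideal.IsPrime.ne_top'
  refine le_trans ?_ (add_le_add (WithBot.coe_le_coe.2
    (Local.idealDepth_le_depth_localization p M p le_rfl)) le_rfl)
  by_contra hc
  rw [not_le] at hc
  have hne : idealDepth p M ≠ ⊤ := by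
    intro h
    rw [h, WithBot.coe_top] at hc
    refine not_top_lt (lt_of_le_of_lt ?_ hc)
    exact le_add_of_nonneg_right ringKrullDim_nonneg_of_nontrivial
  obtain ⟨d, hd⟩ := ENat.ne_top_iff_exists.1 hne
  have h1 : ((d + 1 : ℕ) : ℕ∞) ≤ idealDepth p M := by
    rw [Groth.Agent.Lib.Depth.Ext.le_idealDepth_iff_ext_quotient]
    intro i hi
    refine Vanish.subsingleton_ext_of_supportDim_lt (ModuleCat.of A (A ⧸ p)) i (ModuleCat.of A M) ?_
    rw [Module.supportDim_quotient_eq_ringKrullDim]
    refine lt_of_le_of_lt (add_le_add (WithBot.coe_le_coe.2 ?_) le_rfl) hc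
    rw [← hd]
    exact_mod_cast Nat.lt_succ_iff.1 hi
  rw [← hd] at h1
  have : d + 1 ≤ d := by exact_mod_cast h1
  omega

omit [IsLocalRing A] [IsNoetherianRing A] in
/-- `dim M_p + dim A/p ≤ dim M`. -/
theorem supportDim_localization_add_le (p : Ideal A) [p.IsPrime]
    [Nontrivial (LocalizedModule p.primeCompl M)] :
    Module.supportDim (Localization.AtPrime p) (LocalizedModule p.primeCompl M) +
        ringKrullDim (A ⧸ p) ≤ Module.supportDim A M := by
  let S := Module.support A M
  have hpS : (⟨p, inferInstance⟩ : PrimeSpectrum A) ∈ S := Module.mem_support_iff.2 inferInstance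
  let x : S := ⟨⟨p, inferInstance⟩, hpS⟩
  haveI : Nonempty S := ⟨x⟩
  have h1 : Module.supportDim (Localization.AtPrime p) (LocalizedModule p.primeCompl M) ≤
      ((Order.height x : ℕ∞) : WithBot ℕ∞) := by
    rw [Order.height_eq_krullDim_Iic]
    have hmem : ∀ Q : PrimeSpectrum (Localization.AtPrime p),
        Q ∈ Module.support (Localization.AtPrime p) (LocalizedModule p.primeCompl M) →
        PrimeSpectrum.comap (algebraMap A (Localization.AtPrime p)) Q ∈ S := by
      intro Q hQ
      haveI := Module.Finite.of_isLocalizedModule p.primeCompl (Rₚ := Localization.AtPrime p)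
        (LocalizedModule.mkLinearMap p.primeCompl M)
      change _ ∈ Module.support A M
      rw [Module.support_eq_zeroLocus] at hQ ⊢
      intro r hr
      refine hQ (Module.mem_annihilator.mpr fun m => ?_)
      rw [algebraMap_smul]
      obtain ⟨⟨a, s⟩, rfl⟩ := IsLocalizedModule.mk'_surjective p.primeCompl
        (LocalizedModule.mkLinearMap p.primeCompl M) m
      simp only [Function.uncurry_apply_pair]
      rw [← IsLocalizedModule.mk'_smul, Module.mem_annihilator.mp hr a, IsLocalizedModule.mk'_zero]
    haveI := Module.Finite.of_isLocalizedModule p.primeCompl (Rₚ := Localization.AtPrime p)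
      (LocalizedModule.mkLinearMap p.primeCompl M)
    refine Order.krullDim_le_of_strictMono (fun Q => ⟨⟨_, hmem Q.1 Q.2⟩, ?_⟩) fun Q Q' hlt => ?_
    · change (Q.1.asIdeal).comap (algebraMap A (Localization.AtPrime p)) ≤ p
      exact le_trans (Ideal.comap_mono (IsLocalRing.le_maximalIdeal Q.1.isPrime.ne_top))
        (IsLocalization.AtPrime.under_maximalIdeal _ p).le
    · change PrimeSpectrum.comap (algebraMap A (Localization.AtPrime p)) Q.1 <
        PrimeSpectrum.comap (algebraMap A (Localization.AtPrime p)) Q'.1
      refine lt_of_le_of_ne (Ideal.comap_mono (le_of_lt hlt)) fun h => hlt.ne (Subtype.ext ?_)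
      exact PrimeSpectrum.localization_comap_injective _ p.primeCompl h
  have h2 : ringKrullDim (A ⧸ p) ≤ ((Order.coheight x : ℕ∞) : WithBot ℕ∞) := by
    rw [ringKrullDim_quotient, Order.coheight_eq_krullDim_Ici]
    exact Order.krullDim_le_of_strictMono
      (fun Q => ⟨⟨Q.1, Module.mem_support_mono Q.2 hpS⟩, Q.2⟩) fun Q Q' h => h
  refine (add_le_add h1 h2).trans ?_
  rw [Module.supportDim, Order.krullDim_eq_iSup_height_add_coheight_of_nonempty, ← WithBot.coe_add,
    WithBot.coe_le_coe]
  exact le_iSup (fun a : S => Order.height a + Order.coheight a) x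

/-- Codepth does not increase under localization. -/
theorem codepth_localization_le (p : Ideal A) [p.IsPrime]
    [Nontrivial (LocalizedModule p.primeCompl M)] :
    Module.supportDim (Localization.AtPrime p) (LocalizedModule p.primeCompl M) +
        ((depth A M : ℕ∞) : WithBot ℕ∞) ≤
      Module.supportDim A M +
        ((depth (Localization.AtPrime p) (LocalizedModule p.primeCompl M) : ℕ∞) : WithBot ℕ∞) := by
  refine (add_le_add le_rfl (depth_le_depth_localization_add M p)).trans ?_
  rw [← add_assoc, add_right_comm]
  exact add_le_add (supportDim_localization_add_le M p) le_rfl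

end Groth.Agent.Lib.Excellent.DepthLocalization
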