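import Groth.Agent.Lib.Excellent.FormalFibre
import Groth.Agent.Lib.Excellent.CompletionNoetherian
import Mathlib.RingTheory.Localization.Submodule
import Mathlib.RingTheory.Finiteness.Quotient

/-!
Fibres of a completion after finite extensions are Noetherian.
-/

set_option linter.style.haveILetI false

universe u

open scoped TensorProduct nonZeroDivisors

namespace Groth.Agent.Lib.Excellent.FibreNoetherian

open FormalFibre

variable {A : Type u} [CommRing A] [IsNoetherianRing A] (J : Ideal A)

omit [IsNoetherianRing A] in
theorem isNoetherianRing_fractionField_tensor (C : Type u) [CommRing C] [Algebra A C]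
    (B : Type u) [CommRing B] [Algebra A B] [IsDomain B] (K : Type u) [Field K] [Algebra A K]
    [Algebra B K] [IsScalarTower A B K] [IsFractionRing B K] (h : IsNoetherianRing (B ⊗[A] C)) :
    IsNoetherianRing (K ⊗[A] C) := by
  letI : Algebra (B ⊗[A] C) (K ⊗[A] C) :=
    (Algebra.TensorProduct.map (IsScalarTower.toAlgHom A B K) (AlgHom.id A C)).toRingHom.toAlgebra
  haveI : IsScalarTower B (B ⊗[A] C) (K ⊗[A] C) :=
    .of_algebraMap_eq fun x => by simp [RingHom.algebraMap_toAlgebra]
  haveI := IsLocalization.tensorProduct_tensorProduct A C (B⁰) K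
    (by ext; simp [RingHom.algebraMap_toAlgebra])
  exact IsLocalization.isNoetherianRing (Algebra.algebraMapSubmonoid (B ⊗[A] C) B⁰) _ h

theorem isNoetherianRing_finPoint_tensor (K : Type u) [Field K] [Algebra A K]
    (hK : IsFinPoint A K) : IsNoetherianRing (K ⊗[A] AdicCompletion J A) := by
  obtain ⟨B, hB, hfr⟩ := hK
  haveI : IsNoetherianRing B := isNoetherian_of_tower A (inferInstance : IsNoetherian A B)
  exact isNoetherianRing_fractionField_tensor _ B K
    (isNoetherianRing_of_ringEquiv _ (CompletionFinite.completionEquiv J B).symm.toRingEquiv)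

theorem isNoetherianRing_fibre (p : Ideal A) [p.IsPrime] :
    IsNoetherianRing (p.Fiber (AdicCompletion J A)) :=
  isNoetherianRing_finPoint_tensor J p.ResidueField (isFinPoint_residueField p)

end Groth.Agent.Lib.Excellent.FibreNoetherian
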