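import Groth.Agent.Lib.Excellent.CompletionFinite
import Groth.Agent.Lib.Excellent.Transport
import Groth.Agent.Lib.Excellent.FibreNoetherian
import Mathlib.RingTheory.AdicCompletion.LocalRing
import Mathlib.RingTheory.AdicCompletion.AsTensorProduct

/-!
G-rings are stable under quotients and localizations.
-/

set_option linter.style.haveILetI false

universe u

open scoped TensorProduct

namespace Groth.Agent.Lib.Excellent.GRingStability

open FormalFibre

theorem isRegularHom_cpl_of_surjective (R R' : Type u) [CommRing R] [CommRing R'] [IsNoetherianRing R]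
    [IsLocalRing R] [IsLocalRing R'] [Algebra R R'] (hs : Function.Surjective (algebraMap R R'))
    (h : CAlg.IsRegularHom R (EGA4.Cpl R)) : CAlg.IsRegularHom R' (EGA4.Cpl R') := by
  haveI : IsNoetherianRing R' := isNoetherianRing_of_surjective R R' _ hs
  haveI : Module.Finite R R' := Module.Finite.of_surjective (Algebra.linearMap R R') hs
  haveI : IsLocalHom (algebraMap R R') := IsLocalHom.of_surjective _ hs
  have hm : (IsLocalRing.maximalIdeal R).map (algebraMap R R') = IsLocalRing.maximalIdeal R' := by
    rw [← IsLocalRing.maximalIdeal_comap (algebraMap R R'),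
      Ideal.map_comap_of_surjective _ hs]
  have e : R' ⊗[R] EGA4.Cpl R ≃ₐ[R'] EGA4.Cpl R' := by
    have e := CompletionFinite.completionEquiv (IsLocalRing.maximalIdeal R) R'
    rw [hm] at e
    exact e
  refine ⟨inferInstance, fun p _ => ⟨FibreNoetherian.isNoetherianRing_fibre _ p, ?_⟩⟩
  refine (forall_fibre_iff (P := fun R [CommRing R] => IsRegularRing R)
    Transport.isoInvariant_isRegularRing (EGA4.Cpl R')).2 (fun K _ _ hK => ?_) p
  letI : Algebra R K := ((algebraMap R' K).comp (algebraMap R R')).toAlgebra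
  haveI : IsScalarTower R R' K := .of_algebraMap_eq' rfl
  have hK' : IsFinPoint R K := by
    obtain ⟨B, hB, hfr⟩ := hK
    haveI : Module.Finite R B := Module.Finite.trans R' B
    exact ⟨B.restrictScalars R, ‹_›, hfr⟩
  haveI : IsRegularRing (K ⊗[R] EGA4.Cpl R) :=
    (forall_fibre_iff (P := fun R [CommRing R] => IsRegularRing R)
      Transport.isoInvariant_isRegularRing (EGA4.Cpl R)).1 (fun p _ => (h.2 p).2) K hK'
  exact IsRegularRing.of_ringEquiv ((Algebra.TensorProduct.congr (AlgEquiv.refl : K ≃ₐ[R'] K)
    e.symm).toRingEquiv.trans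
    (Algebra.TensorProduct.cancelBaseChange R R' K K (EGA4.Cpl R)).toRingEquiv).symm

theorem isRegularHom_cpl_of_ringEquiv (R R' : Type u) [CommRing R] [CommRing R'] [IsNoetherianRing R]
    [IsLocalRing R] [IsLocalRing R'] (e : R ≃+* R') (h : CAlg.IsRegularHom R (EGA4.Cpl R)) :
    CAlg.IsRegularHom R' (EGA4.Cpl R') :=
  letI := e.toRingHom.toAlgebra
  isRegularHom_cpl_of_surjective R R' e.surjective h

theorem isGRing_of_isLocalization {A A' : Type u} [CommRing A] [CommRing A'] [Algebra A A']
    (S : Submonoid A) [IsLocalization S A'] (hA : CAlg.IsGRing A) : CAlg.IsGRing A' := by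
  haveI := hA.1
  refine ⟨IsLocalization.isNoetherianRing S A' inferInstance, fun Q hQ => ?_⟩
  haveI := IsLocalization.isLocalization_isLocalization_atPrime_isLocalization S
    (Localization.AtPrime Q) Q
  exact isRegularHom_cpl_of_ringEquiv (Localization.AtPrime (Q.comap (algebraMap A A')))
    (Localization.AtPrime Q)
    (IsLocalization.algEquiv (Q.comap (algebraMap A A')).primeCompl _ _).toRingEquiv
    (hA.2 (Q.comap (algebraMap A A')))

theorem isGRing_quotient {A : Type u} [CommRing A] (hA : CAlg.IsGRing A) (I : Ideal A) :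
    CAlg.IsGRing (A ⧸ I) := by
  haveI := hA.1
  refine ⟨inferInstance, fun Q hQ => ?_⟩
  let f := Localization.localRingHom (Q.comap (Ideal.Quotient.mk I)) Q (Ideal.Quotient.mk I) rfl
  have hf : Function.Surjective f := by
    intro z
    obtain ⟨a, s, rfl⟩ := IsLocalization.exists_mk'_eq Q.primeCompl z
    obtain ⟨a, rfl⟩ := Ideal.Quotient.mk_surjective a
    obtain ⟨t, ht⟩ := Ideal.Quotient.mk_surjective (s : A ⧸ I)
    refine ⟨IsLocalization.mk' _ a (⟨t, show t ∉ Q.comap (Ideal.Quotient.mk I) from fun hm =>
      s.2 (by rw [← ht]; exact hm)⟩ : (Q.comap (Ideal.Quotient.mk I)).primeCompl), ?_⟩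
    rw [Localization.localRingHom_mk']
    exact congrArg _ (Subtype.ext ht)
  letI := f.toAlgebra
  exact isRegularHom_cpl_of_surjective _ _ hf (hA.2 (Q.comap (Ideal.Quotient.mk I)))

end Groth.Agent.Lib.Excellent.GRingStability
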