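import Groth.Agent.Lib.Depth.Assoc
import Groth.Agent.Lib.Depth.CM
import Groth.Agent.Lib.Regular.Quotient
import Groth.Agent.Lib.Regular.Serre
import Groth.Agent.Lib.Regular.UFD
import Mathlib.RingTheory.Ideal.KrullsHeightTheorem
import Mathlib.RingTheory.Localization.LocalizationLocalization
import Mathlib.RingTheory.IntegralClosure.IntegrallyClosed

/-!
Lifting normality along a regular element.
-/

set_option linter.style.haveILetI false

universe u

open IsLocalRing LocCoh Pointwise

namespace Groth.Agent.Lib.Excellent.QuotientNormal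

open Groth.Agent.Lib.Depth

/-- A normal local domain in which some `B/xB` has depth zero has a principal maximal ideal. -/
theorem exists_maximalIdeal_eq_span (B : Type u) [CommRing B] [IsDomain B]
    [IsLocalRing B] [IsNoetherianRing B] [IsIntegrallyClosed B] {x : B} (hx : x ∈ maximalIdeal B)
    (hx0 : x ≠ 0) (h : maximalIdeal B ∈ associatedPrimes B (B ⧸ Ideal.span {x})) :
    ∃ z : B, z ≠ 0 ∧ maximalIdeal B = Ideal.span {z} := by
  obtain ⟨-, c', hc⟩ := isAssociatedPrime_iff.mp h
  obtain ⟨c, rfl⟩ := Ideal.Quotient.mk_surjective c'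
  have hmem : ∀ z : B, z ∈ maximalIdeal B ↔ ∃ r, z * c = x * r := by
    intro z
    rw [hc, Submodule.mem_colon_singleton, Submodule.mem_bot, Algebra.smul_def,
      Ideal.Quotient.algebraMap_eq, ← map_mul, Ideal.Quotient.eq_zero_iff_mem,
      Ideal.mem_span_singleton']
    exact exists_congr fun r => by rw [mul_comm x r, eq_comm]
  by_cases hunit : ∃ z r, IsUnit r ∧ z * c = x * r
  · obtain ⟨z, r, ⟨r, rfl⟩, hz⟩ := hunit
    have hzm : z ∈ maximalIdeal B := (hmem z).2 ⟨_, hz⟩
    have hz0 : z ≠ 0 := by
      rintro rfl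
      simp [hx0] at hz
    have hgen : maximalIdeal B = Ideal.span {z} := by
      refine le_antisymm (fun w hw => ?_) (by simpa [Ideal.span_le] using hzm)
      obtain ⟨r', hr'⟩ := (hmem w).1 hw
      have : x * (w * r) = x * (z * r') := by
        calc x * (w * r) = w * (x * r) := by ring
          _ = z * (w * c) := by rw [← hz]; ring
          _ = x * (z * r') := by rw [hr']; ring
      have := mul_left_cancel₀ hx0 this
      rw [Ideal.mem_span_singleton']
      refine ⟨r' * ↑r⁻¹, ?_⟩
      calc r' * ↑r⁻¹ * z = (z * r') * ↑r⁻¹ := by ring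
        _ = w := by rw [← this, mul_assoc, Units.mul_inv, mul_one]
    exact ⟨z, hz0, hgen⟩
  · exfalso
    push Not at hunit
    let K := FractionRing B
    let N : Submodule B K := Submodule.map (Algebra.linearMap B K) (maximalIdeal B)
    have hxK : algebraMap B K x ≠ 0 :=
      IsFractionRing.to_map_eq_zero_iff.not.2 hx0
    have hint : IsIntegral B (algebraMap B K c / algebraMap B K x) := by
      refine isIntegral_of_smul_mem_submodule N ?_
        ((IsNoetherian.noetherian (maximalIdeal B)).map _) _ ?_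
      · intro hN
        have : algebraMap B K x ∈ N := ⟨x, hx, rfl⟩
        rw [hN] at this
        exact hxK this
      · rintro _ ⟨z, hz, rfl⟩
        obtain ⟨r, hr⟩ := (hmem z).1 hz
        refine ⟨r, (mem_maximalIdeal r).2 fun hru => hunit z r hru hr, ?_⟩
        simp only [Algebra.linearMap_apply, smul_eq_mul]
        rw [div_mul_eq_mul_div, eq_div_iff hxK, ← map_mul, ← map_mul]
        congr 1
        linear_combination (exp := 1) hr * (-1 : B)
    obtain ⟨d, hd⟩ := IsIntegrallyClosed.isIntegral_iff.1 hint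
    rw [eq_div_iff hxK, ← map_mul] at hd
    have hc1 : (1 : B) ∈ maximalIdeal B :=
      (hmem 1).2 ⟨d, by rw [one_mul, ← IsFractionRing.injective B K hd, mul_comm]⟩
    exact (maximalIdeal.isMaximal B).ne_top ((Ideal.eq_top_iff_one _).2 hc1)

/-- A normal local domain in which some `B/xB` has depth zero is regular. -/
theorem regular_of_maximalIdeal_mem_associatedPrimes (B : Type u) [CommRing B] [IsDomain B]
    [IsLocalRing B] [IsNoetherianRing B] [IsIntegrallyClosed B] {x : B} (hx : x ∈ maximalIdeal B)
    (hx0 : x ≠ 0) (h : maximalIdeal B ∈ associatedPrimes B (B ⧸ Ideal.span {x})) :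
    IsRegularLocalRing B := by
  obtain ⟨z, hz0, hgen⟩ := exists_maximalIdeal_eq_span B hx hx0 h
  have hzm : z ∈ maximalIdeal B := hgen ▸ Ideal.mem_span_singleton_self z
  have hmax : (Ideal.span {z}).IsMaximal := hgen ▸ maximalIdeal.isMaximal B
  refine Regular.Quotient.of_quotient_singleton hzm
    ((IsSMulRegular.of_mul (IsRegular.of_ne_zero (mul_ne_zero hz0 hz0)).left)) ?_
  letI := Ideal.Quotient.field (Ideal.span {z})
  infer_instance

/-- A Noetherian local domain `R` with `R/tR` a normal domain and with `depth R/aR ≤ 1` for some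
nonzero `a` is regular. -/
theorem regular_of_depth_le (R : Type u) [CommRing R] [IsDomain R] [IsLocalRing R]
    [IsNoetherianRing R] {t a : R} (ht : t ∈ maximalIdeal R) (ht0 : t ≠ 0)
    (ha : a ∈ maximalIdeal R) (ha0 : a ≠ 0)
    [IsDomain (R ⧸ Ideal.span {t})] [IsIntegrallyClosed (R ⧸ Ideal.span {t})]
    (hd : depth R (R ⧸ Ideal.span {a}) ≤ 1) : IsRegularLocalRing R := by
  have key : ∀ {S : Type u} [CommRing S] [IsDomain S] [IsNoetherianRing S] [IsLocalRing S] {s : S},
      s ∈ maximalIdeal S → s ≠ 0 → depth S (S ⧸ Ideal.span {s}) + 1 = depth S S := by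
    intro S _ _ _ _ s hs hs0
    unfold depth
    rw [← SES.idealDepth_quotSMulTop (maximalIdeal S) (M := S) hs
      (fun x y h => mul_left_cancel₀ hs0 h)]
    congr 1
    exact Basic.depth_congr (Submodule.quotEquivOfEq (Ideal.span {s}) (s • ⊤) (by
      rw [← Submodule.ideal_span_singleton_smul, smul_eq_mul, Ideal.mul_top]))
  set B := R ⧸ Ideal.span {t}
  haveI : IsLocalRing B :=
    IsLocalRing.of_surjective' (Ideal.Quotient.mk _) Ideal.Quotient.mk_surjective
  have hB : depth B B ≤ 1 := by
    rw [← CM.depth_quotient_eq]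
    refine (ENat.add_le_add_iff_right ENat.one_ne_top).1 ?_
    rw [key ht ht0, ← key ha ha0]
    exact add_le_add hd le_rfl
  refine Regular.Quotient.of_quotient_singleton ht (fun x y h => mul_left_cancel₀ ht0 h) ?_
  change IsRegularLocalRing B
  by_cases hm : maximalIdeal B = ⊥
  · haveI : (⊥ : Ideal B).IsMaximal := hm ▸ maximalIdeal.isMaximal B
    have hf : IsField B := IsLocalRing.isField_iff_maximalIdeal_eq.2 hm
    letI := hf.toField
    infer_instance
  obtain ⟨x, hx, hx0⟩ := Submodule.exists_mem_ne_zero_of_ne_bot hm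
  refine regular_of_maximalIdeal_mem_associatedPrimes B hx hx0 ?_
  haveI : Nontrivial (B ⧸ Ideal.span {x}) := Ideal.Quotient.nontrivial_iff.2
    (Regular.Quotient.ne_top_of_le_maximalIdeal (by simpa [Ideal.span_le] using hx))
  rw [← Assoc.depth_eq_zero_iff]
  refine le_antisymm ?_ zero_le
  refine (ENat.add_le_add_iff_right ENat.one_ne_top).1 ?_
  rw [key hx hx0, zero_add]
  exact hB

/-- If `R/tR` is a normal domain, so is every localization of `R` at a prime containing `t`
modulo `t`; the normality criterion for `A`. -/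
theorem isIntegrallyClosed_of_quotient (A : Type u) [CommRing A] [IsDomain A] [IsLocalRing A]
    [IsNoetherianRing A] {t : A} (ht : t ∈ maximalIdeal A) (ht0 : t ≠ 0)
    [IsDomain (A ⧸ Ideal.span {t})] [IsIntegrallyClosed (A ⧸ Ideal.span {t})] :
    IsIntegrallyClosed A := by
  classical
  let K := FractionRing A
  rw [isIntegrallyClosed_iff K]
  intro x hx
  obtain ⟨b, ⟨a, ha⟩, rfl⟩ := IsLocalization.exists_mk'_eq (nonZeroDivisors A) x
  have ha0 : a ≠ 0 := nonZeroDivisors.ne_zero ha
  by_cases hb : b ∈ Ideal.span {a}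
  · obtain ⟨d, rfl⟩ := Ideal.mem_span_singleton'.1 hb
    exact ⟨d, (IsLocalization.mk'_eq_iff_eq_mul.2 (by rw [map_mul])).symm⟩
  exfalso
  have hb0 : Ideal.Quotient.mk (Ideal.span {a}) b ≠ 0 :=
    fun h => hb (Ideal.Quotient.eq_zero_iff_mem.1 h)
  obtain ⟨P, hP, hPle⟩ := exists_le_isAssociatedPrime_of_isNoetherianRing A _ hb0
  obtain ⟨hPp, c', hc⟩ := isAssociatedPrime_iff.mp hP
  obtain ⟨c, rfl⟩ := Ideal.Quotient.mk_surjective c'
  have hmemP : ∀ s : A, s ∈ P ↔ s * c ∈ Ideal.span {a} := fun s => by
    rw [hc, Submodule.mem_colon_singleton, Submodule.mem_bot, Algebra.smul_def,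
      Ideal.Quotient.algebraMap_eq, ← map_mul, Ideal.Quotient.eq_zero_iff_mem]
  haveI := hPp
  have haP : a ∈ P := (hmemP a).2 (Ideal.mul_mem_right _ _ (Ideal.mem_span_singleton_self a))
  suffices IsIntegrallyClosed (Localization.AtPrime P) by
    obtain ⟨y, hy⟩ := IsIntegrallyClosed.isIntegral_iff.1
      (hx.tower_top (A := Localization.AtPrime P))
    obtain ⟨b', s, rfl⟩ := IsLocalization.exists_mk'_eq P.primeCompl y
    refine s.2 (hPle ?_)
    rw [Submodule.mem_colon_singleton, Submodule.mem_bot, Algebra.smul_def,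
      Ideal.Quotient.algebraMap_eq, ← map_mul, Ideal.Quotient.eq_zero_iff_mem,
      Ideal.mem_span_singleton']
    refine ⟨b', IsFractionRing.injective A K ?_⟩
    have h1 : algebraMap A K b' =
        algebraMap A K s * algebraMap (Localization.AtPrime P) K (IsLocalization.mk' _ b' s) := by
      rw [IsScalarTower.algebraMap_apply A (Localization.AtPrime P) K b',
        IsScalarTower.algebraMap_apply A (Localization.AtPrime P) K s, ← map_mul,
        IsLocalization.mk'_spec']
    have h2 := IsLocalization.mk'_spec K b ⟨a, ha⟩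
    rw [map_mul, map_mul, h1, hy, mul_assoc]
    rw [h2]
  obtain ⟨q, hqmin, -⟩ : ∃ q ∈ (P ⊔ Ideal.span {t}).minimalPrimes, q ≤ maximalIdeal A :=
    Ideal.exists_minimalPrimes_le (sup_le (IsLocalRing.le_maximalIdeal hPp.ne_top)
      (by simpa [Ideal.span_le] using ht))
  haveI := hqmin.1.1
  have htq : t ∈ q := hqmin.1.2 (Ideal.mem_sup_right (Ideal.mem_span_singleton_self t))
  have hPq : P ≤ q := le_sup_left.trans hqmin.1.2
  let R := Localization.AtPrime q
  let φ := algebraMap A R
  have hdisj : Disjoint (q.primeCompl : Set A) (P : Set A) :=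
    Set.disjoint_left.2 fun z hz hzP => hz (hPq hzP)
  haveI hP' : (P.map φ).IsPrime :=
    IsLocalization.isPrime_of_isPrime_disjoint q.primeCompl R P hPp hdisj
  have hcomap : (P.map φ).comap φ = P :=
    IsLocalization.under_map_of_isPrime_disjoint q.primeCompl R hPp hdisj
  have hinj : Function.Injective φ :=
    IsLocalization.injective R q.primeCompl_le_nonZeroDivisors
  haveI : (Ideal.map φ (Ideal.span {t})).IsPrime := by
    refine IsLocalization.isPrime_of_isPrime_disjoint q.primeCompl R _
      ((Ideal.Quotient.isDomain_iff_prime _).1 inferInstance) ?_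
    refine Set.disjoint_left.2 fun z hz hzP => hz ?_
    obtain ⟨d, rfl⟩ := Ideal.mem_span_singleton'.1 hzP
    exact Ideal.mul_mem_left _ _ htq
  haveI : IsDomain (R ⧸ Ideal.span {φ t}) := by
    rw [← Set.image_singleton, ← Ideal.map_span]
    exact Ideal.Quotient.isDomain _
  haveI : IsIntegrallyClosed (R ⧸ Ideal.span {φ t}) := by
    rw [← Set.image_singleton, ← Ideal.map_span]
    refine isIntegrallyClosed_of_isLocalization (R := A ⧸ Ideal.span {t}) _
      (Algebra.algebraMapSubmonoid (A ⧸ Ideal.span {t}) q.primeCompl) ?_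
    intro z hz
    obtain ⟨w, hw, rfl⟩ := hz
    refine mem_nonZeroDivisors_of_ne_zero fun h => hw ?_
    obtain ⟨d, rfl⟩ := Ideal.mem_span_singleton'.1 (Ideal.Quotient.eq_zero_iff_mem.1 h)
    exact Ideal.mul_mem_left _ _ htq
  have hassoc : P.map φ ∈ associatedPrimes R (R ⧸ Ideal.span {φ a}) := by
    refine isAssociatedPrime_iff.mpr ⟨hP', Ideal.Quotient.mk _ (φ c), ?_⟩
    ext r
    obtain ⟨u, s, rfl⟩ := IsLocalization.exists_mk'_eq q.primeCompl r
    rw [IsLocalization.mk'_mem_map_algebraMap_iff, Submodule.mem_colon_singleton, Submodule.mem_bot]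
    change _ ↔ Ideal.Quotient.mk (Ideal.span {φ a}) (IsLocalization.mk' R u s * φ c) = 0
    rw [Ideal.Quotient.eq_zero_iff_mem, ← IsLocalization.mk'_one (M := q.primeCompl) R c,
      ← IsLocalization.mk'_mul, ← Set.image_singleton, ← Ideal.map_span,
      IsLocalization.mk'_mem_map_algebraMap_iff]
    refine exists_congr fun m => and_congr_right fun _ => ?_
    rw [hmemP, mul_assoc]
  have hdim : ringKrullDim (R ⧸ P.map φ) ≤ 1 := by
    haveI : IsLocalRing (R ⧸ P.map φ) :=
      IsLocalRing.of_surjective' (Ideal.Quotient.mk _) Ideal.Quotient.mk_surjective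
    rw [← IsLocalRing.maximalIdeal_height_eq_ringKrullDim]
    refine (WithBot.coe_le_coe (b := (1 : ℕ∞))).2 ?_
    refine Ideal.height_le_one_of_isPrincipal_of_mem_minimalPrimes
      (Ideal.span {Ideal.Quotient.mk (P.map φ) (φ t)}) _ ⟨⟨inferInstance, ?_⟩, ?_⟩
    · rw [Ideal.span_singleton_le_iff_mem, mem_maximalIdeal]
      intro hu
      haveI : IsLocalHom (Ideal.Quotient.mk (P.map φ)) :=
        IsLocalHom.of_surjective _ Ideal.Quotient.mk_surjective
      have hu' := isUnit_of_map_unit (Ideal.Quotient.mk (P.map φ)) _ hu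
      exact (IsLocalization.AtPrime.isUnit_to_map_iff R q t).1 hu' htq
    · rintro p ⟨hp, hple⟩ -
      let p' := (p.comap (Ideal.Quotient.mk (P.map φ))).comap φ
      haveI := hp
      have hp'q : p' ≤ q := fun z hz => by
        by_contra hzq
        refine hp.ne_top (Ideal.eq_top_of_isUnit_mem _ hz ?_)
        exact ((IsLocalization.AtPrime.isUnit_to_map_iff R q z).2 hzq).map _
      have : q ≤ p' := hqmin.2 ⟨inferInstance, sup_le (fun z hz => ?_) ?_⟩ hp'q
      · intro z hz
        obtain ⟨z, rfl⟩ := Ideal.Quotient.mk_surjective z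
        obtain ⟨u, s, rfl⟩ := IsLocalization.exists_mk'_eq q.primeCompl z
        have huq : u ∈ q := by
          by_contra hcu
          refine (mem_maximalIdeal _).1 hz (IsUnit.map _ ?_)
          exact ((IsLocalization.AtPrime.isUnit_mk'_iff R q u s).2 hcu)
        have hup : Ideal.Quotient.mk (P.map φ) (φ u) ∈ p := this huq
        rw [show φ u = φ s * IsLocalization.mk' R u s from (IsLocalization.mk'_spec' R u s).symm,
          map_mul] at hup
        refine (hp.mem_or_mem hup).resolve_left fun h => hp.ne_top ?_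
        exact Ideal.eq_top_of_isUnit_mem _ h ((IsLocalization.map_units R s).map _)
      · change Ideal.Quotient.mk (P.map φ) (φ z) ∈ p
        rw [Ideal.Quotient.eq_zero_iff_mem.2 (Ideal.mem_map_of_mem φ hz)]
        exact zero_mem p
      · rw [Ideal.span_singleton_le_iff_mem]
        exact hple (Ideal.mem_span_singleton_self _)
  haveI : IsRegularLocalRing R := by
    refine regular_of_depth_le R (t := φ t) (a := φ a) ?_ ((map_ne_zero_iff φ hinj).2 ht0) ?_
      ((map_ne_zero_iff φ hinj).2 ha0) ?_
    · exact (IsLocalization.AtPrime.to_map_mem_maximal_iff R q t).2 htq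
    · exact (IsLocalization.AtPrime.to_map_mem_maximal_iff R q a).2 (hPq haP)
    · exact WithBot.coe_le_coe.1 ((Assoc.depth_le_ringKrullDim_quotient _ hassoc).trans hdim)
  haveI := Regular.Serre.isRegularLocalRing_localization (P.map φ)
  haveI : IsLocalization.AtPrime (Localization.AtPrime (P.map φ)) P := by
    have h := IsLocalization.isLocalization_isLocalization_atPrime_isLocalization q.primeCompl
      (Localization.AtPrime (P.map φ)) (P.map φ)
    simp only [show (algebraMap A R) = φ from rfl, hcomap] at h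
    exact h
  haveI : IsRegularLocalRing (Localization.AtPrime P) := IsRegularLocalRing.of_ringEquiv
    (IsLocalization.algEquiv P.primeCompl (Localization.AtPrime (P.map φ))
      (Localization.AtPrime P)).toRingEquiv
  exact Regular.UFD.isIntegrallyClosed _

end Groth.Agent.Lib.Excellent.QuotientNormal
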