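import Groth.Agent.Lib.Excellent.NormalRing
import Groth.Agent.Lib.Cohen.NagataUnramified
import Mathlib.RingTheory.Ideal.MinimalPrime.Noetherian
import Mathlib.RingTheory.Ideal.Quotient.Operations
import Mathlib.RingTheory.Localization.Integral
import Mathlib.RingTheory.LocalProperties.Reduced

/-!
# Ascent of normality along flat maps with normal generic fibre and reduced fibres in codimension one
-/

set_option autoImplicit false
set_option linter.style.haveILetI false

universe u

open scoped TensorProduct nonZeroDivisors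
open Groth.Agent.Lib.Cohen.NagataUnramified (HasUnif hasUnif_of_normal)

namespace Groth.Agent.Lib.Excellent.NormalAscent

/-- Divisibility by `ξ` of elements whose quotient by `ξ` is integral. -/
theorem dvd_of_unif {B : Type u} [CommRing B] [IsDomain B] [IsNoetherianRing B]
    (T L : Type u) [CommRing T] [CommRing L] [Algebra B T] [Module.Flat B T] [Algebra T L]
    [Algebra B L] [IsScalarTower B T L] (hinj : Function.Injective (algebraMap T L))
    (hu : ∀ b : B, b ≠ 0 → IsUnit (algebraMap B L b)) {ξ : B} (hξ : ξ ≠ 0)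
    (hfib : ∀ P ∈ associatedPrimes B (B ⧸ Ideal.span {ξ}),
      HasUnif ξ P ∧ IsReduced (T ⧸ P.map (algebraMap B T)))
    (z : T) {y : L} (hy : IsIntegral T y) (hzy : algebraMap T L z = algebraMap B L ξ * y) :
    algebraMap B T ξ ∣ z := by
  classical
  let M := B ⧸ Ideal.span {ξ}
  let J : Ideal B := ((Ideal.span {algebraMap B T ξ}).colon ({z} : Set T)).comap (algebraMap B T)
  have hJ : ∀ s, s ∈ J ↔ algebraMap B T ξ ∣ algebraMap B T s * z := fun s => by
    rw [Ideal.mem_comap, Submodule.mem_colon_singleton, smul_eq_mul, Ideal.mem_span_singleton]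
  have hass : ∀ P ∈ associatedPrimes B M, ¬ J ≤ P := by
    intro P hP hJP
    haveI := hP.isPrime
    obtain ⟨⟨π, hπP, hπ0, ⟨s, hsP, hs⟩, hE⟩, hred⟩ := hfib P hP
    haveI := hred
    let e := Nat.find hE
    obtain ⟨v, hv, c, hc⟩ := Nat.find_spec hE
    have hξP : ξ ∈ P := Groth.Agent.Lib.Cohen.NagataUnramified.mem_of_mem_associatedPrimes hP
    have hcP : c ∉ P := by
      intro hcP
      obtain ⟨c', hc'⟩ := hs c hcP
      rcases Nat.eq_zero_or_pos e with he | he
      · apply hv
        have hv0 : v = ξ * c := by
          rw [← hc]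
          change v = v * π ^ e
          rw [he, pow_zero, mul_one]
        rw [hv0]
        exact Ideal.mul_mem_right _ _ hξP
      · refine Nat.find_min hE (m := e - 1) (by omega)
          ⟨s * v, fun h => (hP.isPrime.mem_or_mem h).elim hsP hv, c', ?_⟩
        apply mul_left_cancel₀ hπ0
        have he' : π * π ^ (e - 1) = π ^ e := by rw [← pow_succ', Nat.sub_add_cancel he]
        calc π * (s * v * π ^ (e - 1)) = s * (v * (π * π ^ (e - 1))) := by ring
          _ = s * (ξ * c) := by rw [he', ← hc]
          _ = ξ * (π * c') := by rw [← hc']; ring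
          _ = π * (ξ * c') := by ring
    have hpow : ∀ j : ℕ, j ≤ e → ∃ u ∉ P, algebraMap B T (π ^ j) ∣ algebraMap B T u * z := by
      intro j
      induction j with
      | zero => exact fun _ => ⟨1, fun h => hP.isPrime.ne_top ((Ideal.eq_top_iff_one P).2 h), by simp⟩
      | succ j ih =>
        intro hje
        obtain ⟨u, hu', w, hw⟩ := ih (by omega)
        -- `c w = π · (integral)`
        have hcw : algebraMap T L (algebraMap B T c * w) =
            algebraMap B L π * (algebraMap B L (u * v * π ^ (e - j - 1)) * y) := by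
          apply (hu (π ^ j) (pow_ne_zero _ hπ0)).mul_left_cancel
          have h1 : algebraMap B L (π ^ j) * algebraMap T L w = algebraMap B L u * algebraMap T L z := by
            rw [IsScalarTower.algebraMap_apply B T L, IsScalarTower.algebraMap_apply B T L u, ← map_mul,
              ← map_mul, hw]
          have h2 : π ^ j * (π * (u * v * π ^ (e - j - 1))) = u * (ξ * c) := by
            rw [← hc]
            change _ = u * (v * π ^ e)
            have : π ^ e = π ^ j * (π * π ^ (e - j - 1)) := by
              rw [← pow_succ', ← pow_add]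
              congr 1
              omega
            rw [this]; ring
          rw [map_mul (algebraMap T L), ← IsScalarTower.algebraMap_apply, mul_left_comm, h1, hzy,
            ← mul_assoc (algebraMap B L π), ← map_mul, ← mul_assoc, ← mul_assoc, ← mul_assoc,
            ← map_mul, ← map_mul, ← map_mul, h2]
          congr 2
          ring
        set y' := algebraMap B L (u * v * π ^ (e - j - 1)) * y
        have hy' : IsIntegral T y' := by
          refine IsIntegral.mul ?_ hy
          rw [IsScalarTower.algebraMap_apply B T L]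
          exact isIntegral_algebraMap
        obtain ⟨f, hfm, hf⟩ := hy'
        have hn : (algebraMap B T c * w) ^ f.natDegree ∈ Ideal.span {algebraMap B T π} := by
          have h0 := Polynomial.scaleRoots_eval₂_eq_zero (algebraMap T L) hf (s := algebraMap B T π)
          rw [← IsScalarTower.algebraMap_apply, ← hcw, Polynomial.eval₂_at_apply,
            map_eq_zero_iff _ hinj, Polynomial.eval_eq_sum_range, Polynomial.natDegree_scaleRoots,
            Finset.sum_range_succ] at h0
          rw [Polynomial.coeff_scaleRoots_natDegree, hfm.leadingCoeff, one_mul] at h0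
          rw [show (algebraMap B T c * w) ^ f.natDegree = - ∑ x ∈ Finset.range f.natDegree,
            (f.scaleRoots (algebraMap B T π)).coeff x * (algebraMap B T c * w) ^ x from
              eq_neg_of_add_eq_zero_right h0]
          refine neg_mem (Ideal.sum_mem _ fun x hx => Ideal.mul_mem_right _ _ ?_)
          rw [Polynomial.coeff_scaleRoots]
          refine Ideal.mul_mem_left _ _ (Ideal.pow_mem_of_mem _ (Ideal.mem_span_singleton_self _) _ ?_)
          exact Nat.sub_pos_of_lt (Finset.mem_range.1 hx)
        have hwP : algebraMap B T c * w ∈ P.map (algebraMap B T) := by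
          rw [← Ideal.Quotient.eq_zero_iff_mem]
          refine IsReduced.eq_zero _ ⟨f.natDegree, ?_⟩
          rw [← map_pow, Ideal.Quotient.eq_zero_iff_mem]
          exact (Ideal.span_le.2 (Set.singleton_subset_iff.2 (Ideal.mem_map_of_mem _ hπP))) hn
        have hsw : algebraMap B T π ∣ algebraMap B T s * (algebraMap B T c * w) := by
          revert hwP
          generalize algebraMap B T c * w = t
          intro hwP
          induction hwP using Submodule.span_induction with
          | mem x hx =>
            obtain ⟨a, ha, rfl⟩ := hx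
            rw [← map_mul]
            exact map_dvd _ (hs a ha)
          | zero => simp
          | add x y _ _ hx hy => rw [mul_add]; exact dvd_add hx hy
          | smul r x _ hx => rw [smul_eq_mul, mul_left_comm]; exact dvd_mul_of_dvd_right hx r
        refine ⟨s * c * u, fun h => ?_, ?_⟩
        · rcases hP.isPrime.mem_or_mem h with h | h
          · exact (hP.isPrime.mem_or_mem h).elim hsP hcP
          · exact hu' h
        · have : algebraMap B T (s * c * u) * z =
              algebraMap B T (π ^ j) * (algebraMap B T s * (algebraMap B T c * w)) := by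
            rw [map_mul, map_mul, mul_assoc, hw]; ring
          rw [this, pow_succ, map_mul]
          exact mul_dvd_mul_left _ hsw
    obtain ⟨u, hu', hdu⟩ := hpow e le_rfl
    refine (fun h : v * u ∉ P => h (hJP ((hJ _).2 ?_)))
      fun h => (hP.isPrime.mem_or_mem h).elim hv hu'
    rw [map_mul, mul_assoc]
    refine dvd_trans ?_ (mul_dvd_mul_left _ hdu)
    rw [← map_mul]
    exact map_dvd _ ⟨c, hc⟩
  obtain ⟨s, hsJ, hs⟩ : ∃ s ∈ J, IsSMulRegular M s := by
    by_contra hn
    push Not at hn
    have hsub : (J : Set B) ⊆ ⋃ P ∈ ((associatedPrimes.finite B M).toFinset : Set (Ideal B)), (P : Set B) := by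
      intro a ha
      rw [Set.Finite.coe_toFinset, biUnion_associatedPrimes_eq_compl_regular]
      exact hn a ha
    obtain ⟨P, hP, hle⟩ := (Ideal.subset_union_prime ⊥ ⊥ fun P hP _ _ =>
      ((associatedPrimes.finite B M).mem_toFinset.1 hP).isPrime).1 hsub
    exact hass P ((associatedPrimes.finite B M).mem_toFinset.1 hP) hle
  have hreg := hs.of_flat_of_isBaseChange (TensorProduct.isBaseChange B M T)
  obtain ⟨w, hw⟩ := (hJ s).1 hsJ
  let E := Algebra.TensorProduct.quotIdealMapEquivTensorQuot T (Ideal.span {ξ})
  have hI : (Ideal.span {ξ}).map (algebraMap B T) = Ideal.span {algebraMap B T ξ} := by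
    rw [Ideal.map_span, Set.image_singleton]
  have h0 : E (Ideal.Quotient.mk _ z) = 0 := by
    refine hreg.right_eq_zero_of_smul ?_
    rw [← map_smul, Algebra.smul_def, Ideal.Quotient.algebraMap_eq, ← map_mul,
      Ideal.Quotient.eq_zero_iff_mem.2, map_zero]
    rw [hI, hw]
    exact Ideal.mul_mem_right _ _ (Ideal.mem_span_singleton_self _)
  rw [EmbeddingLike.map_eq_zero_iff, Ideal.Quotient.eq_zero_iff_mem, hI, Ideal.mem_span_singleton] at h0
  exact h0

/-- A nontrivial Noetherian normal ring without nontrivial idempotents is a domain. -/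
theorem isDomain_of_normal (R : Type u) [CommRing R] [IsNoetherianRing R] [Nontrivial R]
    (h : EGA4.IsNormalRing R) (hidem : ∀ e : R, IsIdempotentElem e → e = 0 ∨ e = 1) : IsDomain R := by
  classical
  haveI : IsReduced R := isReduced_ofLocalizationMaximal R fun J hJ => by
    haveI := hJ.isPrime
    haveI := (h J).1
    infer_instance
  let ι := {P : Ideal R // P ∈ minimalPrimes R}
  haveI : Finite ι := (minimalPrimes.finite_of_isNoetherianRing R).to_subtype
  have hco : Pairwise fun i j : ι => IsCoprime i.1 j.1 := by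
    intro i j hij
    rw [Ideal.isCoprime_iff_sup_eq]
    by_contra hne
    obtain ⟨m, hm, hle⟩ := Ideal.exists_le_maximal _ hne
    haveI := hm.isPrime
    haveI := (h m).1
    have key : ∀ l : ι, l.1 ≤ m → l.1.map (algebraMap R (Localization.AtPrime m)) = ⊥ := by
      intro l hl
      have hd : Disjoint (m.primeCompl : Set R) l.1 := Set.disjoint_left.2 fun x hx hx' => hx (hl hx')
      haveI : (l.1.map (algebraMap R (Localization.AtPrime m))).IsPrime :=
        IsLocalization.isPrime_of_isPrime_disjoint m.primeCompl _ _ l.2.1.1 hd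
      refine le_antisymm ?_ bot_le
      have hb : (⊥ : Ideal (Localization.AtPrime m)).comap (algebraMap R _) ≤ l.1 := by
        rw [← IsLocalization.comap_map_of_isPrime_disjoint m.primeCompl (Localization.AtPrime m) l.2.1.1 hd]
        exact Ideal.comap_mono bot_le
      have heq : (⊥ : Ideal (Localization.AtPrime m)).comap (algebraMap R _) = l.1 :=
        le_antisymm hb (l.2.2 ⟨Ideal.IsPrime.comap _ (hK := Ideal.isPrime_bot), bot_le⟩ hb)
      rw [← heq]
      exact (IsLocalization.map_comap m.primeCompl _ _).le
    have h2 : i.1.map (algebraMap R (Localization.AtPrime m)) =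
        j.1.map (algebraMap R (Localization.AtPrime m)) := by
      rw [key i (le_sup_left.trans hle), key j (le_sup_right.trans hle)]
    apply hij
    apply Subtype.ext
    rw [← IsLocalization.comap_map_of_isPrime_disjoint m.primeCompl (Localization.AtPrime m) i.2.1.1
        (Set.disjoint_left.2 fun x hx hx' => hx ((le_sup_left.trans hle) hx')),
      ← IsLocalization.comap_map_of_isPrime_disjoint m.primeCompl (Localization.AtPrime m) j.2.1.1
        (Set.disjoint_left.2 fun x hx hx' => hx ((le_sup_right.trans hle) hx')), h2]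
  have hbot : (⨅ i : ι, i.1) = ⊥ := by
    rw [iInf_subtype, ← sInf_eq_iInf, minimalPrimes_eq_minimals]
    have := Ideal.sInf_minimalPrimes (I := (⊥ : Ideal R))
    rw [← minimalPrimes_eq_minimals]
    exact this.trans (nilradical_eq_zero R)
  let E : R ≃+* ∀ i : ι, R ⧸ i.1 :=
    (RingEquiv.quotientBot R).symm.trans ((Ideal.quotEquivOfEq hbot.symm).trans
      (Ideal.quotientInfRingEquivPiQuotient _ hco))
  have hsub : Subsingleton ι := by
    constructor
    intro i j
    by_contra hij
    haveI : Nontrivial (R ⧸ i.1) := Ideal.Quotient.nontrivial_iff.2 i.2.1.1.ne_top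
    haveI : Nontrivial (R ⧸ j.1) := Ideal.Quotient.nontrivial_iff.2 j.2.1.1.ne_top
    let f : ∀ l : ι, R ⧸ l.1 := fun l => if l = i then 1 else 0
    have hf : IsIdempotentElem (E.symm f) := by
      rw [IsIdempotentElem, ← map_mul]
      congr 1
      funext l
      simp only [f, Pi.mul_apply]
      split <;> simp
    rcases hidem _ hf with h0 | h1
    · have := congrFun (E.symm.map_eq_zero_iff.1 h0) i
      simp [f] at this
    · have := congrFun (E.symm.map_eq_one_iff.1 h1) j
      simp [f, Ne.symm hij] at this
  obtain ⟨P, hP⟩ := Ideal.nonempty_minimalPrimes (bot_ne_top : (⊥ : Ideal R) ≠ ⊤)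
  have : P = ⊥ := by
    rw [← hbot]
    refine le_antisymm (le_iInf fun i => ?_) (iInf_le _ (⟨P, hP⟩ : ι))
    rw [Subsingleton.elim i ⟨P, hP⟩]
  haveI : (⊥ : Ideal R).IsPrime := this ▸ hP.1.1
  exact (RingEquiv.quotientBot R).symm.toMulEquiv.isDomain (R ⧸ (⊥ : Ideal R))

/-- A Noetherian ring integrally closed in a normal localization is normal. -/
theorem isNormalRing_of_intClosedIn (T L : Type u) [CommRing T] [IsNoetherianRing T] [CommRing L]
    [Algebra T L] (M : Submonoid T) [IsLocalization M L] (hinj : Function.Injective (algebraMap T L))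
    (hL : EGA4.IsNormalRing L) (hic : ∀ y : L, IsIntegral T y → ∃ t, algebraMap T L t = y) :
    EGA4.IsNormalRing T := by
  classical
  intro Q hQ
  let S := Q.primeCompl
  let TQ := Localization.AtPrime Q
  let LQ := Localization (Algebra.algebraMapSubmonoid L S)
  letI : Algebra TQ LQ := localizationAlgebra S L
  haveI : IsScalarTower T TQ LQ := isScalarTower_localizationAlgebra S L
  haveI : IsNoetherianRing L := IsLocalization.isNoetherianRing M L inferInstance
  haveI : IsNoetherianRing LQ := IsLocalization.isNoetherianRing (Algebra.algebraMapSubmonoid L S) LQ inferInstance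
  have hLQ : EGA4.IsNormalRing LQ :=
    NormalRing.isNormalRing_of_isLocalization (Algebra.algebraMapSubmonoid L S) hL
  have hTinj : Function.Injective (algebraMap TQ LQ) := by
    rw [injective_iff_map_eq_zero]
    intro a ha
    obtain ⟨t, s, rfl⟩ := IsLocalization.exists_mk'_eq S a
    rw [IsLocalization.mk'_eq_zero_iff]
    have ht : algebraMap L LQ (algebraMap T L t) = 0 := by
      rw [← IsScalarTower.algebraMap_apply T L LQ, IsScalarTower.algebraMap_apply T TQ LQ,
        ← IsLocalization.mk'_spec TQ t s, map_mul, ha, zero_mul]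
    obtain ⟨⟨_, m, hm, rfl⟩, hm'⟩ := (IsLocalization.map_eq_zero_iff (Algebra.algebraMapSubmonoid L S) LQ _).1 ht
    refine ⟨⟨m, hm⟩, hinj ?_⟩
    rw [map_mul, map_zero]
    exact hm'
  have hicQ : ∀ y : LQ, IsIntegral TQ y → ∃ t, algebraMap TQ LQ t = y := by
    intro y hy
    obtain ⟨m, hm⟩ := IsIntegral.exists_multiple_integral_of_isLocalization S (Rₘ := TQ) y hy
    obtain ⟨⟨l, ⟨_, s', hs', rfl⟩⟩, hl⟩ := IsLocalization.surj (Algebra.algebraMapSubmonoid L S) ((m : T) • y)
    -- `l` becomes integral after multiplication by an element of `S`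
    have hl' : IsIntegral T (algebraMap L LQ l) := by
      rw [← hl, ← IsScalarTower.algebraMap_apply T L LQ]
      exact hm.mul isIntegral_algebraMap
    obtain ⟨f, hfm, hf⟩ := hl'
    have hf' : algebraMap L LQ (f.eval₂ (algebraMap T L) l) = 0 := by
      rw [Polynomial.hom_eval₂, ← IsScalarTower.algebraMap_eq]; exact hf
    obtain ⟨⟨_, s'', hs'', rfl⟩, hs''0⟩ :=
      (IsLocalization.map_eq_zero_iff (Algebra.algebraMapSubmonoid L S) LQ _).1 hf'
    have hint : IsIntegral T (algebraMap T L s'' * l) := by
      rcases Nat.eq_zero_or_pos f.natDegree with h0 | h0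
      · have hf1 : f = 1 := hfm.natDegree_eq_zero.1 h0
        rw [hf1, Polynomial.eval₂_one, mul_one] at hs''0
        rw [show algebraMap T L s'' * l = 0 by
          rw [show (algebraMap T L) s'' = 0 from hs''0, zero_mul]]
        exact isIntegral_zero
      · refine ⟨f.scaleRoots s'', (Polynomial.monic_scaleRoots_iff _).2 hfm, ?_⟩
        rw [Polynomial.scaleRoots_eval₂_mul]
        obtain ⟨k, hk⟩ := Nat.exists_eq_add_of_le h0
        rw [hk, Nat.add_comm, pow_succ, mul_assoc, show algebraMap T L s'' * f.eval₂ (algebraMap T L) l = 0 from hs''0, mul_zero]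
    obtain ⟨t, ht⟩ := hic _ hint
    refine ⟨IsLocalization.mk' TQ t ⟨(m : T) * s' * s'', S.mul_mem (S.mul_mem m.2 hs') hs''⟩, ?_⟩
    have hunit : IsUnit (algebraMap T LQ ((m : T) * s' * s'')) := by
      rw [IsScalarTower.algebraMap_apply T TQ LQ]
      exact (IsLocalization.map_units TQ (⟨(m : T) * s' * s'', S.mul_mem (S.mul_mem m.2 hs') hs''⟩ : S)).map _
    refine hunit.mul_left_cancel ?_
    rw [IsScalarTower.algebraMap_apply T TQ LQ, ← map_mul, IsLocalization.mk'_spec'_mk,
      ← IsScalarTower.algebraMap_apply T TQ LQ, IsScalarTower.algebraMap_apply T L LQ, ht, map_mul, ← hl,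
      Algebra.smul_def, ← IsScalarTower.algebraMap_apply, ← IsScalarTower.algebraMap_apply, map_mul,
      map_mul]
    simp only [map_mul, ← IsScalarTower.algebraMap_apply T TQ LQ, mul_comm, mul_left_comm, mul_assoc]
  haveI : Nontrivial LQ := hTinj.nontrivial
  haveI hdom : IsDomain LQ := isDomain_of_normal LQ hLQ fun e he => by
    have hint : IsIntegral TQ e := ⟨Polynomial.X ^ 2 - Polynomial.X, by
      apply Polynomial.monic_X_pow_sub
      rw [Polynomial.degree_X]
      exact_mod_cast Nat.one_lt_two, by simp [pow_two, he.eq]⟩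
    obtain ⟨t, rfl⟩ := hicQ e hint
    have ht : IsIdempotentElem t := hTinj (by rw [map_mul]; exact he.eq)
    rcases IsLocalRing.isUnit_or_isUnit_one_sub_self t with hu | hu
    · exact Or.inr (by rw [(hu.mul_eq_left).1 ht.eq, map_one])
    · refine Or.inl ?_
      have : (1 - t) * t = 0 := by rw [sub_mul, one_mul, ht.eq, sub_self]
      rw [hu.mul_right_eq_zero.1 this, map_zero]
  haveI : IsDomain TQ := hTinj.isDomain (algebraMap TQ LQ)
  refine ⟨inferInstance, (isIntegrallyClosed_iff (FractionRing TQ)).2 fun {x} hx => ?_⟩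
  have hu : ∀ y : nonZeroDivisors TQ, IsUnit (algebraMap TQ (FractionRing LQ) y) := fun y => by
    refine Ne.isUnit ?_
    rw [IsScalarTower.algebraMap_apply TQ LQ (FractionRing LQ)]
    exact (map_ne_zero_iff _ (IsFractionRing.injective LQ (FractionRing LQ))).2
      ((map_ne_zero_iff _ hTinj).2 (nonZeroDivisors.ne_zero y.2))
  let φ : FractionRing TQ →ₐ[TQ] FractionRing LQ :=
    IsLocalization.liftAlgHom (f := Algebra.ofId TQ (FractionRing LQ)) hu
  haveI : IsIntegrallyClosed LQ := IsIntegrallyClosed.of_localization_maximal fun J _ _ => (hLQ J).2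
  obtain ⟨c, hc⟩ := (IsIntegrallyClosed.isIntegral_iff (R := LQ)).1 ((hx.map φ).tower_top (A := LQ))
  obtain ⟨t, ht⟩ := hicQ c ((isIntegral_algHom_iff (IsScalarTower.toAlgHom TQ LQ (FractionRing LQ))
    (IsFractionRing.injective LQ (FractionRing LQ))).1 (by
      rw [IsScalarTower.coe_toAlgHom', hc]; exact hx.map φ))
  refine ⟨t, φ.toRingHom.injective ?_⟩
  change φ _ = φ x
  rw [AlgHom.commutes, IsScalarTower.algebraMap_apply TQ LQ (FractionRing LQ), ht, hc]

/-- Normality ascends along flat maps with normal generic fibre and reduced fibres over the height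
one primes. -/
theorem isNormalRing_of_flat (B T L : Type u) [CommRing B] [IsDomain B] [IsNoetherianRing B]
    [IsIntegrallyClosed B] [CommRing T] [IsNoetherianRing T] [Algebra B T] [Module.Flat B T]
    [CommRing L] [Algebra T L] [Algebra B L] [IsScalarTower B T L]
    [IsLocalization (Algebra.algebraMapSubmonoid T B⁰) L] (hL : EGA4.IsNormalRing L)
    (hfib : ∀ (P : Ideal B) [P.IsPrime], P ≠ ⊥ → IsReduced (T ⧸ P.map (algebraMap B T))) :
    EGA4.IsNormalRing T := by
  have hreg : ∀ b : B, b ≠ 0 → ∀ z : T, algebraMap B T b * z = 0 → z = 0 := fun b hb z hz =>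
    (IsSMulRegular.of_flat (S := T) (IsRegular.of_ne_zero hb).left).right_eq_zero_of_smul hz
  have hinj : Function.Injective (algebraMap T L) := by
    rw [injective_iff_map_eq_zero]
    intro t ht
    obtain ⟨⟨_, b, hb, rfl⟩, hb'⟩ :=
      (IsLocalization.map_eq_zero_iff (Algebra.algebraMapSubmonoid T B⁰) L t).1 ht
    exact hreg b (nonZeroDivisors.ne_zero hb) t hb'
  have hu : ∀ b : B, b ≠ 0 → IsUnit (algebraMap B L b) := fun b hb => by
    rw [IsScalarTower.algebraMap_apply B T L]
    exact IsLocalization.map_units L (⟨_, b, mem_nonZeroDivisors_of_ne_zero hb, rfl⟩ :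
      Algebra.algebraMapSubmonoid T B⁰)
  refine isNormalRing_of_intClosedIn T L (Algebra.algebraMapSubmonoid T B⁰) hinj hL fun y hy => ?_
  obtain ⟨⟨z, ⟨_, ξ, hξ, rfl⟩⟩, hz⟩ := IsLocalization.surj (Algebra.algebraMapSubmonoid T B⁰) y
  have hξ0 : ξ ≠ 0 := nonZeroDivisors.ne_zero hξ
  have hzy : algebraMap T L z = algebraMap B L ξ * y := by
    rw [IsScalarTower.algebraMap_apply B T L, mul_comm]; exact hz.symm
  obtain ⟨w, rfl⟩ := dvd_of_unif T L hinj hu hξ0 (fun P hP => by
    haveI := hP.isPrime
    refine ⟨hasUnif_of_normal hξ0 hP, hfib P fun h0 => hξ0 ?_⟩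
    have := Groth.Agent.Lib.Cohen.NagataUnramified.mem_of_mem_associatedPrimes hP
    rwa [h0, Ideal.mem_bot] at this) z hy hzy
  refine ⟨w, (hu ξ hξ0).mul_left_cancel ?_⟩
  rw [← hzy, map_mul, ← IsScalarTower.algebraMap_apply]

end Groth.Agent.Lib.Excellent.NormalAscent
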