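import Mathlib.RingTheory.AdicCompletion.Algebra
import Mathlib.RingTheory.AdicCompletion.RingHom
import Mathlib.RingTheory.Jacobson.Ideal
import Mathlib.RingTheory.Ideal.GoingUp
import Mathlib.RingTheory.Noetherian.Basic

/-!
Completions at ideals defining the same topology.
-/

set_option linter.style.haveILetI false

universe u

namespace Groth.Agent.Lib.Excellent.CompletionTopology

variable {R : Type u} [CommRing R] {I J : Ideal R}

theorem factor_evalₐ {m n : ℕ} (h : m ≤ n) (x : AdicCompletion I R) :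
    Ideal.Quotient.factor (Ideal.pow_le_pow_right h) (AdicCompletion.evalₐ I n x)
      = AdicCompletion.evalₐ I m x := by
  obtain ⟨y, rfl⟩ := AdicCompletion.mk_surjective I R x
  rw [AdicCompletion.evalₐ_mk, AdicCompletion.evalₐ_mk, Ideal.Quotient.factor_mk,
    Ideal.Quotient.mk_eq_mk_iff_sub_mem]
  have := y.property h
  rw [SModEq.sub_mem] at this
  have h' : y m - y n ∈ I ^ m := by simpa using this
  have := (I ^ m).neg_mem h'
  rwa [neg_sub] at this

/-- The truncations of `compare`. -/
noncomputable def compareTrunc (k : ℕ) (h : I ^ k ≤ J) (n : ℕ) :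
    AdicCompletion I R →+* R ⧸ J ^ n :=
  (Ideal.Quotient.factor (by rw [pow_mul]; exact Ideal.pow_right_mono h n :
    I ^ (k * n) ≤ J ^ n)).comp (AdicCompletion.evalₐ I (k * n)).toRingHom

theorem compareTrunc_compat (k : ℕ) (h : I ^ k ≤ J) {m n : ℕ} (hle : m ≤ n) :
    (Ideal.Quotient.factorPow J hle).comp (compareTrunc k h n) = compareTrunc k h m := by
  ext x
  obtain ⟨a, ha⟩ := Ideal.Quotient.mk_surjective (AdicCompletion.evalₐ I (k * n) x)
  simp only [compareTrunc, RingHom.comp_apply, AlgHom.toRingHom_eq_coe, RingHom.coe_coe]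
  rw [← factor_evalₐ (Nat.mul_le_mul_left k hle) x, ← ha]
  rfl

/-- The map of completions induced by a cofinal comparison of two ideals. -/
noncomputable def compare (k : ℕ) (h : I ^ k ≤ J) :
    AdicCompletion I R →+* AdicCompletion J R :=
  AdicCompletion.liftRingHom J (compareTrunc k h) (compareTrunc_compat k h)

theorem evalₐ_compare (k : ℕ) (h : I ^ k ≤ J) (n : ℕ) (x : AdicCompletion I R) {a : R}
    (ha : AdicCompletion.evalₐ I (k * n) x = Ideal.Quotient.mk _ a) :
    AdicCompletion.evalₐ J n (compare k h x) = Ideal.Quotient.mk _ a := by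
  rw [compare, AdicCompletion.evalₐ_liftRingHom _ _ (compareTrunc_compat k h)]
  simp [compareTrunc, ha]

theorem compare_compare (k l : ℕ) (h : I ^ k ≤ J) (h' : J ^ l ≤ I) (hk : 1 ≤ k) (hl : 1 ≤ l)
    (x : AdicCompletion I R) : compare l h' (compare k h x) = x := by
  apply AdicCompletion.ext_evalₐ
  intro n
  obtain ⟨a, ha⟩ := Ideal.Quotient.mk_surjective (AdicCompletion.evalₐ I (k * (l * n)) x)
  rw [evalₐ_compare l h' n _ (evalₐ_compare k h (l * n) x ha.symm)]
  have hn : n ≤ k * (l * n) :=
    le_trans (Nat.le_mul_of_pos_left n hl) (Nat.le_mul_of_pos_left _ hk)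
  rw [← factor_evalₐ hn x, ← ha]
  rfl

/-- Completions for two ideals defining the same topology agree. -/
noncomputable def equivOfPow (k l : ℕ) (h : I ^ k ≤ J) (h' : J ^ l ≤ I) (hk : 1 ≤ k)
    (hl : 1 ≤ l) : AdicCompletion I R ≃+* AdicCompletion J R :=
  RingEquiv.ofRingHom (compare k h) (compare l h')
    (RingHom.ext (compare_compare l k h' h hl hk))
    (RingHom.ext (compare_compare k l h h' hk hl))

theorem jacobson_topology {A : Type u} [CommRing A] (m : Ideal A) [hm : m.IsMaximal]
    (hmax : ∀ M : Ideal A, M.IsMaximal → M = m)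
    (C : Type u) [CommRing C] [IsNoetherianRing C] [Algebra A C] [Algebra.IsIntegral A C] :
    m.map (algebraMap A C) ≤ (⊥ : Ideal C).jacobson ∧
      ∃ k, 1 ≤ k ∧ (⊥ : Ideal C).jacobson ^ k ≤ m.map (algebraMap A C) := by
  have h1 : m.map (algebraMap A C) ≤ (⊥ : Ideal C).jacobson := by
    rw [Ideal.jacobson, le_sInf_iff]
    rintro M ⟨-, hM⟩
    haveI := hM
    rw [Ideal.map_le_iff_le_comap]
    exact (hmax _ (Ideal.isMaximal_comap_of_isIntegral_of_isMaximal (R := A) M)).ge
  refine ⟨h1, ?_⟩
  have h2 : (⊥ : Ideal C).jacobson ≤ (m.map (algebraMap A C)).radical := by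
    rw [Ideal.radical_eq_sInf, le_sInf_iff]
    rintro P ⟨hP, hPp⟩
    haveI := hPp
    have : P.IsMaximal := by
      refine Ideal.isMaximal_of_isIntegral_of_isMaximal_comap (R := A) P ?_
      rw [← hm.eq_of_le (Ideal.IsPrime.comap (algebraMap A C)).ne_top
        (Ideal.map_le_iff_le_comap.1 hP)]
      exact hm
    exact sInf_le ⟨bot_le, this⟩
  obtain ⟨k, hk⟩ := Ideal.exists_pow_le_of_le_radical_of_fg h2 (IsNoetherian.noetherian _)
  exact ⟨k + 1, by omega, (Ideal.pow_le_pow_right (Nat.le_succ k)).trans hk⟩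

end Groth.Agent.Lib.Excellent.CompletionTopology
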