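import Groth.Agent.Lib.Excellent.FormalFibre
import Mathlib.RingTheory.IsTensorProduct
import Mathlib.RingTheory.Flat.Localization
import Mathlib.RingTheory.TensorProduct.Finite

/-!
Fibres of a localized homomorphism.
-/

set_option linter.style.haveILetI false

universe u

open scoped TensorProduct

namespace Groth.Agent.Lib.Excellent.LocalizedHom

open FormalFibre

theorem isFinPoint_of_isLocalization {A A' : Type u} [CommRing A] [CommRing A'] [Algebra A A']
    (S : Submonoid A) [IsLocalization S A'] (K : Type u) [Field K] [Algebra A' K] [Algebra A K]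
    [IsScalarTower A A' K] (h : IsFinPoint A' K) : IsFinPoint A K := by
  classical
  obtain ⟨B, hB, hfr⟩ := h
  obtain ⟨s, hs⟩ := (Module.Finite.iff_fg (N := B.toSubmodule)).1 hB
  have hint : ∀ x ∈ s, IsIntegral A' x := fun x hx => by
    have hxB : x ∈ B.toSubmodule := hs ▸ Submodule.subset_span hx
    exact IsIntegral.map B.val (Algebra.IsIntegral.isIntegral (R := A') (⟨x, hxB⟩ : B))
  choose! m hm using fun x hx =>
    IsIntegral.exists_multiple_integral_of_isLocalization S x (hint x hx)
  let B₀ := Algebra.adjoin A ((fun x => m x • x) '' (s : Set K))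
  refine ⟨B₀, Module.Finite.iff_fg.2 (fg_adjoin_of_finite (s.finite_toSet.image _)
    (by rintro _ ⟨x, hx, rfl⟩; exact hm x hx)), ?_⟩
  let F := Subfield.closure (B₀ : Set K)
  have hA' : ∀ r : A', algebraMap A' K r ∈ F := by
    intro r
    obtain ⟨a, t, rfl⟩ := IsLocalization.exists_mk'_eq S r
    have h0 : algebraMap A K t ≠ 0 := by
      rw [IsScalarTower.algebraMap_apply A A' K]
      exact ((IsLocalization.map_units A' t).map (algebraMap A' K)).ne_zero
    have : algebraMap A' K (IsLocalization.mk' A' a t) = algebraMap A K a / algebraMap A K t := by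
      rw [eq_div_iff h0, IsScalarTower.algebraMap_apply A A' K a,
        IsScalarTower.algebraMap_apply A A' K t, ← map_mul, IsLocalization.mk'_spec]
    rw [this]
    exact div_mem (Subfield.subset_closure (B₀.algebraMap_mem _))
      (Subfield.subset_closure (B₀.algebraMap_mem _))
  have hgen : ∀ x ∈ s, x ∈ F := by
    intro x hx
    have h1 : m x • x ∈ F := Subfield.subset_closure (Algebra.subset_adjoin ⟨x, hx, rfl⟩)
    have h0 : algebraMap A K (m x) ≠ 0 := by
      rw [IsScalarTower.algebraMap_apply A A' K]
      exact ((IsLocalization.map_units A' (m x)).map (algebraMap A' K)).ne_zero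
    have h2 : x = (m x • x) / algebraMap A K (m x) := by
      rw [eq_div_iff h0, Submonoid.smul_def, Algebra.smul_def, mul_comm]
    rw [h2]
    exact div_mem h1 (Subfield.subset_closure (B₀.algebraMap_mem _))
  have hB₀ : ∀ x ∈ B, x ∈ F := by
    intro x hx
    have hx' : x ∈ Submodule.span A' (s : Set K) := by rw [hs]; exact hx
    clear hx
    induction hx' using Submodule.span_induction with
    | mem y hy => exact hgen y hy
    | zero => exact zero_mem _
    | add y z _ _ ih ih' => exact add_mem ih ih'
    | smul r y _ ih => rw [Algebra.smul_def]; exact mul_mem (hA' r) ih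
  refine IsFractionRing.of_field _ _ fun z => ?_
  obtain ⟨y, w, -, rfl⟩ := IsFractionRing.div_surjective B z
  have hz : (y : K) / (w : K) ∈ F := div_mem (hB₀ _ y.2) (hB₀ _ w.2)
  obtain ⟨y', hy', w', hw', he⟩ := Subfield.mem_closure_iff.1 hz
  have hc : Subring.closure (B₀ : Set K) = B₀.toSubring := Subring.closure_eq B₀.toSubring
  rw [hc] at hy' hw'
  exact ⟨⟨y', hy'⟩, ⟨w', hw'⟩, he.symm⟩

variable {A B : Type u} [CommRing A] [CommRing B] [Algebra A B] (S : Submonoid A)
  (A' B' : Type u) [CommRing A'] [CommRing B'] [Algebra A A'] [Algebra B B'] [Algebra A' B']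
  [Algebra A B'] [IsScalarTower A A' B'] [IsScalarTower A B B'] [IsLocalization S A']
  [IsLocalization (Algebra.algebraMapSubmonoid B S) B']

include S in
theorem forall_tensor_localization {P : ∀ (R : Type u) [CommRing R], Prop} (hP : IsoInvariant P)
    (h : ∀ (K : Type u) [Field K] [Algebra A K], IsFinPoint A K → P (K ⊗[A] B))
    (K : Type u) [Field K] [Algebra A' K] (hK : IsFinPoint A' K) : P (K ⊗[A'] B') := by
  letI : Algebra A K := ((algebraMap A' K).comp (algebraMap A A')).toAlgebra
  haveI : IsScalarTower A A' K := .of_algebraMap_eq' rfl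
  haveI : Algebra.IsPushout A A' B B' :=
    (Algebra.isPushout_of_isLocalization S A' B B').symm
  let e : A' ⊗[A] B ≃ₐ[A'] B' := Algebra.IsPushout.equiv A A' B B'
  exact hP _ _ ((Algebra.TensorProduct.congr (AlgEquiv.refl : K ≃ₐ[A'] K) e.symm).toRingEquiv.trans
    (Algebra.TensorProduct.cancelBaseChange A A' K K B).toRingEquiv).symm
    (h K (isFinPoint_of_isLocalization S K hK))

include S in
theorem flat_localization [Module.Flat A B] : Module.Flat A' B' := by
  haveI : Algebra.IsPushout A A' B B' := (Algebra.isPushout_of_isLocalization S A' B B').symm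
  exact Module.Flat.of_linearEquiv (Algebra.IsPushout.equiv A A' B B').symm.toLinearEquiv

theorem isNoetherianRing_finite_tensor (k F k' : Type u) [Field k] [CommRing F] [Algebra k F]
    [Field k'] [Algebra k k'] [Module.Finite k k'] [IsNoetherianRing F] :
    IsNoetherianRing (k' ⊗[k] F) := by
  haveI : Module.Finite F (F ⊗[k] k') := Module.Finite.base_change k F k'
  haveI : IsNoetherianRing (F ⊗[k] k') :=
    isNoetherian_of_tower F (inferInstance : IsNoetherian F (F ⊗[k] k'))
  exact isNoetherianRing_of_ringEquiv _ (Algebra.TensorProduct.comm k F k').toRingEquiv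

end Groth.Agent.Lib.Excellent.LocalizedHom
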