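import Groth.Agent.Lib.Excellent.NormalAscent
import Groth.Agent.Lib.Excellent.LocalizedHom
import Mathlib.RingTheory.LocalRing.ResidueField.Fiber
import Mathlib.RingTheory.SurjectiveOnStalks
import Mathlib.RingTheory.Localization.BaseChange

/-!
# Flat algebras with normal fibres over normal rings
-/

set_option autoImplicit false
set_option linter.style.haveILetI false

universe u

open scoped TensorProduct nonZeroDivisors
open Groth.Agent.Lib.Excellent.FormalFibre

namespace Groth.Agent.Lib.Excellent.NormalFibres

theorem isoInvariant_isNormalRing : IsoInvariant.{u} (fun R [CommRing R] => EGA4.IsNormalRing R) := by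
  intro R S _ _ e h
  letI := e.toRingHom.toAlgebra
  haveI : IsLocalization (⊥ : Submonoid R) R := IsLocalization.self (by simp)
  haveI : IsLocalization (⊥ : Submonoid R) S :=
    IsLocalization.isLocalization_of_algEquiv (⊥ : Submonoid R) (AlgEquiv.ofRingEquiv (f := e) fun _ => rfl)
  exact NormalRing.isNormalRing_of_isLocalization (⊥ : Submonoid R) h

theorem isReduced_of_isNormalRing (R : Type u) [CommRing R] (h : EGA4.IsNormalRing R) : IsReduced R :=
  isReduced_ofLocalizationMaximal R fun J hJ => by
    haveI := hJ.isPrime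
    haveI := (h J).1
    infer_instance

/-- A flat algebra over a normal domain whose fibres are normal at the generic point and reduced
elsewhere is normal. -/
theorem isNormalRing_of_domain (B T : Type u) [CommRing B] [IsDomain B] [IsNoetherianRing B]
    [IsIntegrallyClosed B] [CommRing T] [IsNoetherianRing T] [Algebra B T] [Module.Flat B T]
    (hgen : EGA4.IsNormalRing ((⊥ : Ideal B).Fiber T))
    (hfib : ∀ (P : Ideal B) [P.IsPrime], P ≠ ⊥ → IsReduced (P.Fiber T)) :
    EGA4.IsNormalRing T := by
  let K := (⊥ : Ideal B).ResidueField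
  haveI : IsLocalization (Algebra.algebraMapSubmonoid T B⁰) (T ⊗[B] K) :=
    IsLocalization.tensor K B⁰
  have hL : EGA4.IsNormalRing (T ⊗[B] K) :=
    isoInvariant_isNormalRing _ _ (Algebra.TensorProduct.comm B K T).toRingEquiv hgen
  refine NormalAscent.isNormalRing_of_flat B T (T ⊗[B] K) hL fun P _ hP => ?_
  haveI := hfib P hP
  haveI : IsReduced (T ⊗[B] P.ResidueField) :=
    isReduced_of_injective (Algebra.TensorProduct.comm B T P.ResidueField) (AlgEquiv.injective _)
  haveI : IsReduced (T ⊗[B] (B ⧸ P)) :=
    isReduced_of_injective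
      (Algebra.TensorProduct.map (AlgHom.id B T) (IsScalarTower.toAlgHom B (B ⧸ P) P.ResidueField))
      (Module.Flat.lTensor_preserves_injective_linearMap _ P.injective_algebraMap_quotient_residueField)
  exact isReduced_of_injective (Algebra.TensorProduct.quotIdealMapEquivTensorQuot T P)
    (AlgEquiv.injective _)

/-- Localizations of flat algebras with normal fibres at primes over normal points are normal. -/
theorem normal_atPrime (R C : Type u) [CommRing R] [IsNoetherianRing R] [CommRing C] [IsNoetherianRing C]
    [Algebra R C] [Module.Flat R C] (q : Ideal C) [q.IsPrime] (p : Ideal R) [p.IsPrime]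
    (hqp : q.comap (algebraMap R C) = p)
    (hR : IsDomain (Localization.AtPrime p) ∧ IsIntegrallyClosed (Localization.AtPrime p))
    (hfib : ∀ (p' : Ideal R) [p'.IsPrime], p' ≤ p → EGA4.IsNormalRing (p'.Fiber C)) :
    IsDomain (Localization.AtPrime q) ∧ IsIntegrallyClosed (Localization.AtPrime q) := by
  obtain ⟨_, _⟩ := hR
  let R' := Localization.AtPrime p
  let M := Algebra.algebraMapSubmonoid C p.primeCompl
  let C' := Localization M
  haveI : IsNoetherianRing R' := IsLocalization.isNoetherianRing p.primeCompl _ inferInstance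
  haveI : IsNoetherianRing C' := IsLocalization.isNoetherianRing M _ inferInstance
  haveI : Module.Flat R' C' := LocalizedHom.flat_localization (B := C) p.primeCompl R' C'
  have hfib' : ∀ (P : Ideal R') [P.IsPrime], EGA4.IsNormalRing (P.Fiber C') := by
    intro P _
    let p' := P.comap (algebraMap R R')
    have hle : p' ≤ p := by
      rw [← IsLocalization.AtPrime.under_maximalIdeal R' p]
      exact Ideal.comap_mono (IsLocalRing.le_maximalIdeal (Ideal.IsPrime.ne_top inferInstance))
    let f : p'.ResidueField →ₐ[R] P.ResidueField :=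
      Ideal.ResidueField.mapₐ p' P (Algebra.ofId R R') rfl
    have hf : Function.Bijective f :=
      (RingHom.surjectiveOnStalks_of_isLocalization p.primeCompl R').residueFieldMap_bijective p' P rfl
    let e : p'.ResidueField ⊗[R] C ≃ₐ[R] P.ResidueField ⊗[R] C :=
      Algebra.TensorProduct.congr (AlgEquiv.ofBijective f hf) AlgEquiv.refl
    haveI : Algebra.IsPushout R R' C C' :=
      (Algebra.isPushout_of_isLocalization p.primeCompl R' C C').symm
    let e' : R' ⊗[R] C ≃ₐ[R'] C' := Algebra.IsPushout.equiv R R' C C'
    exact isoInvariant_isNormalRing _ _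
      (e.toRingEquiv.trans ((Algebra.TensorProduct.cancelBaseChange R R' P.ResidueField P.ResidueField C).symm.toRingEquiv.trans
        (Algebra.TensorProduct.congr (AlgEquiv.refl : P.ResidueField ≃ₐ[R'] P.ResidueField) e').toRingEquiv))
      (hfib p' hle)
  have hC' : EGA4.IsNormalRing C' := isNormalRing_of_domain R' C' (hfib' ⊥) fun P _ _ =>
    isReduced_of_isNormalRing _ (hfib' P)
  refine (forall_localization_iff M NormalRing.isoInvariant_domainIntClosed).1 hC' q ?_
  rw [Set.disjoint_left]
  rintro _ ⟨r, hr, rfl⟩ hrq
  exact hr (hqp ▸ hrq)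

theorem isNormalRing_of_fibres (R C : Type u) [CommRing R] [IsNoetherianRing R] [CommRing C]
    [IsNoetherianRing C] [Algebra R C] [Module.Flat R C] (hR : EGA4.IsNormalRing R)
    (hfib : ∀ (p : Ideal R) [p.IsPrime], EGA4.IsNormalRing (p.Fiber C)) : EGA4.IsNormalRing C :=
  fun q _ => normal_atPrime R C q _ rfl (hR _) fun p' _ _ => hfib p'

/-- Normality of a fibre from its local rings. -/
theorem isNormalRing_fiber (A B : Type u) [CommRing A] [CommRing B] [Algebra A B] (p : Ideal A) [p.IsPrime]
    (h : ∀ (q : Ideal B) [q.IsPrime], q.comap (algebraMap A B) = p →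
      IsDomain (EGA4.FibLocRing A B q) ∧ IsIntegrallyClosed (EGA4.FibLocRing A B q)) :
    EGA4.IsNormalRing (p.Fiber B) := by
  intro Q _
  let r := Q.comap (Algebra.TensorProduct.includeRight (R := A) (A := p.ResidueField) (B := B))
  have hr : r.comap (algebraMap A B) = p := by
    conv_rhs => rw [Ideal.over_def Q p]
    ext a
    simp only [r, Ideal.mem_comap, Ideal.under_def, AlgHom.commutes]
  refine NormalRing.isoInvariant_domainIntClosed _ _ ?_ (h r hr)
  refine RingEquiv.trans ?_ (Ideal.Fiber.algEquivAux₂ p Q).symm.toRingEquiv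
  exact Ideal.quotEquivOfEq (by rw [hr, Ideal.map_map, ← IsScalarTower.algebraMap_eq])

end Groth.Agent.Lib.Excellent.NormalFibres

namespace Groth.Agent.Lib.Excellent.NormalFibres

theorem isNormalRing_of_isGeomNormal (k X : Type u) [Field k] [CommRing X] [Algebra k X]
    (h : EGA4.IsGeomNormal k X) : EGA4.IsNormalRing X :=
  isoInvariant_isNormalRing _ _ (Algebra.TensorProduct.lid k X).toRingEquiv (h k inferInstance)

theorem isNormalRing_of_faithfullyFlat (R C : Type u) [CommRing R] [IsNoetherianRing R] [CommRing C]
    [IsNoetherianRing C] [Algebra R C] [Module.FaithfullyFlat R C]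
    (h : ∀ (q : Ideal C) [q.IsPrime], IsDomain (Localization.AtPrime (q.comap (algebraMap R C))) ∧
      IsIntegrallyClosed (Localization.AtPrime (q.comap (algebraMap R C)))) :
    EGA4.IsNormalRing R := by
  intro p _
  obtain ⟨q, hq⟩ := PrimeSpectrum.comap_surjective_of_faithfullyFlat (A := R) (B := C) ⟨p, ‹_›⟩
  have e : q.asIdeal.comap (algebraMap R C) = p := congrArg PrimeSpectrum.asIdeal hq
  have := h q.asIdeal
  subst e
  exact this

end Groth.Agent.Lib.Excellent.NormalFibres
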