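import Groth.Agent.Lib.Excellent.Transport

/-!
Basic stability properties of normal rings.
-/

set_option linter.style.haveILetI false

universe u

namespace Groth.Agent.Lib.Excellent.NormalRing

theorem isoInvariant_domainIntClosed :
    FormalFibre.IsoInvariant.{u} (fun R [CommRing R] => IsDomain R ∧ IsIntegrallyClosed R) :=
  fun _ _ _ _ e h => Transport.isDomain_intClosed_of_ringEquiv e h

theorem isNormalRing_of_isLocalization {S S' : Type u} [CommRing S] [CommRing S'] [Algebra S S']
    (M : Submonoid S) [IsLocalization M S'] (h : EGA4.IsNormalRing S) : EGA4.IsNormalRing S' :=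
  fun Q _ => (FormalFibre.forall_localization_iff M isoInvariant_domainIntClosed).2
    (fun q _ _ => h q) Q

end Groth.Agent.Lib.Excellent.NormalRing
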