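import Groth.Prelude.Def_EGA4b
import Groth.Agent.Lib.Regular.Serre
import Mathlib.RingTheory.Ideal.MinimalPrime.Noetherian
import Mathlib.RingTheory.Ideal.Height
import Mathlib.RingTheory.Ideal.KrullsHeightTheorem
import Mathlib.RingTheory.Spectrum.Prime.Topology
import Mathlib.RingTheory.Localization.Ideal

/-!
Nagata's criterion for the openness of the regular locus.
-/

set_option linter.style.haveILetI false

universe u

namespace Groth.Agent.Lib.Excellent.RegLocus

variable {A : Type u} [CommRing A]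

/-- A generization stable subset of the spectrum of a Noetherian ring is open as soon as it contains
a relative neighbourhood of each of its points inside the closure of that point. -/
theorem isOpen_of_generization_nhds [IsNoetherianRing A] (S : Set (PrimeSpectrum A))
    (hgen : ∀ p q : PrimeSpectrum A, q ≤ p → p ∈ S → q ∈ S)
    (h : ∀ p ∈ S, ∃ U : Set (PrimeSpectrum A), IsOpen U ∧ p ∈ U ∧
      U ∩ PrimeSpectrum.zeroLocus (p.asIdeal : Set A) ⊆ S) :
    IsOpen S := by
  classical
  rw [← isClosed_compl_iff]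
  set I := PrimeSpectrum.vanishingIdeal Sᶜ with hI
  have hfin : I.minimalPrimes.Finite := Ideal.finite_minimalPrimes_of_isNoetherianRing A I
  have hcov : ∀ x : PrimeSpectrum A, x ∈ closure Sᶜ → ∃ P ∈ I.minimalPrimes, P ≤ x.asIdeal := by
    intro x hx
    rw [← PrimeSpectrum.zeroLocus_vanishingIdeal_eq_closure] at hx
    exact Ideal.exists_minimalPrimes_le hx
  have key : ∀ P ∈ I.minimalPrimes, ∀ (hP : P.IsPrime), (⟨P, hP⟩ : PrimeSpectrum A) ∉ S := by
    intro P hPmin hP hmem
    obtain ⟨U, hU, hPU, hUS⟩ := h _ hmem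
    let C : Set (PrimeSpectrum A) := (⋃ P' ∈ I.minimalPrimes \ {P},
      PrimeSpectrum.zeroLocus (P' : Set A)) ∪ (PrimeSpectrum.zeroLocus (P : Set A) \ U)
    have hC : IsClosed C := ((hfin.subset Set.sdiff_subset).isClosed_biUnion
      fun _ _ => PrimeSpectrum.isClosed_zeroLocus _).union
        ((PrimeSpectrum.isClosed_zeroLocus _).sdiff hU)
    have hsub : Sᶜ ⊆ C := by
      intro x hx
      obtain ⟨P', hP', hle⟩ := hcov x (subset_closure hx)
      rcases eq_or_ne P' P with rfl | hne
      · exact Or.inr ⟨hle, fun hxU => hx (hUS ⟨hxU, hle⟩)⟩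
      · exact Or.inl (Set.mem_biUnion (show P' ∈ I.minimalPrimes \ {P} from ⟨hP', hne⟩) hle)
    have hmemC : (⟨P, hP⟩ : PrimeSpectrum A) ∈ C := by
      apply closure_minimal hsub hC
      rw [← PrimeSpectrum.zeroLocus_vanishingIdeal_eq_closure]
      exact hPmin.1.2
    rcases hmemC with hx | hx
    · simp only [Set.mem_iUnion] at hx
      obtain ⟨P', ⟨hP', hne⟩, hle⟩ := hx
      exact hne (le_antisymm hle (hPmin.2 hP'.1 hle))
    · exact hx.2 hPU
  rw [← closure_subset_iff_isClosed]
  intro x hx
  obtain ⟨P, hP, hle⟩ := hcov x hx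
  exact fun hxS => key P hP hP.1.1 (hgen x ⟨P, hP.1.1⟩ hle hxS)

theorem regLocus_generization [IsNoetherianRing A] (p q : PrimeSpectrum A) (hle : q ≤ p)
    (hp : p ∈ EGA4.regLocus A) : q ∈ EGA4.regLocus A := by
  haveI : IsRegularLocalRing (Localization.AtPrime p.asIdeal) := hp
  have hd : Disjoint (p.asIdeal.primeCompl : Set A) q.asIdeal :=
    Set.disjoint_left.2 fun x hx hxq => hx (hle hxq)
  haveI hQ : (q.asIdeal.map (algebraMap A (Localization.AtPrime p.asIdeal))).IsPrime :=
    IsLocalization.isPrime_of_isPrime_disjoint _ _ _ q.2 hd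
  let Q := q.asIdeal.map (algebraMap A (Localization.AtPrime p.asIdeal))
  have hcomap : Q.comap (algebraMap A _) = q.asIdeal :=
    IsLocalization.under_map_of_isPrime_disjoint p.asIdeal.primeCompl _ q.2 hd
  haveI := Groth.Agent.Lib.Regular.Serre.isRegularLocalRing_localization Q
  haveI hloc := IsLocalization.isLocalization_isLocalization_atPrime_isLocalization
    p.asIdeal.primeCompl (Localization.AtPrime Q) Q
  haveI : IsLocalization q.asIdeal.primeCompl (Localization.AtPrime Q) := by
    have e : (Q.comap (algebraMap A (Localization.AtPrime p.asIdeal))).primeCompl =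
        q.asIdeal.primeCompl := by
      ext x
      change x ∉ Q.comap _ ↔ x ∉ q.asIdeal
      rw [hcomap]
    exact e ▸ hloc
  exact IsRegularLocalRing.of_ringEquiv (R := Localization.AtPrime Q)
    (IsLocalization.algEquiv q.asIdeal.primeCompl _ _).toRingEquiv

theorem mem_of_le_of_isOpen {U : Set (PrimeSpectrum A)} (hU : IsOpen U) {p x : PrimeSpectrum A}
    (hle : p ≤ x) (hx : x ∈ U) : p ∈ U :=
  ((PrimeSpectrum.le_iff_specializes p x).1 hle).mem_open hU hx

/-- Concatenating chains of primes. -/
theorem height_add_height_le (p : Ideal A) [p.IsPrime] (P : Ideal (A ⧸ p)) [P.IsPrime] :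
    p.height + P.height ≤ (P.comap (Ideal.Quotient.mk p)).height := by
  classical
  rw [PrimeSpectrum.height_eq_orderHeight (⟨p, ‹_›⟩ : PrimeSpectrum A),
    PrimeSpectrum.height_eq_orderHeight (⟨P, ‹_›⟩ : PrimeSpectrum (A ⧸ p)),
    PrimeSpectrum.height_eq_orderHeight (⟨P.comap (Ideal.Quotient.mk p), inferInstance⟩ : PrimeSpectrum A)]
  let f : PrimeSpectrum (A ⧸ p) → PrimeSpectrum A := PrimeSpectrum.comap (Ideal.Quotient.mk p)
  have hf : StrictMono f := fun a b hab => lt_of_le_of_ne (Ideal.comap_mono hab.le)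
    fun he => hab.ne (PrimeSpectrum.comap_injective_of_surjective _ Ideal.Quotient.mk_surjective he)
  have hge : ∀ a, (⟨p, ‹_›⟩ : PrimeSpectrum A) ≤ f a := fun a x hx => by
    change Ideal.Quotient.mk p x ∈ a.asIdeal
    rw [Ideal.Quotient.eq_zero_iff_mem.2 hx]
    exact a.asIdeal.zero_mem
  simp only [Order.height]
  refine ENat.biSup_add_biSup_le' (by exact ⟨RelSeries.singleton _ _, le_rfl⟩)
    (by exact ⟨RelSeries.singleton _ _, le_rfl⟩) fun s hs t ht => ?_
  let t' := t.map f hf
  have hlast : t'.last ≤ f ⟨P, ‹_›⟩ := by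
    rw [LTSeries.last_map]
    exact hf.monotone ht
  have hst : s.last ≤ t'.head := by
    rw [LTSeries.head_map]
    exact hs.trans (hge _)
  rcases hst.eq_or_lt with heq | hlt
  · exact le_iSup₂_of_le (RelSeries.smash s t' heq) (by rw [RelSeries.last_smash]; exact hlast) (by simp [t'])
  · refine le_iSup₂_of_le (RelSeries.append s t' hlt) (by rw [RelSeries.last_append]; exact hlast) ?_
    simp [t', add_assoc]

/-- A prime `q` over a regular point `p` is regular once `p` needs few generators near `q` and the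
quotient by `p` is regular at `q`. -/
theorem isRegularLocalRing_of_quotient [IsNoetherianRing A] (p : Ideal A) [p.IsPrime]
    (P : Ideal (A ⧸ p)) [P.IsPrime] (x : Finset A) (hx : (x : Set A) ⊆ p)
    (hcard : (x.card : ℕ∞) ≤ p.height) (f : A) (hf : Ideal.Quotient.mk p f ∉ P)
    (hgen : ∀ a ∈ p, f * a ∈ Ideal.span (x : Set A))
    (hreg : IsRegularLocalRing (Localization.AtPrime P)) :
    IsRegularLocalRing (Localization.AtPrime (P.comap (Ideal.Quotient.mk p))) := by
  classical
  set Q := P.comap (Ideal.Quotient.mk p) with hQ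
  let R := Localization.AtPrime Q
  let φ := Localization.localRingHom Q P (Ideal.Quotient.mk p) rfl
  have hφ : Function.Surjective φ := by
    intro z
    obtain ⟨a, t, rfl⟩ := IsLocalization.exists_mk'_eq P.primeCompl z
    obtain ⟨a, rfl⟩ := Ideal.Quotient.mk_surjective a
    obtain ⟨t', ht⟩ := Ideal.Quotient.mk_surjective (t : A ⧸ p)
    refine ⟨IsLocalization.mk' _ a (⟨t', fun hm => t.2 (by rw [← ht]; exact hm)⟩ : Q.primeCompl), ?_⟩
    rw [Localization.localRingHom_mk']
    exact congrArg _ (Subtype.ext ht)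
  have hker : RingHom.ker φ ≤ Ideal.span (algebraMap A R '' (x : Set A)) := by
    intro z hz
    obtain ⟨a, t, rfl⟩ := IsLocalization.exists_mk'_eq Q.primeCompl z
    rw [RingHom.mem_ker, Localization.localRingHom_mk', IsLocalization.mk'_eq_zero_iff] at hz
    obtain ⟨u, hu⟩ := hz
    obtain ⟨u', hu'⟩ := Ideal.Quotient.mk_surjective (u : A ⧸ p)
    rw [← hu', ← map_mul, Ideal.Quotient.eq_zero_iff_mem] at hu
    have hmem : f * u' ∈ Q.primeCompl := by
      intro hm
      rw [SetLike.mem_coe, Ideal.mem_comap, map_mul] at hm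
      rcases (‹P.IsPrime›).mem_or_mem hm with hm | hm
      · exact hf hm
      · exact u.2 (hu' ▸ hm)
    rw [← Ideal.map_span]
    have : algebraMap A R (f * (u' * a)) ∈ (Ideal.span (x : Set A)).map (algebraMap A R) :=
      Ideal.mem_map_of_mem _ (hgen _ hu)
    rw [← mul_assoc, map_mul] at this
    have h2 := (IsLocalization.map_units R (⟨_, hmem⟩ : Q.primeCompl))
    rw [Ideal.unit_mul_mem_iff_mem _ h2] at this
    rw [IsLocalization.mk'_eq_mul_mk'_one]
    exact Ideal.mul_mem_right _ _ this
  obtain ⟨g, hg, hgc⟩ : ∃ g : Set (Localization.AtPrime P),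
      Ideal.span g = IsLocalRing.maximalIdeal (Localization.AtPrime P) ∧
      g.Finite ∧ g.ncard = (IsLocalRing.maximalIdeal (Localization.AtPrime P)).spanFinrank :=
    ⟨_, Submodule.span_generators _, Submodule.FG.finite_generators (Ideal.fg_of_isNoetherianRing _),
      Submodule.FG.generators_ncard (Ideal.fg_of_isNoetherianRing _)⟩
  choose l hl using hφ
  have hm : IsLocalRing.maximalIdeal R = Ideal.span ((algebraMap A R '' (x : Set A)) ∪ l '' g) := by
    haveI : IsLocalHom φ := IsLocalHom.of_surjective φ (fun z => ⟨l z, hl z⟩)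
    have h1 : (Ideal.span (l '' g)).map φ = IsLocalRing.maximalIdeal (Localization.AtPrime P) := by
      rw [Ideal.map_span, Set.image_image]; simp [hl, hg]
    apply le_antisymm
    · intro z hz
      have h2 : φ z ∈ (Ideal.span (l '' g)).map φ := by
        rw [h1]
        exact fun hu => (IsLocalRing.mem_maximalIdeal z).1 hz (isUnit_of_map_unit φ z hu)
      obtain ⟨w, hw, hwe⟩ := (Ideal.mem_map_iff_of_surjective φ (fun z => ⟨l z, hl z⟩)).1 h2
      rw [Ideal.span_union]
      have : z - w ∈ Ideal.span (algebraMap A R '' (x : Set A)) :=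
        hker (by rw [RingHom.mem_ker, map_sub, hwe, sub_self])
      simpa using Submodule.add_mem_sup this hw
    · rw [Ideal.span_le, Set.union_subset_iff]
      constructor
      · rintro _ ⟨a, ha, rfl⟩
        refine fun hu => ?_
        have := hu.map φ
        rw [Localization.localRingHom_to_map, Ideal.Quotient.eq_zero_iff_mem.2 (hx ha), map_zero] at this
        exact not_isUnit_zero this
      · rintro _ ⟨a, ha, rfl⟩ hu
        have := hu.map φ
        rw [hl] at this
        exact (IsLocalRing.mem_maximalIdeal a).1 (hg ▸ Ideal.subset_span ha) this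
  refine .of_spanFinrank_maximalIdeal_le _ ?_
  have hle : (IsLocalRing.maximalIdeal R).spanFinrank ≤
      x.card + (IsLocalRing.maximalIdeal (Localization.AtPrime P)).spanFinrank := by
    rw [hm, ← hgc.2]
    refine le_trans (Submodule.spanFinrank_span_le_ncard_of_finite
      ((x.finite_toSet.image _).union (hgc.1.image _))) ?_
    refine le_trans (Set.ncard_union_le _ _) (add_le_add ?_ (Set.ncard_image_le hgc.1))
    exact le_trans (Set.ncard_image_le x.finite_toSet) (by simp)
  have hdimP : ringKrullDim (Localization.AtPrime P) = P.height :=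
    IsLocalization.AtPrime.ringKrullDim_eq_height P _
  have hdimQ : ringKrullDim R = Q.height := IsLocalization.AtPrime.ringKrullDim_eq_height Q _
  have hreg' := hreg.spanFinrank_maximalIdeal
  rw [hdimP] at hreg'
  change ((IsLocalRing.maximalIdeal R).spanFinrank : WithBot ℕ∞) ≤ ringKrullDim R
  rw [hdimQ]
  have hP : ((IsLocalRing.maximalIdeal (Localization.AtPrime P)).spanFinrank : ℕ∞) = P.height := by
    exact_mod_cast hreg'
  have : ((IsLocalRing.maximalIdeal R).spanFinrank : ℕ∞) ≤ Q.height := by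
    refine le_trans (Nat.cast_le.2 hle) ?_
    rw [Nat.cast_add, hP]
    exact (add_le_add hcard le_rfl).trans (height_add_height_le p P)
  exact_mod_cast this

/-- Few elements generate a regular prime ideal near that prime. -/
theorem exists_generators_of_regular [IsNoetherianRing A] (p : Ideal A) [p.IsPrime]
    (hp : IsRegularLocalRing (Localization.AtPrime p)) :
    ∃ x : Finset A, (x : Set A) ⊆ p ∧ (x.card : ℕ∞) ≤ p.height ∧
      ∃ f : A, f ∉ p ∧ ∀ a ∈ p, f * a ∈ Ideal.span (x : Set A) := by
  classical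
  set R := Localization.AtPrime p
  have hfg := Ideal.fg_of_isNoetherianRing (IsLocalRing.maximalIdeal R)
  obtain ⟨g, hg, hgf, hgc⟩ : ∃ g : Set R, Ideal.span g = IsLocalRing.maximalIdeal R ∧
      g.Finite ∧ g.ncard = (IsLocalRing.maximalIdeal R).spanFinrank :=
    ⟨_, Submodule.span_generators _, Submodule.FG.finite_generators hfg,
      Submodule.FG.generators_ncard hfg⟩
  choose num den hnd using fun z : R => IsLocalization.exists_mk'_eq p.primeCompl z
  let x := hgf.toFinset.image num
  have hxp : (x : Set A) ⊆ p := by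
    intro a ha
    obtain ⟨z, hz, rfl⟩ := Finset.mem_image.1 ha
    have : z ∈ IsLocalRing.maximalIdeal R := hg ▸ Ideal.subset_span (hgf.mem_toFinset.1 hz)
    rw [← hnd z] at this
    exact (IsLocalization.AtPrime.mk'_mem_maximal_iff R p (num z) (den z)).1 this
  have hspan : (Ideal.span (x : Set A)).map (algebraMap A R) = IsLocalRing.maximalIdeal R := by
    rw [← hg, Ideal.map_span]
    apply le_antisymm <;> rw [Ideal.span_le]
    · rintro _ ⟨a, ha, rfl⟩
      obtain ⟨z, hz, rfl⟩ := Finset.mem_image.1 ha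
      rw [← IsLocalization.mk'_spec R (num z) (den z), hnd]
      exact Ideal.mul_mem_right _ _ (Ideal.subset_span (hgf.mem_toFinset.1 hz))
    · intro z hz
      rw [← hnd z, IsLocalization.mk'_eq_mul_mk'_one]
      exact Ideal.mul_mem_right _ _ (Ideal.subset_span
        ⟨_, Finset.mem_image.2 ⟨z, hgf.mem_toFinset.2 hz, rfl⟩, rfl⟩)
  refine ⟨x, hxp, ?_, ?_⟩
  · calc (x.card : ℕ∞) ≤ ((IsLocalRing.maximalIdeal R).spanFinrank : ℕ∞) := by
          rw [← hgc, Set.ncard_eq_toFinset_card _ hgf]
          exact Nat.cast_le.2 Finset.card_image_le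
      _ = p.height := by
          have h := hp.spanFinrank_maximalIdeal
          rw [IsLocalization.AtPrime.ringKrullDim_eq_height p] at h
          exact_mod_cast h
  obtain ⟨s, hs⟩ := IsNoetherian.noetherian p
  have h0 : ∀ a ∈ p, ∃ m : p.primeCompl, (m : A) * a ∈ Ideal.span (x : Set A) := by
    intro a ha
    have : algebraMap A R a ∈ (Ideal.span (x : Set A)).map (algebraMap A R) := by
      rw [hspan]
      exact fun hu => (IsLocalization.AtPrime.isUnit_to_map_iff R p a).1 hu ha
    exact (IsLocalization.algebraMap_mem_map_algebraMap_iff p.primeCompl R _ a).1 this |>.elim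
      fun m hm => ⟨⟨m, hm.1⟩, hm.2⟩
  choose! m hm using h0
  refine ⟨∏ a ∈ s, (m a : A), prod_mem (S := p.primeCompl) fun a _ => (m a).2, fun a ha => ?_⟩
  have ha' : a ∈ Submodule.span A (s : Set A) := by rw [hs]; exact ha
  clear ha
  induction ha' using Submodule.span_induction with
  | mem y hy =>
    rw [← Finset.prod_erase_mul s _ hy, mul_assoc]
    exact Ideal.mul_mem_left _ _ (hm y (hs ▸ Submodule.subset_span hy))
  | zero => rw [mul_zero]; exact zero_mem _
  | add y z _ _ ihy ihz => rw [mul_add]; exact add_mem ihy ihz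
  | smul c y _ ih => rw [smul_eq_mul, mul_left_comm]; exact Ideal.mul_mem_left _ _ ih

/-- Nagata's criterion. -/
theorem isOpen_regLocus_of_quotients [IsNoetherianRing A]
    (h : ∀ p : PrimeSpectrum A, p ∈ EGA4.regLocus A → ∃ U : Set (PrimeSpectrum (A ⧸ p.asIdeal)),
      IsOpen U ∧ U.Nonempty ∧ U ⊆ EGA4.regLocus (A ⧸ p.asIdeal)) :
    IsOpen (EGA4.regLocus A) := by
  refine isOpen_of_generization_nhds _ regLocus_generization fun p hp => ?_
  obtain ⟨x, hx, hcard, f, hfp, hgen⟩ := exists_generators_of_regular p.asIdeal hp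
  obtain ⟨U, hU, ⟨P₀, hP₀⟩, hUreg⟩ := h p hp
  have hind : Topology.IsInducing (PrimeSpectrum.comap (Ideal.Quotient.mk p.asIdeal)) :=
    (PrimeSpectrum.isClosedEmbedding_comap_of_surjective _ _
      Ideal.Quotient.mk_surjective).isEmbedding.isInducing
  obtain ⟨O, hO, hOU⟩ := hind.isOpen_iff.1 hU
  refine ⟨O ∩ PrimeSpectrum.basicOpen f, hO.inter (PrimeSpectrum.basicOpen f).isOpen, ⟨?_, hfp⟩, ?_⟩
  · rw [← hOU] at hP₀
    exact mem_of_le_of_isOpen hO (fun a ha => by
      change Ideal.Quotient.mk p.asIdeal a ∈ P₀.asIdeal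
      rw [Ideal.Quotient.eq_zero_iff_mem.2 ha]
      exact P₀.asIdeal.zero_mem) hP₀
  · rintro y ⟨⟨hyO, hyf⟩, hyp⟩
    obtain ⟨P, rfl⟩ : y ∈ Set.range (PrimeSpectrum.comap (Ideal.Quotient.mk p.asIdeal)) := by
      rw [range_comap_of_surjective _ _ Ideal.Quotient.mk_surjective, Ideal.mk_ker]
      exact hyp
    exact isRegularLocalRing_of_quotient p.asIdeal P.asIdeal x hx hcard f hyf hgen
      (hUreg (hOU ▸ hyO))

theorem bot_mem_regLocus {B : Type u} [CommRing B] [IsDomain B] :
    (⟨⊥, Ideal.isPrime_bot⟩ : PrimeSpectrum B) ∈ EGA4.regLocus B := by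
  haveI : IsFractionRing B (Localization.AtPrime (⊥ : Ideal B)) := by
    have e : (⊥ : Ideal B).primeCompl = nonZeroDivisors B := by
      ext x; simp [Ideal.primeCompl]
    change IsLocalization _ _
    rw [← e]
    infer_instance
  letI := IsFractionRing.toField B (K := Localization.AtPrime (⊥ : Ideal B))
  exact (inferInstance : IsRegularLocalRing (Localization.AtPrime (⊥ : Ideal B)))

/-- Invariance of the regular locus under ring isomorphisms. -/
theorem exists_regular_open_of_ringEquiv {B C : Type u} [CommRing B] [CommRing C] (e : B ≃+* C)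
    (h : ∃ U : Set (PrimeSpectrum B), IsOpen U ∧ U.Nonempty ∧ U ⊆ EGA4.regLocus B) :
    ∃ U : Set (PrimeSpectrum C), IsOpen U ∧ U.Nonempty ∧ U ⊆ EGA4.regLocus C := by
  obtain ⟨U, hU, ⟨P, hP⟩, hreg⟩ := h
  refine ⟨PrimeSpectrum.comap e.toRingHom ⁻¹' U, hU.preimage (PrimeSpectrum.continuous_comap _),
    ⟨PrimeSpectrum.comap e.symm.toRingHom P, ?_⟩, fun Q hQ => ?_⟩
  · change PrimeSpectrum.comap e.toRingHom (PrimeSpectrum.comap e.symm.toRingHom P) ∈ U
    rw [← PrimeSpectrum.comap_comp_apply]
    simpa using hP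
  · haveI : IsRegularLocalRing (Localization.AtPrime (Q.asIdeal.comap e.toRingHom)) := hreg hQ
    letI : Algebra B C := e.toRingHom.toAlgebra
    haveI : IsLocalization (⊥ : Submonoid B) B := IsLocalization.self bot_le
    haveI : IsLocalization (⊥ : Submonoid B) C :=
      IsLocalization.isLocalization_of_algEquiv (⊥ : Submonoid B)
        (AlgEquiv.ofRingEquiv (f := e) fun _ => rfl)
    haveI := IsLocalization.isLocalization_isLocalization_atPrime_isLocalization
      (⊥ : Submonoid B) (Localization.AtPrime Q.asIdeal) Q.asIdeal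
    exact IsRegularLocalRing.of_ringEquiv
      (R := Localization.AtPrime (Q.asIdeal.comap (algebraMap B C)))
      (IsLocalization.algEquiv (Q.asIdeal.comap (algebraMap B C)).primeCompl _ _).toRingEquiv

end Groth.Agent.Lib.Excellent.RegLocus
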