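import Groth.Agent.Lib.Excellent.GenericRegularExt
import Groth.Agent.Lib.Excellent.Nagata
import Mathlib.RingTheory.DedekindDomain.IntegralClosure
import Mathlib.RingTheory.Ideal.GoingUp
import Mathlib.RingTheory.QuasiFinite.Basic
import Mathlib.RingTheory.Localization.Finiteness

/-!
Standard J-2 rings: fields, semilocal rings of dimension one, Dedekind domains of characteristic
zero, Nagata rings of dimension one.
-/

set_option linter.style.haveILetI false

universe u

namespace Groth.Agent.Lib.Excellent.GenericRegularApps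

open GenericRegular GenericRegularExt

theorem isJ2_of_field (k : Type u) [Field k] : EGA4.IsJ2 k :=
  isJ2_of_finite_domains k fun A' _ _ _ _ =>
    genReg_of_isField (isField_of_isIntegral_of_isField' (R := k) (Field.toIsField k))

/-- Nonzero primes are maximal in a finite domain over a ring of dimension at most one. -/
theorem dimensionLEOne_of_finite {A C : Type u} [CommRing A] (hdim : ringKrullDim A ≤ 1)
    [CommRing C] [IsDomain C] [Algebra A C] [Module.Finite A C] : Ring.DimensionLEOne C := by
  haveI : Algebra.IsIntegral A C := inferInstance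
  refine ⟨fun {Q} hQ hQp => ?_⟩
  obtain ⟨M, hM, hQM⟩ := Ideal.exists_le_maximal Q hQp.ne_top
  by_contra hQmax
  have hlt : Q < M := lt_of_le_of_ne hQM fun h => hQmax (h ▸ hM)
  obtain ⟨x, hxM, hxQ⟩ := SetLike.exists_of_lt hlt
  obtain ⟨y, hyQ, hy0⟩ := Submodule.exists_mem_ne_zero_of_ne_bot hQ
  have h1 : (⊥ : Ideal C).comap (algebraMap A C) < Q.comap (algebraMap A C) :=
    Ideal.comap_lt_comap_of_integral_mem_sdiff (hI := Ideal.isPrime_bot) bot_le
      ⟨hyQ, fun h => hy0 (by simpa using h)⟩ (Algebra.IsIntegral.isIntegral y)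
  have h2 : Q.comap (algebraMap A C) < M.comap (algebraMap A C) :=
    Ideal.comap_lt_comap_of_integral_mem_sdiff hQM ⟨hxM, hxQ⟩ (Algebra.IsIntegral.isIntegral x)
  haveI : M.IsPrime := hM.isPrime
  let p0 : PrimeSpectrum A := ⟨(⊥ : Ideal C).comap (algebraMap A C), inferInstance⟩
  let p1 : PrimeSpectrum A := ⟨Q.comap (algebraMap A C), inferInstance⟩
  let p2 : PrimeSpectrum A := ⟨M.comap (algebraMap A C), inferInstance⟩
  let l : LTSeries (PrimeSpectrum A) :=
    ((RelSeries.singleton _ p0).snoc p1 (by simpa using! (show p0 < p1 from h1))).snoc p2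
      (by simpa using! (show p1 < p2 from h2))
  have := (Order.LTSeries.length_le_krullDim l).trans hdim
  have h21 : ((2 : ℕ) : WithBot ℕ∞) ≤ ((1 : ℕ) : WithBot ℕ∞) := by simpa [l] using! this
  exact absurd (Nat.cast_le.1 h21) (by norm_num)

/-- Semilocal rings of dimension at most one. -/
theorem isJ2_of_semilocal (A : Type u) [CommRing A] [IsNoetherianRing A]
    (hsl : {I : Ideal A | I.IsMaximal}.Finite) (hdim : ringKrullDim A ≤ 1) : EGA4.IsJ2 A := by
  classical
  refine isJ2_of_finite_domains A fun A' _ _ _ hfin => ?_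
  haveI := dimensionLEOne_of_finite (C := A') hdim
  haveI : Algebra.IsIntegral A A' := inferInstance
  have hfinA' : {M : Ideal A' | M.IsMaximal ∧ M ≠ ⊥}.Finite := by
    refine Set.Finite.subset (hsl.biUnion fun p _ => Algebra.QuasiFinite.finite_primesOver
      (R := A) (S := A') p) fun M hM => ?_
    haveI := hM.1
    exact Set.mem_biUnion (Ideal.isMaximal_comap_of_isIntegral_of_isMaximal M)
      ⟨hM.1.isPrime, ⟨rfl⟩⟩
  have hne : ∀ M ∈ hfinA'.toFinset, ∃ x : A', x ∈ M ∧ x ≠ 0 := fun M hM =>
    Submodule.exists_mem_ne_zero_of_ne_bot (hfinA'.mem_toFinset.1 hM).2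
  choose! g hg hg0 using hne
  refine ⟨∏ M ∈ hfinA'.toFinset, g M, Finset.prod_ne_zero_iff.2 hg0, fun q hq => ?_⟩
  have hbot : q = ⟨⊥, Ideal.isPrime_bot⟩ := by
    refine PrimeSpectrum.ext ?_
    by_contra h
    have hmem : q.asIdeal ∈ hfinA'.toFinset :=
      hfinA'.mem_toFinset.2 ⟨Ring.DimensionLEOne.maximalOfPrime h q.isPrime, h⟩
    exact hq (q.asIdeal.mem_of_dvd (Finset.dvd_prod_of_mem _ hmem) (hg _ hmem))
  rw [hbot]
  exact RegLocus.bot_mem_regLocus

/-- Dedekind domains with fraction field of characteristic zero. -/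
theorem isJ2_of_dedekind (A : Type u) [CommRing A] [IsDedekindDomain A] [CharZero A] :
    EGA4.IsJ2 A := by
  refine isJ2_of_finite_domains A fun A' _ _ _ hfin => ?_
  set p := RingHom.ker (algebraMap A A') with hp
  haveI : p.IsPrime := RingHom.ker_isPrime _
  by_cases hbot : p = ⊥
  · haveI : FaithfulSMul A A' := (faithfulSMul_iff_algebraMap_injective _ _).2
      ((RingHom.injective_iff_ker_eq_bot _).2 hbot)
    let K := FractionRing A
    let L := FractionRing A'
    letI : Algebra K L := FractionRing.liftAlgebra A L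
    haveI : CharZero K := charZero_of_injective_algebraMap (IsFractionRing.injective A K)
    haveI : Algebra.IsAlgebraic K L := isAlgebraic_of_isFractionRing A A' ..
    haveI : Algebra.IsSeparable K L := inferInstance
    refine genReg_of_isSeparable (P := A) (B := A') K L ⟨1, one_ne_zero, fun q _ => ?_⟩
    exact IsRegularRing.isRegularLocalRing_localization q.asIdeal
  · haveI : p.IsMaximal := Ring.DimensionLEOne.maximalOfPrime hbot inferInstance
    letI : Algebra (A ⧸ p) A' := (RingHom.kerLift (algebraMap A A')).toAlgebra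
    haveI : IsScalarTower A (A ⧸ p) A' := IsScalarTower.of_algebraMap_eq fun _ => rfl
    haveI : Module.Finite (A ⧸ p) A' := Module.Finite.of_restrictScalars_finite A _ _
    exact genReg_of_isField (isField_of_isIntegral_of_isField' (R := A ⧸ p)
      ((Ideal.Quotient.maximal_ideal_iff_isField_quotient p).1 inferInstance))

/-- Nagata rings of dimension at most one. -/
theorem isJ2_of_isNagata (A : Type u) [CommRing A] (hA : CAlg.IsNagata A)
    (hdim : ringKrullDim A ≤ 1) : EGA4.IsJ2 A := by
  haveI := hA.1
  refine isJ2_of_finite_domains A fun A' _ _ _ hfin => ?_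
  set p := RingHom.ker (algebraMap A A') with hp
  haveI : p.IsPrime := RingHom.ker_isPrime _
  letI : Algebra (A ⧸ p) A' := (RingHom.kerLift (algebraMap A A')).toAlgebra
  haveI : IsScalarTower A (A ⧸ p) A' := IsScalarTower.of_algebraMap_eq fun _ => rfl
  haveI : Module.Finite (A ⧸ p) A' := Module.Finite.of_restrictScalars_finite A _ _
  haveI : FaithfulSMul (A ⧸ p) A' := (faithfulSMul_iff_algebraMap_injective _ _).2
    (RingHom.kerLift_injective _)
  let K := FractionRing (A ⧸ p)
  let L := FractionRing A'
  letI : Algebra K L := FractionRing.liftAlgebra (A ⧸ p) L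
  haveI : Algebra.IsAlgebraic K L := isAlgebraic_of_isFractionRing (A ⧸ p) A' ..
  haveI : Algebra.EssFiniteType (A ⧸ p) L := Algebra.EssFiniteType.comp (A ⧸ p) A' L
  haveI : Algebra.EssFiniteType K L := Algebra.EssFiniteType.of_comp (A ⧸ p) K L
  haveI : FiniteDimensional K L := Algebra.finite_of_essFiniteType_of_isAlgebraic
  haveI := Nagata.finite_integralClosure_of_isN2 (hA.2 p) K L
  let C := integralClosure (A ⧸ p) L
  haveI : IsFractionRing C L := integralClosure.isFractionRing_of_finite_extension K L
  haveI : IsIntegrallyClosed C := integralClosure.isIntegrallyClosedOfFiniteExtension K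
  haveI : Module.Finite A C := Module.Finite.trans (A ⧸ p) C
  haveI : IsNoetherianRing C := IsNoetherianRing.of_finite A C
  haveI := dimensionLEOne_of_finite (C := C) hdim
  haveI : IsDedekindRing C := { }
  haveI : IsDedekindDomain C := { }
  let ι : A' →ₐ[A ⧸ p] C := AlgHom.codRestrict (IsScalarTower.toAlgHom (A ⧸ p) A' L) _
    fun x => (Algebra.IsIntegral.isIntegral (R := A ⧸ p) x).map (IsScalarTower.toAlgHom (A ⧸ p) A' L)
  letI : Algebra A' C := ι.toRingHom.toAlgebra
  haveI : IsScalarTower (A ⧸ p) A' C := IsScalarTower.of_algebraMap_eq fun x => (ι.commutes x).symm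
  haveI : Module.Finite A' C := Module.Finite.of_restrictScalars_finite (A ⧸ p) _ _
  haveI : FaithfulSMul A' C := (faithfulSMul_iff_algebraMap_injective _ _).2 fun x y h =>
    IsFractionRing.injective A' L (congrArg Subtype.val h)
  haveI : IsNoetherianRing A' := IsNoetherianRing.of_finite A A'
  refine genReg_of_finite (S := C) ⟨1, one_ne_zero, fun q _ => ?_⟩
  exact IsRegularRing.isRegularLocalRing_localization q.asIdeal

end Groth.Agent.Lib.Excellent.GenericRegularApps
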