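import Groth.Agent.Lib.Regular.Descent
import Groth.Agent.Lib.Excellent.RegLocus
import Mathlib.RingTheory.Etale.Locus
import Mathlib.RingTheory.Etale.Field
import Mathlib.RingTheory.Unramified.LocalRing
import Mathlib.RingTheory.Spectrum.Prime.FreeLocus
import Mathlib.RingTheory.RegularLocalRing.Polynomial
import Mathlib.RingTheory.MvPolynomial.Localization
import Mathlib.RingTheory.Flat.Localization
import Mathlib.RingTheory.Smooth.Flat
import Mathlib.FieldTheory.SeparableClosure
import Mathlib.RingTheory.Algebraic.Integral

/-!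
Generic regularity (J-0) of domains: invariance, ascent along generically separable extensions,
descent along finite and finite type injective extensions.
-/

set_option linter.style.haveILetI false
set_option linter.unusedSectionVars false

universe u

namespace Groth.Agent.Lib.Excellent.GenericRegular

open IsLocalRing

/-- Some nonzero `f` has regular local rings on `D(f)`. -/
def GenReg (R : Type u) [CommRing R] : Prop :=
  ∃ f : R, f ≠ 0 ∧ ∀ q : PrimeSpectrum R, f ∉ q.asIdeal → q ∈ EGA4.regLocus R

theorem genReg_iff (R : Type u) [CommRing R] [IsDomain R] :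
    GenReg R ↔ ∃ U : Set (PrimeSpectrum R), IsOpen U ∧ U.Nonempty ∧ U ⊆ EGA4.regLocus R := by
  constructor
  · rintro ⟨f, hf, h⟩
    refine ⟨PrimeSpectrum.basicOpen f, (PrimeSpectrum.basicOpen f).isOpen,
      ⟨⟨⊥, Ideal.isPrime_bot⟩, fun hb => hf (by simpa using hb)⟩, fun q hq => h q hq⟩
  · rintro ⟨U, hU, ⟨P, hP⟩, hreg⟩
    obtain ⟨_, ⟨_, ⟨f, rfl⟩, rfl⟩, hPf, hfU⟩ :=
      PrimeSpectrum.isBasis_basic_opens.exists_subset_of_mem_open hP hU
    exact ⟨f, fun h => hPf (by simp [h]), fun q hq => hreg (hfU hq)⟩

/-- Regularity transfers to a localization. -/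
theorem mem_regLocus_localization {R S : Type u} [CommRing R] [CommRing S] [Algebra R S]
    (M : Submonoid R) [IsLocalization M S] (q : PrimeSpectrum S) :
    q ∈ EGA4.regLocus S ↔ PrimeSpectrum.comap (algebraMap R S) q ∈ EGA4.regLocus R := by
  haveI : IsLocalization.AtPrime (Localization.AtPrime q.asIdeal)
      (q.asIdeal.comap (algebraMap R S)) :=
    IsLocalization.isLocalization_isLocalization_atPrime_isLocalization M
      (Localization.AtPrime q.asIdeal) q.asIdeal
  let e := (IsLocalization.algEquiv (q.asIdeal.comap (algebraMap R S)).primeCompl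
    (Localization.AtPrime (q.asIdeal.comap (algebraMap R S)))
    (Localization.AtPrime q.asIdeal)).toRingEquiv
  change IsRegularLocalRing _ ↔
    IsRegularLocalRing (Localization.AtPrime (q.asIdeal.comap (algebraMap R S)))
  exact ⟨fun h => @IsRegularLocalRing.of_ringEquiv _ _ h _ _ e.symm,
    fun h => @IsRegularLocalRing.of_ringEquiv _ _ h _ _ e⟩

theorem genReg_of_isField {K : Type u} [CommRing K] [IsDomain K] (h : IsField K) : GenReg K := by
  refine ⟨1, one_ne_zero, fun q _ => ?_⟩
  have hq : q = ⟨⊥, Ideal.isPrime_bot⟩ := PrimeSpectrum.ext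
    (letI := h.toField; (Ideal.eq_bot_or_top q.asIdeal).resolve_right q.isPrime.ne_top)
  rw [hq]
  exact RegLocus.bot_mem_regLocus

theorem genReg_of_ringEquiv {R S : Type u} [CommRing R] [CommRing S] (e : R ≃+* S) (h : GenReg R) :
    GenReg S := by
  letI : Algebra R S := e.toRingHom.toAlgebra
  haveI : IsLocalization (⊥ : Submonoid R) R := IsLocalization.self bot_le
  haveI : IsLocalization (⊥ : Submonoid R) S :=
    IsLocalization.isLocalization_of_algEquiv (⊥ : Submonoid R)
      (AlgEquiv.ofRingEquiv (f := e) fun _ => rfl)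
  obtain ⟨f, hf, h⟩ := h
  refine ⟨e f, (map_ne_zero_iff _ e.injective).2 hf, fun q hq => ?_⟩
  exact (mem_regLocus_localization (⊥ : Submonoid R) q).2 (h _ hq)

/-- Regularity ascends along etale algebras. -/
theorem mem_regLocus_of_etale {R S : Type u} [CommRing R] [IsNoetherianRing R] [CommRing S]
    [Algebra R S] [Algebra.Etale R S] (q : PrimeSpectrum S)
    (h : PrimeSpectrum.comap (algebraMap R S) q ∈ EGA4.regLocus R) : q ∈ EGA4.regLocus S := by
  haveI : IsNoetherianRing S := Algebra.FiniteType.isNoetherianRing R S
  set p := q.asIdeal.comap (algebraMap R S) with hp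
  haveI : q.asIdeal.LiesOver p := ⟨rfl⟩
  letI := Localization.AtPrime.algebraOfLiesOver p q.asIdeal
  haveI : IsLocalHom (algebraMap (Localization.AtPrime p) (Localization.AtPrime q.asIdeal)) :=
    Localization.isLocalHom_localRingHom p q.asIdeal _ _
  haveI : Module.Flat (Localization.AtPrime p) (Localization.AtPrime q.asIdeal) := by
    rw [Module.flat_iff_of_isLocalization (Localization.AtPrime p) p.primeCompl]
    exact Module.Flat.trans R S _
  haveI : Algebra.FormallyUnramified S (Localization.AtPrime q.asIdeal) :=
    Algebra.FormallyUnramified.of_isLocalization q.asIdeal.primeCompl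
  haveI : Algebra.FormallyUnramified R (Localization.AtPrime q.asIdeal) :=
    Algebra.FormallyUnramified.comp R S _
  haveI : Algebra.FormallyUnramified (Localization.AtPrime p) (Localization.AtPrime q.asIdeal) :=
    Algebra.FormallyUnramified.of_restrictScalars R _ _
  haveI : Algebra.EssFiniteType R (Localization.AtPrime q.asIdeal) :=
    Algebra.EssFiniteType.comp R S _
  haveI : Algebra.EssFiniteType (Localization.AtPrime p) (Localization.AtPrime q.asIdeal) :=
    Algebra.EssFiniteType.of_comp R _ _
  exact (Regular.Descent.isRegularLocalRing_iff (R := Localization.AtPrime p)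
    (Localization.AtPrime q.asIdeal)
    Algebra.FormallyUnramified.map_maximalIdeal).1 h

/-- Regularity descends along flat maps. -/
theorem mem_regLocus_of_flat {R S : Type u} [CommRing R] [IsNoetherianRing R] [CommRing S]
    [Algebra R S] (q : PrimeSpectrum S) [Module.Flat R (Localization.AtPrime q.asIdeal)]
    (h : q ∈ EGA4.regLocus S) : PrimeSpectrum.comap (algebraMap R S) q ∈ EGA4.regLocus R := by
  set p := q.asIdeal.comap (algebraMap R S) with hp
  haveI : q.asIdeal.LiesOver p := ⟨rfl⟩
  letI := Localization.AtPrime.algebraOfLiesOver p q.asIdeal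
  haveI : IsLocalHom (algebraMap (Localization.AtPrime p) (Localization.AtPrime q.asIdeal)) :=
    Localization.isLocalHom_localRingHom p q.asIdeal _ _
  haveI : Module.Flat (Localization.AtPrime p) (Localization.AtPrime q.asIdeal) := by
    rw [Module.flat_iff_of_isLocalization (Localization.AtPrime p) p.primeCompl]
    infer_instance
  haveI : IsRegularLocalRing (Localization.AtPrime q.asIdeal) := h
  exact Regular.Descent.isRegularLocalRing_of_flat (R := Localization.AtPrime p)
    (Localization.AtPrime q.asIdeal)

/-- Generic regularity ascends along a generically separable algebraic extension. -/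
theorem genReg_of_isSeparable {P B : Type u} [CommRing P] [IsDomain P] [IsNoetherianRing P]
    [CommRing B] [IsDomain B] [Algebra P B] [FaithfulSMul P B] [Algebra.FiniteType P B]
    (K L : Type u) [Field K] [Field L] [Algebra P K] [IsFractionRing P K] [Algebra B L]
    [IsFractionRing B L] [Algebra K L] [Algebra P L] [IsScalarTower P K L] [IsScalarTower P B L]
    [Algebra.IsSeparable K L] (hP : GenReg P) : GenReg B := by
  haveI : Algebra.FinitePresentation P B := Algebra.FinitePresentation.of_finiteType.1 inferInstance
  haveI : Algebra.FormallyEtale P K := Algebra.FormallyEtale.of_isLocalization (nonZeroDivisors P)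
  haveI : Algebra.FormallyEtale K L := Algebra.FormallyEtale.of_isSeparable K L
  haveI : Algebra.FormallyEtale P L := Algebra.FormallyEtale.comp P K L
  haveI : IsFractionRing B (Localization.AtPrime (⊥ : Ideal B)) := by
    have e : (⊥ : Ideal B).primeCompl = nonZeroDivisors B := by
      ext x; simp [Ideal.primeCompl]
    change IsLocalization _ _
    rw [← e]
    infer_instance
  haveI : Algebra.IsEtaleAt P (⊥ : Ideal B) :=
    Algebra.FormallyEtale.of_equiv ((IsLocalization.algEquiv (nonZeroDivisors B) L
      (Localization.AtPrime (⊥ : Ideal B))).restrictScalars P)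
  obtain ⟨g, hg, hget⟩ := Algebra.exists_etale_of_isEtaleAt (R := P) (⊥ : Ideal B)
  obtain ⟨a, ha, hreg⟩ := hP
  refine ⟨g * algebraMap P B a, mul_ne_zero (by simpa using hg)
    ((map_ne_zero_iff _ (FaithfulSMul.algebraMap_injective P B)).2 ha), fun q hq => ?_⟩
  obtain ⟨hgq, haq⟩ : g ∉ q.asIdeal ∧ algebraMap P B a ∉ q.asIdeal :=
    ⟨fun h => hq (Ideal.mul_mem_right _ _ h), fun h => hq (Ideal.mul_mem_left _ _ h)⟩
  obtain ⟨q', rfl⟩ : q ∈ Set.range (PrimeSpectrum.comap (algebraMap B (Localization.Away g))) := by
    rw [PrimeSpectrum.localization_away_comap_range (Localization.Away g) g]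
    exact hgq
  refine (mem_regLocus_localization (Submonoid.powers g) q').1
    (mem_regLocus_of_etale (R := P) (S := Localization.Away g) q' ?_)
  refine hreg _ fun h => haq ?_
  change algebraMap B (Localization.Away g) (algebraMap P B a) ∈ q'.asIdeal
  rw [← IsScalarTower.algebraMap_apply]
  exact h

/-- Generic regularity of polynomial rings. -/
theorem genReg_mvPolynomial {R : Type u} [CommRing R] [IsDomain R] [IsNoetherianRing R]
    {ι : Type u} [Finite ι] (hR : GenReg R) : GenReg (MvPolynomial ι R) := by
  obtain ⟨a, ha, hreg⟩ := hR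
  haveI : IsRegularRing (Localization.Away a) := by
    refine isRegularRing_iff.mpr fun p hp => ?_
    refine (mem_regLocus_localization (Submonoid.powers a) (R := R) ⟨p, hp⟩).2 (hreg _ fun h => ?_)
    exact hp.ne_top (Ideal.eq_top_of_isUnit_mem _ h
      (IsLocalization.map_units _ ⟨a, Submonoid.mem_powers a⟩))
  refine ⟨MvPolynomial.C a, by simpa using ha, fun q hq => ?_⟩
  letI : Algebra (MvPolynomial ι R) (MvPolynomial ι (Localization.Away a)) :=
    MvPolynomial.algebraMvPolynomial
  haveI : IsLocalization ((Submonoid.powers a).map (MvPolynomial.C (σ := ι)))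
      (MvPolynomial ι (Localization.Away a)) := MvPolynomial.isLocalization (Submonoid.powers a) _
  obtain ⟨q', rfl⟩ : q ∈ Set.range (PrimeSpectrum.comap
      (algebraMap (MvPolynomial ι R) (MvPolynomial ι (Localization.Away a)))) := by
    rw [PrimeSpectrum.localization_comap_range (MvPolynomial ι (Localization.Away a))
      ((Submonoid.powers a).map (MvPolynomial.C (σ := ι)))]
    change Disjoint _ _
    rw [Set.disjoint_left]
    rintro _ ⟨_, ⟨n, rfl⟩, rfl⟩ hn
    rw [SetLike.mem_coe, map_pow] at hn
    exact hq (q.isPrime.mem_of_pow_mem n hn)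
  refine (mem_regLocus_localization ((Submonoid.powers a).map (MvPolynomial.C (σ := ι))) q').1 ?_
  exact IsRegularRing.isRegularLocalRing_localization q'.asIdeal

/-- If a polynomial ring is generically regular, so are the coefficients. -/
theorem genReg_of_mvPolynomial {R : Type u} [CommRing R] [IsDomain R] [IsNoetherianRing R]
    {ι : Type u} [Finite ι] (h : GenReg (MvPolynomial ι R)) : GenReg R := by
  classical
  obtain ⟨g, hg, hreg⟩ := h
  obtain ⟨m, hm⟩ := MvPolynomial.exists_coeff_ne_zero hg
  refine ⟨g.coeff m, hm, fun p hp => ?_⟩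
  let Q : Ideal (MvPolynomial ι R) := p.asIdeal.map MvPolynomial.C
  haveI : Q.IsPrime := by
    have hk : Q = RingHom.ker (MvPolynomial.map (σ := ι) (Ideal.Quotient.mk p.asIdeal)) := by
      rw [MvPolynomial.ker_map, Ideal.mk_ker]
    rw [hk]
    exact RingHom.ker_isPrime _
  have hQ : g ∉ Q := fun hgQ => hp (MvPolynomial.mem_map_C_iff.1 hgQ m)
  have hcomap : PrimeSpectrum.comap (algebraMap R (MvPolynomial ι R)) ⟨Q, inferInstance⟩ = p := by
    refine PrimeSpectrum.ext ?_
    ext x
    change MvPolynomial.C x ∈ Q ↔ _
    rw [MvPolynomial.mem_map_C_iff]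
    refine ⟨fun h => by simpa using h 0, fun h n => ?_⟩
    rw [MvPolynomial.coeff_C]
    split_ifs
    exacts [h, zero_mem _]
  rw [← hcomap]
  haveI : Module.Flat R (Localization.AtPrime Q) := Module.Flat.trans R (MvPolynomial ι R) _
  exact mem_regLocus_of_flat ⟨Q, inferInstance⟩ (hreg _ hQ)

/-- Generic regularity descends along finite injective extensions. -/
theorem genReg_of_finite {R S : Type u} [CommRing R] [IsDomain R] [IsNoetherianRing R]
    [CommRing S] [IsDomain S] [Algebra R S] [FaithfulSMul R S] [Module.Finite R S]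
    (hS : GenReg S) : GenReg R := by
  obtain ⟨f, hf, hreg⟩ := hS
  haveI : Module.FinitePresentation R S := Module.finitePresentation_of_finite R S
  have hbot : (⟨⊥, Ideal.isPrime_bot⟩ : PrimeSpectrum R) ∈ Module.freeLocus R S := by
    rw [Module.mem_freeLocus]
    haveI : IsFractionRing R (Localization.AtPrime (⊥ : Ideal R)) := by
      have e : (⊥ : Ideal R).primeCompl = nonZeroDivisors R := by
        ext x; simp [Ideal.primeCompl]
      change IsLocalization _ _
      rw [← e]
      infer_instance
    letI := IsFractionRing.toField R (K := Localization.AtPrime (⊥ : Ideal R))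
    exact Module.Free.of_divisionRing _ _
  obtain ⟨_, ⟨_, ⟨c, rfl⟩, rfl⟩, hc, hcfree⟩ :=
    PrimeSpectrum.isBasis_basic_opens.exists_subset_of_mem_open hbot Module.isOpen_freeLocus
  have hne : (Ideal.span {f}).comap (algebraMap R S) ≠ ⊥ :=
    Ideal.comap_ne_bot_of_algebraic_mem hf (Ideal.mem_span_singleton_self f)
      (Algebra.IsIntegral.isIntegral f).isAlgebraic
  obtain ⟨b, hb, hb0⟩ := Submodule.exists_mem_ne_zero_of_ne_bot hne
  refine ⟨c * b, mul_ne_zero (fun h => hc (by simp [h])) hb0, fun p hp => ?_⟩
  haveI : Algebra.IsIntegral R S := inferInstance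
  obtain ⟨q, -, hqp, hq⟩ := Ideal.exists_ideal_over_prime_of_isIntegral (S := S) p.asIdeal ⊥ (by
    rw [Ideal.comap_bot_of_injective _ (FaithfulSMul.algebraMap_injective R S)]; exact bot_le)
  have hcomap : PrimeSpectrum.comap (algebraMap R S) ⟨q, hqp⟩ = p := PrimeSpectrum.ext hq
  have hfq : f ∉ q := fun h => hp (Ideal.mul_mem_left _ _ (by
    rw [← hq]
    exact (Ideal.span_singleton_le_iff_mem _).2 h hb))
  rw [← hcomap]
  have hfree : p ∈ Module.freeLocus R S :=
    hcfree (fun h => hp (Ideal.mul_mem_right _ _ h))
  rw [Module.mem_freeLocus] at hfree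
  haveI := hfree
  let T := Localization (Algebra.algebraMapSubmonoid S p.asIdeal.primeCompl)
  haveI : IsLocalizedModule p.asIdeal.primeCompl (IsScalarTower.toAlgHom R S T).toLinearMap :=
    isLocalizedModule_iff_isLocalization.2 inferInstance
  haveI : Module.Flat R (LocalizedModule p.asIdeal.primeCompl S) :=
    Module.Flat.trans R (Localization.AtPrime p.asIdeal) _
  haveI : Module.Flat R T :=
    Module.Flat.of_linearEquiv
      (IsLocalizedModule.iso p.asIdeal.primeCompl (IsScalarTower.toAlgHom R S T).toLinearMap).symm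
  have hle : Algebra.algebraMapSubmonoid S p.asIdeal.primeCompl ≤ q.primeCompl := by
    rintro _ ⟨x, hx, rfl⟩ hxq
    exact hx (by rw [← hq]; exact hxq)
  haveI := hqp
  letI : Algebra T (Localization.AtPrime q) :=
    IsLocalization.localizationAlgebraOfSubmonoidLe T (Localization.AtPrime q) _ _ hle
  haveI : IsScalarTower S T (Localization.AtPrime q) :=
    IsLocalization.localization_isScalarTower_of_submonoid_le _ _ _ _ hle
  haveI := IsLocalization.isLocalization_of_submonoid_le T (Localization.AtPrime q) _ _ hle
  haveI : IsScalarTower R T (Localization.AtPrime q) :=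
    IsScalarTower.of_algebraMap_eq fun x => by
      rw [IsScalarTower.algebraMap_apply R S T, ← IsScalarTower.algebraMap_apply S T,
        ← IsScalarTower.algebraMap_apply R S]
  haveI : Module.Flat T (Localization.AtPrime q) :=
    IsLocalization.flat (Localization.AtPrime q)
      (Submonoid.map (algebraMap S T) q.primeCompl)
  haveI : Module.Flat R (Localization.AtPrime q) := Module.Flat.trans R T _
  exact mem_regLocus_of_flat ⟨q, hqp⟩ (hreg _ hfq)

end Groth.Agent.Lib.Excellent.GenericRegular
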