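import Groth.Agent.Lib.Excellent.NorLocus
import Groth.Agent.Lib.Excellent.Transport
import Mathlib.RingTheory.LocalRing.ResidueField.Ideal

/-!
Openness of the normal locus is decided at the generic points.
-/

set_option linter.style.haveILetI false

universe u

namespace Groth.Agent.Lib.Excellent.NorLocusOpen

open NorLocus

theorem mem_norLocus_domain_iff {B : Type u} [CommRing B] [IsDomain B] (P : PrimeSpectrum B) :
    P ∈ EGA4.norLocus B ↔ NormalAt B (FractionRing B) P.asIdeal :=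
  ⟨fun h => (isIntegrallyClosed_atPrime_iff P.asIdeal).1 h.2,
    fun h => ⟨inferInstance, (isIntegrallyClosed_atPrime_iff P.asIdeal).2 h⟩⟩

theorem bot_mem_norLocus {B : Type u} [CommRing B] [IsDomain B] :
    (⟨⊥, Ideal.isPrime_bot⟩ : PrimeSpectrum B) ∈ EGA4.norLocus B := by
  rw [mem_norLocus_domain_iff]
  intro x _
  obtain ⟨a, s, hs, rfl⟩ := IsFractionRing.div_surjective B x
  refine ⟨s, fun h => nonZeroDivisors.ne_zero hs h, a, ?_⟩
  rw [mul_div_cancel₀ _ ((map_ne_zero_iff _ (IsFractionRing.injective B (FractionRing B))).2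
    (nonZeroDivisors.ne_zero hs))]

theorem isOpen_norLocus_of_denominators {B : Type u} [CommRing B] [IsDomain B] [IsNoetherianRing B]
    (K : Type u) [Field K] [Algebra B K] [IsFractionRing B K] {f : B} (hf : f ≠ 0)
    (h : ∀ x : K, IsIntegral B x → ∃ n : ℕ, ∃ b, algebraMap B K b = algebraMap B K (f ^ n) * x) :
    IsOpen (EGA4.norLocus B) := by
  have : EGA4.norLocus B = {p : PrimeSpectrum B | GoodAt B K B p.asIdeal} := by
    ext P
    refine ⟨fun hP => (isIntegrallyClosed_atPrime_iff (K := K) P.asIdeal).1 hP.2,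
      fun hP => ⟨inferInstance, (isIntegrallyClosed_atPrime_iff (K := K) P.asIdeal).2 hP⟩⟩
  rw [this]
  exact isOpen_goodAt B hf h

theorem isOpen_norLocus_domain {B : Type u} [CommRing B] [IsDomain B] [IsNoetherianRing B]
    (U : Set (PrimeSpectrum B)) (hU : IsOpen U) (hne : U.Nonempty) (hsub : U ⊆ EGA4.norLocus B) :
    IsOpen (EGA4.norLocus B) := by
  obtain ⟨P, hP⟩ := hne
  obtain ⟨_, ⟨f, rfl⟩, hPf, hfU⟩ :=
    PrimeSpectrum.isTopologicalBasis_basic_opens.exists_subset_of_mem_open hP hU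
  have hf : f ≠ 0 := fun h => by
    subst h
    exact (hPf : (0 : B) ∉ P.asIdeal) P.asIdeal.zero_mem
  refine isOpen_norLocus_of_denominators (FractionRing B) hf fun x hx => ?_
  have : f ∈ (denIdeal B (FractionRing B) x).radical := by
    rw [Ideal.radical_eq_sInf, Submodule.mem_sInf]
    rintro Q ⟨hQ, hQp⟩
    by_contra hfQ
    obtain ⟨s, hs, hb⟩ := (mem_norLocus_domain_iff ⟨Q, hQp⟩).1 (hsub (hfU hfQ)) x hx
    exact hs (hQ hb)
  obtain ⟨n, hn⟩ := this
  exact ⟨n, hn⟩

/-- The normal locus is open as soon as it is so on the integral closed subschemes at its generic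
points. -/
theorem isOpen_norLocus_of_minimalPrimes (A : Type u) [CommRing A] [IsNoetherianRing A]
    (h : ∀ q : PrimeSpectrum A, q.asIdeal ∈ minimalPrimes A → q ∈ EGA4.norLocus A →
      ∀ g : A, g ∉ q.asIdeal → (∀ x ∈ q.asIdeal, g * x = 0) →
      (∀ P : PrimeSpectrum (A ⧸ q.asIdeal), Ideal.Quotient.mk q.asIdeal g ∉ P.asIdeal →
        (P ∈ EGA4.norLocus (A ⧸ q.asIdeal) ↔
          PrimeSpectrum.comap (Ideal.Quotient.mk q.asIdeal) P ∈ EGA4.norLocus A)) →
      IsOpen (EGA4.norLocus (A ⧸ q.asIdeal))) :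
    IsOpen (EGA4.norLocus A) := by
  classical
  rw [isOpen_iff_forall_mem_open]
  intro p hp
  haveI := hp.1
  set q := RingHom.ker (algebraMap A (_root_.Localization.AtPrime p.asIdeal)) with hq
  haveI hqp : q.IsPrime := RingHom.ker_isPrime _
  obtain ⟨s, hs⟩ := IsNoetherian.noetherian q
  have hg0 : ∀ x ∈ q, ∃ m : p.asIdeal.primeCompl, (m : A) * x = 0 := fun x hx =>
    (IsLocalization.map_eq_zero_iff p.asIdeal.primeCompl _ x).1 hx
  choose! m hm using hg0
  let g : A := ∏ x ∈ s, (m x : A)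
  have hgp : g ∉ p.asIdeal := prod_mem (S := p.asIdeal.primeCompl) fun x _ => (m x).2
  have hgq : ∀ x ∈ q, g * x = 0 := by
    intro x hx
    have hx' : x ∈ Submodule.span A (s : Set A) := by rw [hs]; exact hx
    induction hx' using Submodule.span_induction with
    | mem y hy =>
      have hyq : y ∈ q := hs ▸ Submodule.subset_span hy
      change (∏ z ∈ s, (m z : A)) * y = 0
      rw [← Finset.prod_erase_mul s _ hy, mul_assoc, hm y hyq, mul_zero]
    | zero => exact mul_zero g
    | add y z hy hz ihy ihz =>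
      rw [mul_add, ihy (hs ▸ hy), ihz (hs ▸ hz), add_zero]
    | smul a y hy ih =>
      rw [smul_eq_mul, mul_left_comm, ih (hs ▸ hy), mul_zero]
  have hle : ∀ Q : Ideal A, Q.IsPrime → g ∉ Q → q ≤ Q := fun Q hQ hgQ x hx =>
    (hQ.mem_or_mem (by rw [hgq x hx]; exact Q.zero_mem)).resolve_left hgQ
  have hqle : q ≤ p.asIdeal := hle _ p.2 hgp
  have hgnq : g ∉ q := fun h => hgp (hqle h)
  have hqmin : q ∈ minimalPrimes A :=
    ⟨⟨hqp, bot_le⟩, fun Q hQ hQq => hle Q hQ.1 fun h => hgnq (hQq h)⟩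
  have hloc : ∀ P : PrimeSpectrum (A ⧸ q), Ideal.Quotient.mk q g ∉ P.asIdeal →
      (P ∈ EGA4.norLocus (A ⧸ q) ↔
        PrimeSpectrum.comap (Ideal.Quotient.mk q) P ∈ EGA4.norLocus A) := by
    intro P hP
    let φ := _root_.Localization.localRingHom (P.asIdeal.comap (Ideal.Quotient.mk q)) P.asIdeal
      (Ideal.Quotient.mk q) rfl
    have hφ : Function.Bijective φ := by
      constructor
      · rw [injective_iff_map_eq_zero]
        intro z hz
        obtain ⟨a, t, rfl⟩ :=
          IsLocalization.exists_mk'_eq (P.asIdeal.comap (Ideal.Quotient.mk q)).primeCompl z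
        rw [_root_.Localization.localRingHom_mk', IsLocalization.mk'_eq_zero_iff] at hz
        obtain ⟨u, hu⟩ := hz
        obtain ⟨u', hu'⟩ := Ideal.Quotient.mk_surjective (u : A ⧸ q)
        rw [← hu', ← map_mul, Ideal.Quotient.eq_zero_iff_mem] at hu
        rw [IsLocalization.mk'_eq_zero_iff]
        refine ⟨⟨g * u', fun h => ?_⟩, ?_⟩
        · rw [SetLike.mem_coe, Ideal.mem_comap, map_mul] at h
          rcases P.2.mem_or_mem h with h | h
          · exact hP h
          · exact u.2 (hu' ▸ h)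
        · change g * u' * a = 0
          rw [mul_assoc]
          exact hgq _ hu
      · intro z
        obtain ⟨a, t, rfl⟩ := IsLocalization.exists_mk'_eq P.asIdeal.primeCompl z
        obtain ⟨a, rfl⟩ := Ideal.Quotient.mk_surjective a
        obtain ⟨t', ht⟩ := Ideal.Quotient.mk_surjective (t : A ⧸ q)
        refine ⟨IsLocalization.mk' _ a (⟨t', fun hm => t.2 (by rw [← ht]; exact hm)⟩ :
          (P.asIdeal.comap (Ideal.Quotient.mk q)).primeCompl), ?_⟩
        rw [_root_.Localization.localRingHom_mk']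
        exact congrArg _ (Subtype.ext ht)
    exact ⟨fun h => Transport.isDomain_intClosed_of_ringEquiv (RingEquiv.ofBijective φ hφ).symm h,
      fun h => Transport.isDomain_intClosed_of_ringEquiv (RingEquiv.ofBijective φ hφ) h⟩
  have hqnor : (⟨q, hqp⟩ : PrimeSpectrum A) ∈ EGA4.norLocus A := by
    have := (hloc ⟨⊥, Ideal.isPrime_bot⟩
      (fun h => hgnq (Ideal.Quotient.eq_zero_iff_mem.1 h))).1 bot_mem_norLocus
    convert this using 1
    exact PrimeSpectrum.ext Ideal.mk_ker.symm
  have hW := h ⟨q, hqp⟩ hqmin hqnor g hgnq hgq hloc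
  have hind : Topology.IsInducing (PrimeSpectrum.comap (Ideal.Quotient.mk q)) :=
    (PrimeSpectrum.isClosedEmbedding_comap_of_surjective _ _
      Ideal.Quotient.mk_surjective).isEmbedding.isInducing
  obtain ⟨O, hO, hOW⟩ := hind.isOpen_iff.1 hW
  refine ⟨O ∩ PrimeSpectrum.basicOpen g, ?_, hO.inter (PrimeSpectrum.basicOpen g).isOpen, ?_⟩
  · rintro x ⟨hxO, hxg⟩
    have hxq : q ≤ x.asIdeal := hle _ x.2 hxg
    obtain ⟨P, rfl⟩ : x ∈ Set.range (PrimeSpectrum.comap (Ideal.Quotient.mk q)) := by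
      rw [range_comap_of_surjective _ _ Ideal.Quotient.mk_surjective, Ideal.mk_ker]
      exact hxq
    refine (hloc P hxg).1 ?_
    rw [← hOW]; exact hxO
  · obtain ⟨P, hP⟩ : p ∈ Set.range (PrimeSpectrum.comap (Ideal.Quotient.mk q)) := by
      rw [range_comap_of_surjective _ _ Ideal.Quotient.mk_surjective, Ideal.mk_ker]
      exact hqle
    have hgP : Ideal.Quotient.mk q g ∉ P.asIdeal := by
      intro hm
      apply hgp
      rw [← hP]
      exact hm
    have hmem : P ∈ EGA4.norLocus (A ⧸ q) := (hloc P hgP).2 (by rw [hP]; exact hp)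
    rw [← hOW] at hmem
    refine ⟨?_, hgp⟩
    rw [← hP]
    exact hmem

/-- The normal locus is open iff it contains a neighbourhood of each of its generic points. -/
theorem isOpen_norLocus_of_generic_nhds (A : Type u) [CommRing A] [IsNoetherianRing A]
    (h : ∀ p : PrimeSpectrum A, p.asIdeal ∈ minimalPrimes A → p ∈ EGA4.norLocus A →
      ∃ U : Set (PrimeSpectrum A), IsOpen U ∧ p ∈ U ∧ U ⊆ EGA4.norLocus A) :
    IsOpen (EGA4.norLocus A) := by
  refine isOpen_norLocus_of_minimalPrimes A fun q hq hqn g hg _ hloc => ?_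
  obtain ⟨U, hU, hqU, hsub⟩ := h q hq hqn
  refine isOpen_norLocus_domain
    (PrimeSpectrum.comap (Ideal.Quotient.mk q.asIdeal) ⁻¹' U ∩
      PrimeSpectrum.basicOpen (Ideal.Quotient.mk q.asIdeal g))
    ((hU.preimage (PrimeSpectrum.continuous_comap _)).inter
      (PrimeSpectrum.basicOpen _).isOpen)
    ⟨⟨⊥, Ideal.isPrime_bot⟩, ?_, ?_⟩ fun P hP => (hloc P hP.2).2 (hsub hP.1)
  · change PrimeSpectrum.comap _ _ ∈ U
    convert hqU
    exact PrimeSpectrum.ext Ideal.mk_ker
  · exact fun h => hg (Ideal.Quotient.eq_zero_iff_mem.1 h)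

end Groth.Agent.Lib.Excellent.NorLocusOpen
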