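import Groth.Agent.Lib.Excellent.NorLocus
import Mathlib.RingTheory.Spectrum.Prime.Topology
import Mathlib.RingTheory.Localization.Finiteness
import Mathlib.LinearAlgebra.FiniteDimensional.Basic

/-!
Finiteness of an integral closure from finiteness at one element and at all primes.
-/

set_option linter.style.haveILetI false

universe u

open scoped nonZeroDivisors

namespace Groth.Agent.Lib.Excellent.FiniteClosure

open NorLocus

theorem exists_finset_of_localized {A : Type u} [CommRing A] (S : Submonoid A) (M : Type u)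
    [AddCommGroup M] [Module A M] (h : Module.Finite (Localization S) (LocalizedModule S M)) :
    ∃ s : Finset M, ∀ x : M, ∃ t : S, (t : A) • x ∈ Submodule.span A (s : Set M) := by
  classical
  obtain ⟨G, hG⟩ := h.1
  choose num den hnd using fun y : LocalizedModule S M => (⟨_, _,
    (IsLocalizedModule.mk'_surjective S (LocalizedModule.mkLinearMap S M) y).choose_spec⟩ :
      ∃ z t, IsLocalizedModule.mk' (LocalizedModule.mkLinearMap S M) z t = y)
  refine ⟨G.image num, fun x => ?_⟩
  have key : ∀ y : LocalizedModule S M, y ∈ Submodule.span (Localization S) (G : Set _) →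
      ∃ z ∈ Submodule.span A ((G.image num : Finset M) : Set M), ∃ t : S, (t : A) • y =
        LocalizedModule.mkLinearMap S M z := by
    intro y hy
    induction hy using Submodule.span_induction with
    | mem y hy =>
      refine ⟨num y, Submodule.subset_span (Finset.mem_coe.2 (Finset.mem_image_of_mem _ hy)),
        den y, ?_⟩
      have h' := IsLocalizedModule.mk'_cancel' (LocalizedModule.mkLinearMap S M) (num y) (den y)
      rw [hnd] at h'
      exact h'
    | zero => exact ⟨0, zero_mem _, 1, by simp⟩
    | add y y' _ _ ih ih' =>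
      obtain ⟨z, hz, t, ht⟩ := ih
      obtain ⟨z', hz', t', ht'⟩ := ih'
      refine ⟨(t' : A) • z + (t : A) • z', add_mem (Submodule.smul_mem _ _ hz)
        (Submodule.smul_mem _ _ hz'), t * t', ?_⟩
      rw [map_add, map_smul, map_smul, ← ht, ← ht', smul_smul, smul_smul, smul_add,
        Submonoid.coe_mul, mul_comm (t : A)]
    | smul c y _ ih =>
      obtain ⟨z, hz, t, ht⟩ := ih
      obtain ⟨a, u, rfl⟩ := IsLocalization.exists_mk'_eq S c
      refine ⟨a • z, Submodule.smul_mem _ _ hz, u * t, ?_⟩
      rw [map_smul, ← ht, Submonoid.coe_mul, smul_smul, ← smul_assoc,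
        ← algebraMap_smul (Localization S) (a * ↑t) y]
      congr 1
      rw [Algebra.smul_def, map_mul, map_mul, mul_right_comm, IsLocalization.mk'_spec']
  obtain ⟨z, hz, t, ht⟩ := key (LocalizedModule.mkLinearMap S M x) (by rw [hG]; trivial)
  rw [← map_smul] at ht
  obtain ⟨v, hv⟩ := (IsLocalizedModule.eq_iff_exists S (LocalizedModule.mkLinearMap S M)).1 ht
  refine ⟨v * t, ?_⟩
  rw [Submonoid.coe_mul, mul_smul, ← Submonoid.smul_def v, hv, Submonoid.smul_def]
  exact Submodule.smul_mem _ _ hz

theorem finite_integralClosure {A : Type u} [CommRing A] [IsDomain A] [IsNoetherianRing A]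
    (K : Type u) [Field K] [Algebra A K] [Algebra (FractionRing A) K]
    [IsScalarTower A (FractionRing A) K] [FiniteDimensional (FractionRing A) K]
    (f : A) (hf : f ≠ 0)
    (h1 : Module.Finite (Localization.Away f)
      (LocalizedModule (Submonoid.powers f) (integralClosure A K)))
    (h2 : ∀ (p : Ideal A) [p.IsPrime],
      Module.Finite (Localization.AtPrime p) (LocalizedModule p.primeCompl (integralClosure A K))) :
    Module.Finite A (integralClosure A K) := by
  classical
  have hinj : Function.Injective (algebraMap A K) := by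
    rw [IsScalarTower.algebraMap_eq A (FractionRing A) K]
    exact (algebraMap (FractionRing A) K).injective.comp (IsFractionRing.injective A _)
  set C := integralClosure A K
  obtain ⟨S₀, hS₀⟩ := exists_finset_of_localized (Submonoid.powers f) C h1
  choose sp hsp using fun p : PrimeSpectrum A =>
    exists_finset_of_localized p.asIdeal.primeCompl C (h2 p.asIdeal)
  let b := Module.finBasis (FractionRing A) K
  have hb : ∀ i, ∃ m : A⁰, IsIntegral A (m • b i) := fun i =>
    IsIntegral.exists_multiple_integral_of_isLocalization (Rₘ := FractionRing A) A⁰ (b i)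
      (Algebra.IsIntegral.isIntegral _)
  choose m hm using hb
  let T₀ : Finset C := S₀ ∪ Finset.univ.image fun i => (⟨m i • b i, hm i⟩ : C)
  let B : Finset C → Subalgebra A K := fun T => Algebra.adjoin A ((↑) '' (T : Set C))
  have hBmem : ∀ (T : Finset C) (x : C), x ∈ Submodule.span A (T : Set C) → (x : K) ∈ B T := by
    intro T x hx
    have : Submodule.span A (T : Set C) ≤
        (Subalgebra.toSubmodule (B T)).comap C.val.toLinearMap :=
      Submodule.span_le.2 fun y hy => Algebra.subset_adjoin ⟨y, hy, rfl⟩
    exact this hx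
  have hBfin : ∀ T : Finset C, Module.Finite A (B T) := fun T =>
    Module.Finite.iff_fg.2 (fg_adjoin_of_finite (T.finite_toSet.image _)
      (by rintro _ ⟨y, -, rfl⟩; exact y.2))
  have hBfrac : ∀ T, T₀ ⊆ T → IsFractionRing (B T) K := by
    intro T hT
    refine IsFractionRing.of_field _ _ fun z => ?_
    obtain ⟨a, ha⟩ := IsLocalization.exist_integer_multiples A⁰ Finset.univ
      (fun i => b.repr z i * algebraMap A (FractionRing A) (1 : A))
    have hbm : ∀ i, ((m i • b i : K)) ∈ B T := fun i => Algebra.subset_adjoin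
      ⟨⟨m i • b i, hm i⟩, hT (Finset.mem_union_right _ (Finset.mem_image_of_mem _ (Finset.mem_univ i))), rfl⟩
    let d : A := a * ∏ i, (m i : A)
    have hd : algebraMap A K d ≠ 0 := (map_ne_zero_iff _ hinj).2 (mul_ne_zero
      (nonZeroDivisors.ne_zero a.2) (Finset.prod_ne_zero_iff.2 fun i _ => nonZeroDivisors.ne_zero (m i).2))
    have hmem : algebraMap A K d * z ∈ B T := by
      rw [← b.sum_repr z, Finset.mul_sum]
      refine Subalgebra.sum_mem _ fun i _ => ?_
      obtain ⟨n, hn⟩ := ha i (Finset.mem_univ i)
      have : algebraMap A K d * (b.repr z i • b i) =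
          algebraMap A K (n * ∏ j ∈ Finset.univ.erase i, (m j : A)) * (m i • b i) := by
        rw [map_one, mul_one, Algebra.smul_def] at hn
        have h3 : algebraMap A K n = algebraMap A K (a : A) * algebraMap (FractionRing A) K (b.repr z i) := by
          rw [IsScalarTower.algebraMap_apply A (FractionRing A) K n, hn, map_mul,
            ← IsScalarTower.algebraMap_apply]
        rw [Algebra.smul_def, Submonoid.smul_def, Algebra.smul_def, map_mul _ n, h3, map_mul,
          ← Finset.prod_erase_mul _ _ (Finset.mem_univ i), map_mul]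
        ring
      rw [this]
      exact (B T).mul_mem ((B T).algebraMap_mem _) (hbm i)
    refine ⟨⟨_, hmem⟩, algebraMap A (B T) d, ?_⟩
    rw [eq_div_iff]
    · exact mul_comm _ _
    · exact hd
  have hopen : ∀ T, T₀ ⊆ T → IsOpen {p : PrimeSpectrum A | GoodAt (B T) K A p.asIdeal} := by
    intro T hT
    haveI := hBfrac T hT
    haveI := hBfin T
    haveI : IsNoetherianRing (B T) := isNoetherian_of_tower A (inferInstance : IsNoetherian A (B T))
    refine isOpen_goodAt A (f := algebraMap A (B T) f)
      (fun h0 => hf (hinj (by simpa using congrArg Subtype.val h0))) fun x hx => ?_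
    have hxC : IsIntegral A x := isIntegral_trans (R := A) (A := B T) x hx
    obtain ⟨⟨_, n, rfl⟩, hn⟩ := hS₀ ⟨x, hxC⟩
    have hmem := hBmem T _ (Submodule.span_mono (Finset.coe_subset.2
      ((Finset.subset_union_left).trans hT)) hn)
    refine ⟨n, ⟨_, hmem⟩, ?_⟩
    change ((((f ^ n : A) • (⟨x, hxC⟩ : C)) : C) : K) = _
    rw [← map_pow, SetLike.val_smul, Algebra.smul_def]
    rfl
  obtain ⟨t, ht⟩ := isCompact_univ.elim_finite_subcover
    (fun p : PrimeSpectrum A => {q : PrimeSpectrum A | GoodAt (B (T₀ ∪ sp p)) K A q.asIdeal})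
    (fun p => hopen _ Finset.subset_union_left) (fun p _ => Set.mem_iUnion.2 ⟨p, fun x hx => by
      haveI := hBfin (T₀ ∪ sp p)
      have hxC : IsIntegral A x := isIntegral_trans (R := A) (A := B (T₀ ∪ sp p)) x hx
      obtain ⟨s, hs⟩ := hsp p ⟨x, hxC⟩
      refine ⟨s, s.2, ⟨_, hBmem (T₀ ∪ sp p) _ (Submodule.span_mono
        (Finset.coe_subset.2 Finset.subset_union_right) hs)⟩, ?_⟩
      change (((s : A) • (⟨x, hxC⟩ : C) : C) : K) = _
      rw [SetLike.val_smul, Algebra.smul_def]
      rfl⟩)
  let T := T₀ ∪ t.biUnion sp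
  haveI := hBfin T
  refine Module.Finite.of_surjective
    ({ toFun := fun x => ⟨x.1, (Algebra.IsIntegral.isIntegral (R := A) x).map (B T).val⟩
       map_add' := fun _ _ => rfl
       map_smul' := fun _ _ => rfl } : B T →ₗ[A] C) fun x => ⟨⟨x.1, ?_⟩, rfl⟩
  let D : Ideal A := ((Subalgebra.toSubmodule (B T)).comap (LinearMap.toSpanSingleton A K (x : K)))
  have hD : D = ⊤ := by
    by_contra hne
    obtain ⟨q, hq, hle⟩ := Ideal.exists_le_maximal D hne
    obtain ⟨p, hp, hgood⟩ := Set.mem_iUnion₂.1 (ht (Set.mem_univ (⟨q, hq.isPrime⟩ : PrimeSpectrum A)))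
    obtain ⟨s, hs, c, hc⟩ := hgood (x : K) (IsIntegral.tower_top x.2)
    refine hs (hle ?_)
    change s • (x : K) ∈ B T
    rw [Algebra.smul_def]
    have hsub : B (T₀ ∪ sp p) ≤ B T := Algebra.adjoin_mono (Set.image_mono (Finset.coe_subset.2
      (Finset.union_subset_union le_rfl (Finset.subset_biUnion_of_mem sp hp))))
    have hc' : (c : K) = algebraMap A K s * x := hc
    rw [← hc']
    exact hsub c.2
  have : (1 : A) ∈ D := by rw [hD]; trivial
  simpa [D] using this

end Groth.Agent.Lib.Excellent.FiniteClosure
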