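import Groth.Prelude.Def_EGA4b
import Mathlib.RingTheory.Ideal.AssociatedPrime.Finiteness
import Mathlib.RingTheory.Ideal.AssociatedPrime.Localization
import Mathlib.RingTheory.Localization.Integral
import Mathlib.RingTheory.Localization.LocalizationLocalization
import Mathlib.RingTheory.Spectrum.Prime.Topology

/-!
The normal locus of a Noetherian domain which is normal on a nonempty open set is open.
-/

set_option linter.style.haveILetI false

universe u

namespace Groth.Agent.Lib.Excellent.NorLocus

section

variable (B : Type u) [CommRing B] (K : Type u) [Field K] [Algebra B K]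

/-- Every element of `K` integral over `B` has a denominator outside `Q`. -/
def NormalAt (Q : Ideal B) : Prop :=
  ∀ x : K, IsIntegral B x → ∃ s, s ∉ Q ∧ ∃ b, algebraMap B K b = algebraMap B K s * x

/-- Every element of `K` integral over `B` has a denominator in `A` outside `p`. -/
def GoodAt (A : Type u) [CommRing A] [Algebra A B] (p : Ideal A) : Prop :=
  ∀ x : K, IsIntegral B x → ∃ s : A, s ∉ p ∧ ∃ b,
    algebraMap B K b = algebraMap B K (algebraMap A B s) * x

/-- The ideal of denominators of an element. -/
def denIdeal (x : K) : Ideal B where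
  carrier := {s | ∃ b, algebraMap B K b = algebraMap B K s * x}
  zero_mem' := ⟨0, by simp⟩
  add_mem' := by
    rintro s t ⟨b, hb⟩ ⟨c, hc⟩
    exact ⟨b + c, by rw [map_add, map_add, hb, hc, add_mul]⟩
  smul_mem' := by
    rintro r s ⟨b, hb⟩
    exact ⟨r * b, by rw [map_mul, hb, smul_eq_mul, map_mul, mul_assoc]⟩

variable {B K}

theorem mem_denIdeal {x : K} {s : B} :
    s ∈ denIdeal B K x ↔ ∃ b, algebraMap B K b = algebraMap B K s * x := Iff.rfl

theorem NormalAt.mono {Q Q' : Ideal B} (h : NormalAt B K Q') (hle : Q ≤ Q') :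
    NormalAt B K Q := fun x hx => by
  obtain ⟨s, hs, hb⟩ := h x hx
  exact ⟨s, fun h' => hs (hle h'), hb⟩

variable [IsDomain B] [IsFractionRing B K] [IsNoetherianRing B]

/-- A prime at which `B` is not normal contains an associated prime of `B / (f)` of the same kind. -/
theorem exists_bad_associatedPrime {f : B} (hf : f ≠ 0)
    (h : ∀ x : K, IsIntegral B x → ∃ n : ℕ, ∃ b, algebraMap B K b = algebraMap B K (f ^ n) * x)
    (Q : Ideal B) [Q.IsPrime] (hQ : ¬ NormalAt B K Q) :
    ∃ P ∈ associatedPrimes B (B ⧸ Ideal.span {f}), P ≤ Q ∧ ¬ NormalAt B K P := by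
  by_contra hne
  push Not at hne
  have hfK : algebraMap B K f ≠ 0 := (map_ne_zero_iff _ (IsFractionRing.injective B K)).2 hf
  apply hQ
  intro x hx
  obtain ⟨n, hn⟩ := h x hx
  clear h
  induction n generalizing x with
  | zero =>
    obtain ⟨b, hb⟩ := hn
    exact ⟨1, fun h1 => Ideal.IsPrime.ne_top ‹_› ((Ideal.eq_top_iff_one _).2 h1),
      b, by simpa using hb⟩
  | succ n ih =>
    obtain ⟨b, hb⟩ := hn
    set y := algebraMap B K (f ^ n) * x with hy
    have hyint : IsIntegral B y := IsIntegral.mul isIntegral_algebraMap hx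
    have hb' : algebraMap B K b = algebraMap B K f * y := by
      rw [hb, hy, pow_succ, map_mul]; ring
    let N : Submodule B (B ⧸ Ideal.span {f}) := Submodule.span B {Ideal.Quotient.mk _ b}
    have hmem : ∀ s, s ∈ Module.annihilator B N ↔ s ∈ denIdeal B K y := by
      intro s
      change s ∈ N.annihilator ↔ _
      rw [Submodule.mem_annihilator_span_singleton, mem_denIdeal]
      change (Ideal.Quotient.mk _ (s * b) = 0) ↔ _
      rw [Ideal.Quotient.eq_zero_iff_mem, Ideal.mem_span_singleton']
      refine exists_congr fun c => ?_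
      rw [← (IsFractionRing.injective B K).eq_iff, map_mul, map_mul, hb']
      constructor
      · intro h
        apply mul_left_cancel₀ hfK
        linear_combination h
      · intro h
        linear_combination (algebraMap B K f) * h
    by_cases hD : Module.annihilator B N ≤ Q
    · obtain ⟨P, hP, hPQ⟩ := Ideal.exists_minimalPrimes_le hD
      haveI : Module.Finite B N := Module.Finite.iff_fg.2 (Submodule.fg_span_singleton _)
      have hPass : P ∈ associatedPrimes B (B ⧸ Ideal.span {f}) :=
        associatedPrimes.subset_of_injective (Submodule.injective_subtype N)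
          (Module.associatedPrimes.minimalPrimes_annihilator_subset_associatedPrimes B N hP)
      obtain ⟨s, hs, hs'⟩ := hne P hPass hPQ y hyint
      exact absurd (hP.1.2 ((hmem s).2 hs')) hs
    · obtain ⟨s, hs, hsQ⟩ := SetLike.not_le_iff_exists.1 hD
      obtain ⟨c, hc⟩ := (hmem s).1 hs
      obtain ⟨t, ht, d, hd⟩ := ih (algebraMap B K s * x) (IsIntegral.mul isIntegral_algebraMap hx)
        ⟨c, by rw [hc, hy]; ring⟩
      refine ⟨t * s, fun hm => ((‹Q.IsPrime›).mem_or_mem hm).elim ht hsQ, d, ?_⟩
      rw [hd, map_mul, mul_assoc]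

/-- The good locus in the base is open. -/
theorem isOpen_goodAt (A : Type u) [CommRing A] [Algebra A B] {f : B} (hf : f ≠ 0)
    (h : ∀ x : K, IsIntegral B x → ∃ n : ℕ, ∃ b, algebraMap B K b = algebraMap B K (f ^ n) * x) :
    IsOpen {p : PrimeSpectrum A | GoodAt B K A p.asIdeal} := by
  let Bad := {P ∈ associatedPrimes B (B ⧸ Ideal.span {f}) | ¬ NormalAt B K P}
  have hfin : Bad.Finite := (associatedPrimes.finite B _).subset fun _ hP => hP.1
  have : {p : PrimeSpectrum A | GoodAt B K A p.asIdeal}ᶜ
      = ⋃ P ∈ Bad, PrimeSpectrum.zeroLocus (P.comap (algebraMap A B) : Set A) := by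
    ext p
    simp only [Set.mem_compl_iff, Set.mem_ofPred_eq, Set.mem_iUnion, PrimeSpectrum.mem_zeroLocus,
      SetLike.coe_subset_coe, exists_prop]
    constructor
    · intro hp
      by_contra hne
      push Not at hne
      apply hp
      intro x hx
      by_contra hx'
      push Not at hx'
      have hd : Disjoint (denIdeal B K x : Set B)
          (Algebra.algebraMapSubmonoid B p.asIdeal.primeCompl : Submonoid B) := by
        rw [Set.disjoint_left]
        rintro _ ⟨b, hb⟩ ⟨s, hs, rfl⟩
        exact hx' s hs b hb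
      obtain ⟨Q, hQ, hQle, hQd⟩ := Ideal.exists_le_prime_disjoint _ _ hd
      haveI := hQ
      have hQbad : ¬ NormalAt B K Q := fun hn => by
        obtain ⟨s, hs, hb⟩ := hn x hx
        exact hs (hQle hb)
      obtain ⟨P, hP, hPQ, hPbad⟩ := exists_bad_associatedPrime hf h Q hQbad
      refine hne P ⟨hP, hPbad⟩ fun a ha => ?_
      by_contra hap
      exact Set.disjoint_left.1 hQd (hPQ ha) ⟨a, hap, rfl⟩
    · rintro ⟨P, hP, hPp⟩ hgood
      apply hP.2
      intro x hx
      obtain ⟨s, hs, hb⟩ := hgood x hx
      exact ⟨algebraMap A B s, fun hm => hs (hPp hm), hb⟩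
  rw [← isClosed_compl_iff, this]
  exact hfin.isClosed_biUnion fun P _ => PrimeSpectrum.isClosed_zeroLocus _

omit [IsNoetherianRing B] in
theorem isIntegrallyClosed_atPrime_iff (Q : Ideal B) [Q.IsPrime] :
    IsIntegrallyClosed (Localization.AtPrime Q) ↔ NormalAt B K Q := by
  have hu : ∀ m : Q.primeCompl, IsUnit (algebraMap B K m) := fun m =>
    Ne.isUnit ((map_ne_zero_iff _ (IsFractionRing.injective B K)).2 fun h0 =>
      m.2 (by rw [h0]; exact Q.zero_mem))
  letI : Algebra (Localization.AtPrime Q) K := (IsLocalization.lift hu).toAlgebra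
  haveI : IsScalarTower B (Localization.AtPrime Q) K := .of_algebraMap_eq fun b =>
    (IsLocalization.lift_eq hu b).symm
  haveI : IsFractionRing (Localization.AtPrime Q) K :=
    IsFractionRing.isFractionRing_of_isDomain_of_isLocalization Q.primeCompl _ K
  rw [isIntegrallyClosed_iff K]
  constructor
  · intro h x hx
    obtain ⟨r, hr⟩ := h (IsIntegral.tower_top (A := Localization.AtPrime Q) hx)
    obtain ⟨b, s, rfl⟩ := IsLocalization.exists_mk'_eq Q.primeCompl r
    refine ⟨s, s.2, b, ?_⟩
    rw [← hr, IsScalarTower.algebraMap_apply B (Localization.AtPrime Q) K,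
      IsScalarTower.algebraMap_apply B (Localization.AtPrime Q) K s.1, ← map_mul,
      IsLocalization.mk'_spec']
  · intro h x hx
    obtain ⟨m, hm⟩ := IsIntegral.exists_multiple_integral_of_isLocalization Q.primeCompl x hx
    obtain ⟨s, hs, b, hb⟩ := h _ hm
    refine ⟨IsLocalization.mk' _ b (⟨s * m, Q.primeCompl.mul_mem hs m.2⟩ : Q.primeCompl), ?_⟩
    let sm : Q.primeCompl := ⟨s * m, Q.primeCompl.mul_mem hs m.2⟩
    have hsm : algebraMap B K (sm : B) ≠ 0 := (hu sm).ne_zero
    apply mul_left_cancel₀ hsm
    have h1 : algebraMap B (Localization.AtPrime Q) (sm : B) *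
        IsLocalization.mk' (Localization.AtPrime Q) b sm = algebraMap B _ b :=
      IsLocalization.mk'_spec' (Localization.AtPrime Q) b sm
    have h2 := congrArg (algebraMap (Localization.AtPrime Q) K) h1
    rw [map_mul, ← IsScalarTower.algebraMap_apply, ← IsScalarTower.algebraMap_apply, hb,
      Submonoid.smul_def, Algebra.smul_def] at h2
    rw [h2, map_mul, mul_assoc]

end

end Groth.Agent.Lib.Excellent.NorLocus
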